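import Mathlib

/-!
# Groups of automorphisms of odd order of an abelian group of order eight
-/

set_option autoImplicit false

namespace H79.Oct

universe u

variable {P : Type u} [CommGroup P] [Finite P] (h8 : Nat.card P = 8) (A : Subgroup (MulAut P))

/-- the fixed points -/
def fix : Subgroup P where
  carrier := {y | ∀ a ∈ A, a y = y}
  mul_mem' := fun {x y} hx hy a ha => by rw [map_mul, hx a ha, hy a ha]
  one_mem' := fun a _ => map_one a
  inv_mem' := fun {x} hx a ha => by rw [map_inv, hx a ha]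

theorem mem_fix {y : P} : y ∈ fix A ↔ ∀ a ∈ A, a y = y := Iff.rfl

/-- the orbit -/
def orb (y : P) : Set P := {x | ∃ a ∈ A, x = a y}

theorem orb_eq (y : P) : orb A y = MulAction.orbit A y := by
  ext x
  constructor
  · rintro ⟨a, ha, rfl⟩
    exact ⟨⟨a, ha⟩, rfl⟩
  · rintro ⟨a, rfl⟩
    exact ⟨a.1, a.2, rfl⟩

theorem self_mem_orb (y : P) : y ∈ orb A y := ⟨1, one_mem _, rfl⟩

theorem orb_odd (hA : Odd (Nat.card A)) (y : P) : Odd (orb A y).ncard := by
  rw [orb_eq, ← Nat.card_coe_set_eq]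
  have h1 : Nat.card (MulAction.orbit A y) ∣ Nat.card A := by
    rw [Nat.card_congr (MulAction.orbitEquivQuotientStabilizer A y)]
    exact Subgroup.index_dvd_card _
  exact Odd.of_dvd_nat hA h1

theorem orb_sub {y : P} (hy : y ∉ fix A) : orb A y ⊆ ((fix A : Set P))ᶜ := by
  rintro x ⟨a, ha, rfl⟩ hx
  apply hy
  have h1 : a⁻¹ (a y) = a y := hx a⁻¹ (inv_mem ha)
  rw [MulAut.inv_apply_self] at h1
  rw [h1]
  exact hx

theorem orb_ge (hA : Odd (Nat.card A)) {y : P} (hy : y ∉ fix A) : 3 ≤ (orb A y).ncard := by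
  have h1 := orb_odd A hA y
  have h2 : (orb A y).ncard ≠ 1 := by
    intro h
    rw [Set.ncard_eq_one] at h
    obtain ⟨z, hz⟩ := h
    have h3 : y = z := by
      have := self_mem_orb A y
      rw [hz] at this
      exact this
    apply hy
    intro a ha
    have h4 : a y ∈ orb A y := ⟨a, ha, rfl⟩
    rw [hz] at h4
    rw [h4, h3]
  obtain ⟨k, hk⟩ := h1
  omega

theorem orb_disj {y z : P} (h : z ∉ orb A y) : Disjoint (orb A y) (orb A z) := by
  rw [Set.disjoint_left]
  rintro x ⟨a, ha, rfl⟩ ⟨b, hb, hab⟩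
  apply h
  refine ⟨b⁻¹ * a, mul_mem (inv_mem hb) ha, ?_⟩
  rw [MulAut.mul_apply, hab, MulAut.inv_apply_self]

include h8

theorem two_pow (x : P) : x ^ 8 = 1 := by
  rw [← h8]; exact pow_card_eq_one'

/-- if there are at least three fixed points then the action is trivial -/
theorem fix_top (hA : Odd (Nat.card A)) (h3 : 3 ≤ Nat.card (fix A)) : fix A = ⊤ := by
  have h1 : Nat.card (fix A) ∣ 8 := h8 ▸ Subgroup.card_subgroup_dvd_card _
  have h2 : Nat.card (fix A) = 4 ∨ Nat.card (fix A) = 8 := by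
    have h4 := Nat.le_of_dvd (by norm_num) h1
    interval_cases h : Nat.card (fix A) <;> revert h1 <;> norm_num
  rcases h2 with h2 | h2
  · have hidx : (fix A).index = 2 := by
      have := (fix A).card_mul_index
      rw [h2, h8] at this
      omega
    rw [eq_top_iff]
    intro y _
    by_contra hy
    apply hy
    intro a ha
    have h4 : a y ∉ fix A := orb_sub A hy ⟨a, ha, rfl⟩
    have h5 : y⁻¹ * a y ∈ fix A := by
      rw [Subgroup.mul_mem_iff_of_index_two hidx, inv_mem_iff]
      exact ⟨fun h => absurd h hy, fun h => absurd h h4⟩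
    set f := y⁻¹ * a y with hf
    have h6 : a y = y * f := by rw [hf]; group
    have h7 : ∀ n : ℕ, (a ^ n) y = y * f ^ n := by
      intro n
      induction n with
      | zero => simp
      | succ n ih =>
        rw [pow_succ', MulAut.mul_apply, ih, map_mul, map_pow, h6, h5 a ha, pow_succ', mul_assoc]
    have h9 := h7 (orderOf a)
    rw [pow_orderOf_eq_one, MulAut.one_apply] at h9
    have h10 : f ^ orderOf a = 1 := (mul_eq_left.1 h9.symm)
    have h11 : Odd (orderOf a) := Odd.of_dvd_nat hA (Subgroup.orderOf_dvd_natCard A ha)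
    have h12 : f = 1 := by
      have h13 : orderOf f ∣ orderOf a := orderOf_dvd_of_pow_eq_one h10
      have h14 : orderOf f ∣ 8 := orderOf_dvd_of_pow_eq_one (two_pow h8 f)
      have h15 : orderOf f ∣ 1 := by
        have : Nat.Coprime (orderOf a) 8 := by
          have : Nat.Coprime (orderOf a) 2 := (Nat.coprime_two_right).2 h11
          exact this.pow_right 3
        rw [← this.gcd_eq_one]
        exact Nat.dvd_gcd h13 h14
      exact orderOf_eq_one_iff.1 (Nat.dvd_one.1 h15)
    rw [h6, h12, mul_one]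
  · exact Subgroup.eq_top_of_card_eq _ (h2.trans h8.symm)

theorem ncard_compl : ((fix A : Set P))ᶜ.ncard = 8 - Nat.card (fix A) := by
  rw [Set.ncard_compl, h8]
  congr 1

/-- two fixed points: the other orbits have length three -/
theorem orb_three (hA : Odd (Nat.card A)) (h2 : Nat.card (fix A) = 2) {y : P} (hy : y ∉ fix A) :
    (orb A y).ncard = 3 := by
  have hn := ncard_compl h8 A
  rw [h2] at hn
  have h3 := orb_ge A hA hy
  have h4 := Set.ncard_le_ncard (orb_sub A hy)
  obtain ⟨k, hk⟩ := orb_odd A hA y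
  by_contra hne
  have h5 : (orb A y).ncard = 5 := by omega
  have h6 : ((fix A : Set P))ᶜ.ncard = 6 := by omega
  have h7 : (((fix A : Set P))ᶜ \ orb A y).ncard = 1 := by
    rw [Set.ncard_sdiff (orb_sub A hy)]; omega
  obtain ⟨z, hz⟩ := Set.ncard_eq_one.1 h7
  have hz' : z ∈ ((fix A : Set P))ᶜ \ orb A y := by rw [hz]; rfl
  have h8' := orb_ge A hA hz'.1
  have h9 : orb A z ⊆ ((fix A : Set P))ᶜ \ orb A y := fun x hx =>
    ⟨orb_sub A hz'.1 hx, fun hx' => Set.disjoint_left.1 (orb_disj A hz'.2) hx' hx⟩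
  have := Set.ncard_le_ncard h9
  omega

/-- no nontrivial fixed points: the action is transitive on the nontrivial elements -/
theorem orb_seven (hA : Odd (Nat.card A)) (h2 : Nat.card (fix A) = 1) {y : P} (hy : y ∉ fix A) :
    (orb A y).ncard = 7 := by
  have hn := ncard_compl h8 A
  rw [h2] at hn
  have h3 := orb_ge A hA hy
  have h4 := Set.ncard_le_ncard (orb_sub A hy)
  obtain ⟨k, hk⟩ := orb_odd A hA y
  by_contra hne
  have h7 : (((fix A : Set P))ᶜ \ orb A y).ncard = 7 - (orb A y).ncard := by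
    rw [Set.ncard_sdiff (orb_sub A hy)]; omega
  have h7' : (((fix A : Set P))ᶜ \ orb A y).Nonempty := by
    rw [← Set.ncard_pos]; omega
  obtain ⟨z, hz'⟩ := h7'
  have h8' := orb_ge A hA hz'.1
  obtain ⟨k', hk'⟩ := orb_odd A hA z
  have h9 : orb A z ⊆ ((fix A : Set P))ᶜ \ orb A y := fun x hx =>
    ⟨orb_sub A hz'.1 hx, fun hx' => Set.disjoint_left.1 (orb_disj A hz'.2) hx' hx⟩
  have h10 := Set.ncard_le_ncard h9
  have h11 : ((((fix A : Set P))ᶜ \ orb A y) \ orb A z).ncard = 1 := by
    rw [Set.ncard_sdiff h9]; omega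
  obtain ⟨w, hw⟩ := Set.ncard_eq_one.1 h11
  have hw' : w ∈ (((fix A : Set P))ᶜ \ orb A y) \ orb A z := by rw [hw]; rfl
  have h12 := orb_ge A hA hw'.1.1
  have h13 : orb A w ⊆ (((fix A : Set P))ᶜ \ orb A y) \ orb A z := fun x hx =>
    ⟨⟨orb_sub A hw'.1.1 hx, fun hx' => Set.disjoint_left.1 (orb_disj A hw'.1.2) hx' hx⟩,
      fun hx' => Set.disjoint_left.1 (orb_disj A hw'.2) hx' hx⟩
  have := Set.ncard_le_ncard h13
  omega

end H79.Oct
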