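import Mathlib
import Cfsg.Agent.Lib.H84.Wat6
import Cfsg.Agent.Lib.H78.ContrL2
import Cfsg.Agent.S4687
import Cfsg.Agent.S4689
import Cfsg.Agent.Lib.H79.Oct

/-!
# Blocks with abelian defect groups of order eight
-/

set_option autoImplicit false
set_option linter.unusedSectionVars false
set_option linter.unusedVariables false
set_option linter.style.haveILetI false

namespace H79.AbEight

open Cfsg H20.Loc H20.GA H80.GA H80.GB H80.GD H80.GE H80.GF H80.GG H80.GH H80.GJ H80.FS H84.RG H18.CharBasic H18.CharOrtho H84.TrR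
open H20.Blk H20.Orth H20.Ind H20.Height H20.Defect H80.BR1 H80.BR2 H80.BR7 H80.FS4
open H84.Star H84.Wat
open H81.Section (C)
open scoped ComplexConjugate commutatorElement

universe u

attribute [local instance 2000] Fintype.ofFinite

variable {M : Ideal AlgInt} [M.IsMaximal] {G : Type u} [Group G] [Finite G] {p : ℕ}
variable [Fact p.Prime] [CharP (ResF M) p] [Algebra (ZMod p) (ResF M)] [Algebra.IsAlgebraic (ZMod p) (ResF M)]

/-- passing to an abstract group -/
theorem exists_abs {H P : Subgroup G} {b e : MonoidAlgebra (ResF M) G} (hmax : IsMax p H b P e) :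
    ∃ (B : Set (IrrCharacter H)) (e' : MonoidAlgebra (ResF M) H), IsPBlock M B ∧
      IsMax p ⊤ (ebar M B) (P.subgroupOf H) e' ∧ kk H b = Nat.card B ∧ rk p H b = blockRank p B ∧
      inc (ResF M) H.subtype e' = e := by
  have hinj := H.subtype_injective
  have hPH := hmax.of.pair.le
  obtain ⟨B, hB, hBb⟩ := exists_bl hmax.of.blk
  obtain ⟨e', he'⟩ := exists_inc (k := ResF M) hinj (b := e) (by
    rw [Subgroup.range_subtype]; exact Sp_mono inf_le_right hmax.of.pair.blk.mem.2)
  have hP' : (P.subgroupOf H).map H.subtype = P := by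
    rw [Subgroup.subgroupOf_map_subtype]; exact inf_eq_left.2 hPH
  have htop : (⊤ : Subgroup H).map H.subtype = H := map_subtype_top H
  refine ⟨B, e', hB, ?_, ?_, ?_, he'⟩
  · rw [← inc_isMax hinj, htop, hP', he']
    have : inc (ResF M) H.subtype (ebar M B) = b := hBb
    rw [this]; exact hmax
  · rw [← hBb, kk_bl hB]
  · rw [← hBb, rk_bl hB]

/-- a subsection with one Brauer character bounds the number of characters (absolute form) -/
theorem card_le_abs (hM : IsPModular p M) {B : Set (IrrCharacter G)} {P : Subgroup G} {e : MonoidAlgebra (ResF M) G}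
    (hmax : IsMax p ⊤ (ebar M B) P e) (hB : IsPBlock M B) (hab : ∀ x ∈ P, ∀ y ∈ P, x * y = y * x) (y : P)
    (h1 : rk p (C (y : G)) (fy hmax.of.pair y) = 1) : Nat.card B ≤ Nat.card P := by
  obtain ⟨S, hS⟩ := (blEquiv M (y : G)).surjective ⟨fy hmax.of.pair y, ((fy_spec hmax.of.pair y).pair_left hmax.of.pair).blk⟩
  have hS' : bl M (C (y : G)) S.1 = fy hmax.of.pair y := congrArg Subtype.val hS
  have hy := order_of_mem hmax.of.pair.pgr y
  have hspec := fy_spec hmax.of.pair y
  have hpo := (pairOf_of_sle hmax.of.pair hspec).1 hmax.of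
  rw [← hS'] at hpo h1 hspec
  have hind := (ind_iff hM hy S.2 hB).2 hpo
  rw [rk_bl S.2] at h1
  have hyC : (y : G) ∈ Subgroup.centralizer (P : Set G) := by
    rw [Subgroup.mem_centralizer_iff]
    intro x hx
    exact hab x hx y y.2
  have hq := Cfsg.Agent.S4685.defect_eq hM hB hmax y.2 hyC S hspec
  obtain ⟨i, ζ, e, Si⟩ := H78.Contr.exists_sit (H := C (y : G)) hM rfl hy hind
  have h2 := H78.ContrL2.bound_one Si hq (by rw [h1])
  rw [hq] at h2
  have hD : IsDefectGroup p M B P := (isDefectGroup_iff_isDef hM hB).2 ((isMax_iff_isDef hmax.of).1 hmax)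
  rw [H20.Defect.card_defectGroup hM hB hD]
  exact h2


theorem rk_map {K : Type u} [Group K] [Finite K] {φ : K →* G} (hφ : Function.Injective φ) {P : Subgroup K}
    {b e : MonoidAlgebra (ResF M) K} (hmax : IsMax p ⊤ b P e) (hab : ∀ x ∈ P, ∀ y ∈ P, x * y = y * x) {y : K}
    (hy : y ∈ P) : rk p (CH ((⊤ : Subgroup K).map φ) (Subgroup.zpowers (φ y)))
      (bk p (CH ((⊤ : Subgroup K).map φ) (Subgroup.zpowers (φ y))) (P.map φ) (inc (ResF M) φ e)) =
      rk p (CH ⊤ (Subgroup.zpowers y)) (bk p (CH ⊤ (Subgroup.zpowers y)) P e) := by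
  obtain ⟨f, hf, -⟩ := exists_unique_sle hmax.of.pair (Q := Subgroup.zpowers y)
    (by rw [Subgroup.zpowers_le]; exact hy)
  have h1 := (ab_max hmax hab hf).of
  have h2 : CH ((⊤ : Subgroup K).map φ) (Subgroup.zpowers (φ y)) = (CH ⊤ (Subgroup.zpowers y)).map φ := by
    rw [map_CH hφ, MonoidHom.map_zpowers]
  have h3 : bk p (CH ((⊤ : Subgroup K).map φ) (Subgroup.zpowers (φ y))) (P.map φ) (inc (ResF M) φ e) =
      inc (ResF M) φ (bk p (CH ⊤ (Subgroup.zpowers y)) P e) := by
    rw [h2]
    apply bk_eq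
    rw [inc_pairOf hφ, bk_eq h1]
    exact h1
  rw [h3, h2, rk_inc hφ]

variable {H P : Subgroup G} {b e : MonoidAlgebra (ResF M) G}

/-- a subsection with one Brauer character bounds the number of characters -/
theorem card_le (hM : IsPModular p M) (hmax : IsMax p H b P e) (hab : ∀ x ∈ P, ∀ y ∈ P, x * y = y * x)
    {y : G} (hy : y ∈ P) (h1 : rk p (CH H (Subgroup.zpowers y)) (bk p (CH H (Subgroup.zpowers y)) P e) = 1) :
    kk H b ≤ Nat.card P := by
  have hPH := hmax.of.pair.le
  obtain ⟨B, e', hB, hmax', hk, -, he'⟩ := exists_abs hmax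
  have hab' : ∀ x ∈ P.subgroupOf H, ∀ y ∈ P.subgroupOf H, x * y = y * x := fun x hx y hy =>
    Subtype.ext (hab x (Subgroup.mem_subgroupOf.1 hx) y (Subgroup.mem_subgroupOf.1 hy))
  have hy' : (⟨y, hPH hy⟩ : H) ∈ P.subgroupOf H := Subgroup.mem_subgroupOf.2 hy
  have h2 := rk_map (p := p) H.subtype_injective hmax' hab' hy'
  have hP' : (P.subgroupOf H).map H.subtype = P := by
    rw [Subgroup.subgroupOf_map_subtype]; exact inf_eq_left.2 hPH
  have htop : (⊤ : Subgroup H).map H.subtype = H := map_subtype_top H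
  rw [htop, hP', he'] at h2
  have h3 : rk p (CH H (Subgroup.zpowers y)) (bk p (CH H (Subgroup.zpowers y)) P e) =
      rk p (CH ⊤ (Subgroup.zpowers (⟨y, hPH hy⟩ : H))) (bk p (CH ⊤ (Subgroup.zpowers (⟨y, hPH hy⟩ : H))) (P.subgroupOf H) e') := h2
  rw [h1] at h3
  have h4 : rk p (C ((⟨⟨y, hPH hy⟩, hy'⟩ : P.subgroupOf H) : H)) (fy hmax'.of.pair ⟨⟨y, hPH hy⟩, hy'⟩) = 1 := by
    rw [h3, bk_eq (ab_max hmax' hab' (fy_spec hmax'.of.pair ⟨⟨y, hPH hy⟩, hy'⟩)).of, CH_eq]
  have h5 := card_le_abs hM hmax' hB hab' ⟨⟨y, hPH hy⟩, hy'⟩ h4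
  rw [hk]
  refine h5.trans (le_of_eq ?_)
  exact Nat.card_congr (Subgroup.subgroupOfEquivOfLe hPH).toEquiv

/-- trivial inertial quotient: one Brauer character -/
theorem rk_one [IsAlgClosed (ResF M)] (hM : IsPModular p M) (hmax : IsMax p H b P e)
    (hab : ∀ x ∈ P, ∀ y ∈ P, x * y = y * x)
    (hfix : ∀ t ∈ ST H P e, ∀ y ∈ P, t * y * t⁻¹ = y) : rk p H b = 1 := by
  have hPH := hmax.of.pair.le
  have hinj := H.subtype_injective
  obtain ⟨B, e', hB, hmax', -, hr, he'⟩ := exists_abs hmax
  have hab' : ∀ x ∈ P.subgroupOf H, ∀ y ∈ P.subgroupOf H, x * y = y * x := fun x hx y hy =>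
    Subtype.ext (hab x (Subgroup.mem_subgroupOf.1 hx) y (Subgroup.mem_subgroupOf.1 hy))
  have hP' : (P.subgroupOf H).map H.subtype = P := by
    rw [Subgroup.subgroupOf_map_subtype]; exact inf_eq_left.2 hPH
  have htop : (⊤ : Subgroup H).map H.subtype = H := map_subtype_top H
  have he1 := hmax'.of.pair.blk
  rw [CH_top] at he1
  obtain ⟨c, hc, hce⟩ := exists_bl he1
  have hmx : IsMaximalBrauerPair p M B (P.subgroupOf H) c :=
    H80.BR3.maximal_iff.2 ⟨hB, hc, by rw [hce]; exact hmax'⟩
  have hnil : IsNilpotentBlock p M B := by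
    rw [Cfsg.Agent.S4687.result p M hM B (P.subgroupOf H) c hmx hab']
    intro x hxN hxs
    have h1 : x ∈ ST ⊤ (P.subgroupOf H) e' :=
      ⟨Subgroup.mem_top _, hxN, by rw [← hce]; exact ((stabilizes_iff hc).1 hxs).2⟩
    have h2 : (x : G) ∈ ST H P e := by
      have := (inc_ST hinj).2 h1
      rw [htop, hP', he'] at this
      exact this
    rw [Subgroup.mem_centralizer_iff]
    intro y hy
    apply Subtype.ext
    have h3 := hfix x h2 y (Subgroup.mem_subgroupOf.1 hy)
    change (y : G) * x = x * y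
    calc (y : G) * x = ((x : G) * y * (x : G)⁻¹) * x := by rw [h3]
      _ = x * y := by group
  rw [hr]
  exact (Cfsg.Agent.S4689.result p M hM B hnil).1

open Classical in
/-- the sum of the weights -/
theorem sum_wt (hM : IsPModular p M) (hmax : IsMax p H b P e) (hab : ∀ x ∈ P, ∀ y ∈ P, x * y = y * x) :
    ∑ y : G, (if y ∈ P then wt p H P e y else 0) = (kk H b : ℂ) := by
  set F := foc H P e with hF
  have hFP : F ≤ P := foc_le
  have hN : ((F.relIndex P : ℕ) : ℂ) ≠ 0 := by
    have : F.relIndex P ≠ 0 := Subgroup.index_ne_zero_of_finite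
    exact_mod_cast this
  have h1 : ∑ z : G, (if z ∈ P then ((F.relIndex P : ℕ) : ℂ) *
      ∑ y : G, (if y ∈ P ∧ z⁻¹ * y ∈ F then wt p H P e y else 0) else 0) =
      ∑ z : G, (if z ∈ P then (kk H b : ℂ) else 0) := by
    apply Finset.sum_congr rfl
    intro z _
    by_cases hz : z ∈ P
    · rw [if_pos hz, if_pos hz]
      exact rel_coset hM hmax hab hz
    · rw [if_neg hz, if_neg hz]
  have h2 : ∑ z : G, (if z ∈ P then (kk H b : ℂ) else 0) = (Nat.card P : ℂ) * (kk H b : ℂ) := by
    rw [← Finset.sum_filter, Finset.sum_const, nsmul_eq_mul]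
    congr 2
    rw [Nat.card_eq_fintype_card, Fintype.card_subtype]
  have h3 : ∀ y : G, (∑ z : G, (if z ∈ P then (if y ∈ P ∧ z⁻¹ * y ∈ F then wt p H P e y else 0) else 0)) =
      if y ∈ P then (Nat.card F : ℂ) * wt p H P e y else 0 := by
    intro y
    by_cases hy : y ∈ P
    · rw [if_pos hy]
      have h4 : ∀ z : G, (if z ∈ P then (if y ∈ P ∧ z⁻¹ * y ∈ F then wt p H P e y else 0) else 0) =
          if z⁻¹ * y ∈ F then wt p H P e y else 0 := by
        intro z
        by_cases hz : z⁻¹ * y ∈ F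
        · have hzP : z ∈ P := by
            have := mul_mem hy (inv_mem (hFP hz))
            rwa [mul_inv_rev, inv_inv, mul_inv_cancel_left] at this
          rw [if_pos hzP, if_pos ⟨hy, hz⟩, if_pos hz]
        · rw [if_neg hz]
          by_cases hzP : z ∈ P
          · rw [if_pos hzP, if_neg (fun h => hz h.2)]
          · rw [if_neg hzP]
      rw [Finset.sum_congr rfl (fun z _ => h4 z), ← Finset.sum_filter, Finset.sum_const, nsmul_eq_mul]
      congr 2
      rw [Nat.card_eq_fintype_card, Fintype.card_subtype]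
      apply Finset.card_bij (fun z _ => z⁻¹ * y)
      · intro z hz
        simpa using hz
      · intro a _ c _ hac
        exact inv_injective (mul_right_cancel hac)
      · intro w hw
        refine ⟨y * w⁻¹, ?_, ?_⟩
        · have hw' : w ∈ F := by simpa using hw
          simp only [Finset.mem_filter, Finset.mem_univ, true_and]
          rw [mul_inv_rev, inv_inv, inv_mul_cancel_right]
          exact hw'
        · simp
    · rw [if_neg hy]
      apply Finset.sum_eq_zero
      intro z _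
      by_cases hzP : z ∈ P
      · rw [if_pos hzP, if_neg (fun h => hy h.1)]
      · rw [if_neg hzP]
  have h4 : ∑ z : G, (if z ∈ P then ((F.relIndex P : ℕ) : ℂ) *
      ∑ y : G, (if y ∈ P ∧ z⁻¹ * y ∈ F then wt p H P e y else 0) else 0) =
      ((F.relIndex P : ℕ) : ℂ) * ((Nat.card F : ℂ) * ∑ y : G, (if y ∈ P then wt p H P e y else 0)) := by
    have h5 : ∀ z : G, (if z ∈ P then ((F.relIndex P : ℕ) : ℂ) *
        ∑ y : G, (if y ∈ P ∧ z⁻¹ * y ∈ F then wt p H P e y else 0) else 0) =
        ((F.relIndex P : ℕ) : ℂ) * ∑ y : G, (if z ∈ P then (if y ∈ P ∧ z⁻¹ * y ∈ F then wt p H P e y else 0) else 0) := by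
      intro z
      by_cases hz : z ∈ P
      · rw [if_pos hz]
        congr 1
        apply Finset.sum_congr rfl
        intro y _
        rw [if_pos hz]
      · rw [if_neg hz]
        rw [Finset.sum_eq_zero (fun y _ => by rw [if_neg hz]), mul_zero]
    rw [Finset.sum_congr rfl (fun z _ => h5 z), ← Finset.mul_sum, Finset.sum_comm,
      Finset.sum_congr rfl (fun y _ => h3 y)]
    congr 1
    rw [Finset.mul_sum]
    apply Finset.sum_congr rfl
    intro y _
    by_cases hy : y ∈ P
    · rw [if_pos hy, if_pos hy]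
    · rw [if_neg hy, if_neg hy, mul_zero]
  rw [h4, h2, ← mul_assoc] at h1
  have h5 : ((F.relIndex P : ℕ) : ℂ) * (Nat.card F : ℂ) = (Nat.card P : ℂ) := by
    have h6 := Subgroup.relIndex_mul_relIndex ⊥ F P bot_le hFP
    rw [Subgroup.relIndex_bot_left, Subgroup.relIndex_bot_left] at h6
    rw [← h6]
    push_cast
    ring
  rw [h5] at h1
  exact mul_left_cancel₀ (by exact_mod_cast (Nat.card_pos (α := P)).ne') h1

section orbits

open H79.Oct

/-- the acting group of automorphisms -/
theorem mem_fix_iff {y : G} (hy : y ∈ P) (hab : ∀ x ∈ P, ∀ y ∈ P, x * y = y * x) :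
    letI : CommGroup P := { (inferInstance : Group P) with mul_comm := fun a b => Subtype.ext (hab a a.2 b b.2) }
    ((⟨y, hy⟩ : P) ∈ H79.Oct.fix (stHom H P e).range ↔ ∀ t ∈ ST H P e, t * y * t⁻¹ = y) := by
  letI : CommGroup P := { (inferInstance : Group P) with mul_comm := fun a b => Subtype.ext (hab a a.2 b b.2) }
  constructor
  · intro h t ht
    exact congrArg Subtype.val (h _ ⟨⟨t, ht⟩, rfl⟩)
  · rintro h _ ⟨t, rfl⟩
    exact Subtype.ext (h t t.2)

theorem ob_eq {y : G} (hy : y ∈ P) (hab : ∀ x ∈ P, ∀ y ∈ P, x * y = y * x) :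
    letI : CommGroup P := { (inferInstance : Group P) with mul_comm := fun a b => Subtype.ext (hab a a.2 b b.2) }
    (Nat.card (ob H P e y) = (H79.Oct.orb (stHom H P e).range (⟨y, hy⟩ : P)).ncard) := by
  letI : CommGroup P := { (inferInstance : Group P) with mul_comm := fun a b => Subtype.ext (hab a a.2 b b.2) }
  have h1 : ob H P e y = Subtype.val '' (H79.Oct.orb (stHom H P e).range (⟨y, hy⟩ : P)) := by
    ext x
    constructor
    · rintro ⟨t, ht, rfl⟩
      exact ⟨(stHom H P e ⟨t, ht⟩) ⟨y, hy⟩, ⟨_, ⟨⟨t, ht⟩, rfl⟩, rfl⟩, rfl⟩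
    · rintro ⟨_, ⟨_, ⟨t, rfl⟩, rfl⟩, rfl⟩
      exact ⟨t, t.2, rfl⟩
  rw [h1, Nat.card_coe_set_eq, Set.ncard_image_of_injective _ Subtype.val_injective]

theorem ST_CH_le {y : G} : ∀ t ∈ ST (CH H (Subgroup.zpowers y)) P e, t ∈ ST H P e ∧ t * y * t⁻¹ = y := by
  intro t ht
  have h1 := mem_CH_iff.1 ht.1
  refine ⟨⟨h1.2, ht.2.1, ht.2.2⟩, ?_⟩
  rw [h1.1]; group

theorem odd_range [IsAlgClosed (ResF M)] (hp : p = 2) (hmax : IsMax p H b P e)
    (hab : ∀ x ∈ P, ∀ y ∈ P, x * y = y * x) : Odd (Nat.card (stHom H P e).range) := by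
  have h1 := ab_coprime hmax hab
  subst hp
  rw [← Nat.not_even_iff_odd]
  exact fun h => h1 h.two_dvd

theorem wt_one (hmax : IsMax p H b P e) : wt p H P e 1 = (rk p H b : ℂ) := by
  unfold wt
  rw [ob_fixed (by intro t _; simp), CH_one, bk_eq hmax.of, Nat.card_unique, Nat.cast_one, div_one]

/-- if there are three fixed elements then everything is fixed -/
theorem fix_all [IsAlgClosed (ResF M)] (hp : p = 2) (hmax : IsMax p H b P e)
    (hab : ∀ x ∈ P, ∀ y ∈ P, x * y = y * x) (h8 : Nat.card P = 8) {u v : G} (hu : u ∈ P) (hv : v ∈ P)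
    (hu1 : u ≠ 1) (hv1 : v ≠ 1) (huv : u ≠ v) (hfu : ∀ t ∈ ST H P e, t * u * t⁻¹ = u)
    (hfv : ∀ t ∈ ST H P e, t * v * t⁻¹ = v) : ∀ t ∈ ST H P e, ∀ y ∈ P, t * y * t⁻¹ = y := by
  classical
  letI : CommGroup P := { (inferInstance : Group P) with mul_comm := fun a b => Subtype.ext (hab a a.2 b b.2) }
  have h1 := fix_top h8 (stHom H P e).range (odd_range hp hmax hab) (by
    have hs : ({1, ⟨u, hu⟩, ⟨v, hv⟩} : Finset P).card = 3 := by
      rw [Finset.card_insert_of_notMem, Finset.card_insert_of_notMem, Finset.card_singleton]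
      · rw [Finset.mem_singleton]
        exact fun h => huv (congrArg Subtype.val h)
      · rw [Finset.mem_insert, Finset.mem_singleton, not_or]
        exact ⟨fun h => hu1 (congrArg Subtype.val h).symm, fun h => hv1 (congrArg Subtype.val h).symm⟩
    rw [← hs, Nat.card_eq_fintype_card, Fintype.card_subtype]
    apply Finset.card_le_card
    intro x hx
    rw [Finset.mem_filter]
    refine ⟨Finset.mem_univ _, ?_⟩
    rw [Finset.mem_insert, Finset.mem_insert, Finset.mem_singleton] at hx
    rcases hx with rfl | rfl | rfl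
    · exact one_mem _
    · exact (mem_fix_iff hu hab).2 hfu
    · exact (mem_fix_iff hv hab).2 hfv)
  intro t ht y hy
  have h2 : (⟨y, hy⟩ : P) ∈ H79.Oct.fix (stHom H P e).range := by rw [h1]; exact Subgroup.mem_top _
  exact (mem_fix_iff hy hab).1 h2 t ht

open Classical in
/-- the case of a fixed element -/
theorem fixed_case [IsAlgClosed (ResF M)] (hM : IsPModular p M) (hp : p = 2) (hmax : IsMax p H b P e)
    (hab : ∀ x ∈ P, ∀ y ∈ P, x * y = y * x) (h8 : Nat.card P = 8) {u : G} (hu : u ∈ P) (hu1 : u ≠ 1)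
    (hfix : ∀ t ∈ ST H P e, t * u * t⁻¹ = u) :
    rk p H b ≤ 3 ∧ (kk H b = 8 ∨ kk H b = 2 * rk p H b + 2) := by
  have hsum := sum_wt hM hmax hab
  rw [← Finset.sum_filter] at hsum
  have hcS : (Finset.univ.filter (fun y : G => y ∈ P)).card = 8 := by
    rw [← h8, Nat.card_eq_fintype_card, Fintype.card_subtype]
  by_cases hall : ∀ t ∈ ST H P e, ∀ y ∈ P, t * y * t⁻¹ = y
  · have h1 := rk_one hM hmax hab hall
    refine ⟨by omega, Or.inl ?_⟩
    have h2 : ∀ y ∈ Finset.univ.filter (fun y : G => y ∈ P), wt p H P e y = 1 := by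
      intro y hy
      have hyP : y ∈ P := (Finset.mem_filter.1 hy).2
      unfold wt
      rw [ob_fixed (fun t ht => hall t ht y hyP), Nat.card_unique, Nat.cast_one, div_one,
        rk_one hM (max_CH hmax hab hyP) hab (fun t ht w hw => hall t (ST_CH_le t ht).1 w hw), Nat.cast_one]
    rw [Finset.sum_congr rfl h2, Finset.sum_const, hcS] at hsum
    have : ((8 : ℕ) : ℂ) = (kk H b : ℂ) := by rw [← hsum]; simp
    exact (by exact_mod_cast this.symm : kk H b = 8)
  · have hfixed : ∀ y ∈ P, y ≠ 1 → y ≠ u → ¬ (∀ t ∈ ST H P e, t * y * t⁻¹ = y) := by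
      intro y hy hy1 hyu h
      exact hall (fix_all hp hmax hab h8 hu hy hu1 hy1 (Ne.symm hyu) hfix h)
    have hrk : ∀ y ∈ P, y ≠ 1 → y ≠ u →
        rk p (CH H (Subgroup.zpowers y)) (bk p (CH H (Subgroup.zpowers y)) P e) = 1 := by
      intro y hy hy1 hyu
      have hm := max_CH hmax hab hy
      exact rk_one hM hm hab (fix_all hp hm hab h8 hu hy hu1 hy1 (Ne.symm hyu)
        (fun t ht => hfix t (ST_CH_le t ht).1) (fun t ht => (ST_CH_le t ht).2))
    have hwt : ∀ y ∈ P, y ≠ 1 → y ≠ u → wt p H P e y = 1 / 3 := by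
      intro y hy hy1 hyu
      letI : CommGroup P := { (inferInstance : Group P) with mul_comm := fun a b => Subtype.ext (hab a a.2 b b.2) }
      have h1 : (⟨y, hy⟩ : P) ∉ H79.Oct.fix (stHom H P e).range := fun h =>
        hfixed y hy hy1 hyu ((mem_fix_iff hy hab).1 h)
      have hodd := odd_range hp hmax hab
      have h2 : Nat.card (H79.Oct.fix (stHom H P e).range) = 2 := by
        have h3 : Nat.card (H79.Oct.fix (stHom H P e).range) ∣ 8 := h8 ▸ Subgroup.card_subgroup_dvd_card _
        have h4 : ¬ 3 ≤ Nat.card (H79.Oct.fix (stHom H P e).range) := by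
          intro h
          have := fix_top h8 _ hodd h
          exact h1 (by rw [this]; exact Subgroup.mem_top _)
        have h5 : Nat.card (H79.Oct.fix (stHom H P e).range) ≠ 1 := by
          intro h
          have h6 := Subgroup.eq_bot_of_card_eq _ h
          have h7 : (⟨u, hu⟩ : P) ∈ H79.Oct.fix (stHom H P e).range := (mem_fix_iff hu hab).2 hfix
          rw [h6, Subgroup.mem_bot] at h7
          exact hu1 (congrArg Subtype.val h7)
        have h6 : 0 < Nat.card (H79.Oct.fix (stHom H P e).range) := Nat.card_pos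
        omega
      have h3 := orb_three h8 (stHom H P e).range hodd h2 h1
      unfold wt
      rw [hrk y hy hy1 hyu, ob_eq hy hab, h3]
      norm_num
    have hwu : wt p H P e u = (rk p H b : ℂ) := by
      unfold wt
      rw [ob_fixed hfix, Nat.card_unique, Nat.cast_one, div_one, ← (wat hM _ rfl hmax hab hu hfix).1]
    have h1S : (1 : G) ∈ Finset.univ.filter (fun y : G => y ∈ P) := by simp [one_mem]
    have huS : u ∈ (Finset.univ.filter (fun y : G => y ∈ P)).erase 1 := by
      rw [Finset.mem_erase]; exact ⟨hu1, by simpa using hu⟩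
    rw [← Finset.add_sum_erase _ _ h1S, ← Finset.add_sum_erase _ _ huS, wt_one hmax, hwu] at hsum
    have h2 : ∀ y ∈ ((Finset.univ.filter (fun y : G => y ∈ P)).erase 1).erase u, wt p H P e y = 1 / 3 := by
      intro y hy
      rw [Finset.mem_erase, Finset.mem_erase, Finset.mem_filter] at hy
      exact hwt y hy.2.2.2 hy.2.1 hy.1
    rw [Finset.sum_congr rfl h2, Finset.sum_const, Finset.card_erase_of_mem huS, Finset.card_erase_of_mem h1S,
      hcS] at hsum
    have h3 : kk H b = 2 * rk p H b + 2 := by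
      have h4 : (kk H b : ℂ) = ((2 * rk p H b + 2 : ℕ) : ℂ) := by
        rw [← hsum]
        push_cast
        norm_num
        ring
      exact_mod_cast h4
    refine ⟨?_, Or.inr h3⟩
    obtain ⟨y, hy⟩ : (((Finset.univ.filter (fun y : G => y ∈ P)).erase 1).erase u).Nonempty := by
      rw [← Finset.card_pos, Finset.card_erase_of_mem huS, Finset.card_erase_of_mem h1S, hcS]
      norm_num
    rw [Finset.mem_erase, Finset.mem_erase, Finset.mem_filter] at hy
    have h5 := card_le hM hmax hab hy.2.2.2 (hrk y hy.2.2.2 hy.2.1 hy.1)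
    omega

open Classical in
/-- a block with one Brauer character and abelian defect group of order eight -/
theorem rank_one_eight [IsAlgClosed (ResF M)] (hM : IsPModular p M) (hp : p = 2) (hmax : IsMax p H b P e)
    (hab : ∀ x ∈ P, ∀ y ∈ P, x * y = y * x) (h8 : Nat.card P = 8) (hr : rk p H b = 1) :
    kk H b ≤ 4 ∨ kk H b = 8 := by
  by_cases hex : ∃ u ∈ P, u ≠ 1 ∧ ∀ t ∈ ST H P e, t * u * t⁻¹ = u
  · obtain ⟨u, hu, hu1, hfix⟩ := hex
    obtain ⟨-, h | h⟩ := fixed_case hM hp hmax hab h8 hu hu1 hfix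
    · exact Or.inr h
    · left; omega
  · left
    push Not at hex
    have hsum := sum_wt hM hmax hab
    rw [← Finset.sum_filter] at hsum
    have hcS : (Finset.univ.filter (fun y : G => y ∈ P)).card = 8 := by
      rw [← h8, Nat.card_eq_fintype_card, Fintype.card_subtype]
    have h1S : (1 : G) ∈ Finset.univ.filter (fun y : G => y ∈ P) := by simp [one_mem]
    have hodd := odd_range hp hmax hab
    have hwt : ∀ y ∈ (Finset.univ.filter (fun y : G => y ∈ P)).erase 1, wt p H P e y =
        (rk p (CH H (Subgroup.zpowers y)) (bk p (CH H (Subgroup.zpowers y)) P e) : ℂ) / 7 := by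
      intro y hy
      rw [Finset.mem_erase, Finset.mem_filter] at hy
      obtain ⟨hy1, -, hyP⟩ := hy
      letI : CommGroup P := { (inferInstance : Group P) with mul_comm := fun a b => Subtype.ext (hab a a.2 b b.2) }
      have h1 : (⟨y, hyP⟩ : P) ∉ H79.Oct.fix (stHom H P e).range := fun h => by
        obtain ⟨t, ht, hne⟩ := hex y hyP hy1
        exact hne ((mem_fix_iff hyP hab).1 h t ht)
      have h2 : Nat.card (H79.Oct.fix (stHom H P e).range) = 1 := by
        rw [Subgroup.card_eq_one, eq_bot_iff]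
        intro x hx
        rw [Subgroup.mem_bot]
        by_contra hx1
        obtain ⟨t, ht, hne⟩ := hex x.1 x.2 (fun h => hx1 (Subtype.ext h))
        exact hne ((mem_fix_iff x.2 hab).1 hx t ht)
      have h3 := orb_seven h8 (stHom H P e).range hodd h2 h1
      unfold wt
      rw [ob_eq hyP hab, h3]
      norm_num
    rw [← Finset.add_sum_erase _ _ h1S, wt_one hmax, Finset.sum_congr rfl hwt, ← Finset.sum_div, hr] at hsum
    have h4 : 7 * kk H b = 7 + ∑ y ∈ (Finset.univ.filter (fun y : G => y ∈ P)).erase 1,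
        rk p (CH H (Subgroup.zpowers y)) (bk p (CH H (Subgroup.zpowers y)) P e) := by
      have h5 : ((7 * kk H b : ℕ) : ℂ) = ((7 + ∑ y ∈ (Finset.univ.filter (fun y : G => y ∈ P)).erase 1,
        rk p (CH H (Subgroup.zpowers y)) (bk p (CH H (Subgroup.zpowers y)) P e) : ℕ) : ℂ) := by
        push_cast
        rw [← hsum]
        push_cast
        ring
      exact_mod_cast h5
    have h5 : ∑ y ∈ (Finset.univ.filter (fun y : G => y ∈ P)).erase 1,
        rk p (CH H (Subgroup.zpowers y)) (bk p (CH H (Subgroup.zpowers y)) P e) ≤ 21 := by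
      refine (Finset.sum_le_card_nsmul _ _ 3 ?_).trans ?_
      · intro y hy
        rw [Finset.mem_erase, Finset.mem_filter] at hy
        obtain ⟨hy1, -, hyP⟩ := hy
        exact (fixed_case hM hp (max_CH hmax hab hyP) hab h8 hyP hy1 (fun t ht => (ST_CH_le t ht).2)).1
      · rw [Finset.card_erase_of_mem h1S, hcS]; norm_num
    omega

end orbits

end H79.AbEight
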