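import Mathlib

/-! A three dimensional algebra with automorphism. -/

set_option autoImplicit false
set_option linter.unusedSectionVars false
set_option linter.unusedVariables false
set_option linter.style.haveILetI false

namespace H79.SymLocE

open Submodule Module

universe u v w

variable {F : Type u} [Field F] [IsAlgClosed F] {V : Type v} [AddCommGroup V] [Module F V]

omit [IsAlgClosed F] in
theorem exists_fun' {X : Submodule F V} {w : V} (h : w ∉ X) :
    ∃ θ : V →ₗ[F] F, θ w = 1 ∧ ∀ x ∈ X, θ x = 0 := by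
  obtain ⟨f, hf, hX⟩ := Submodule.exists_dual_map_eq_bot_of_notMem h inferInstance
  refine ⟨(f w)⁻¹ • f, ?_, fun x hx => ?_⟩
  · rw [LinearMap.smul_apply, smul_eq_mul, inv_mul_cancel₀ hf]
  · have : f x ∈ X.map f := Submodule.mem_map_of_mem hx
    rw [hX, Submodule.mem_bot] at this
    rw [LinearMap.smul_apply, this, smul_zero]

/-- existence of a character -/
theorem exists_char [FiniteDimensional F V] (hV : finrank F V = 3) (ψ : V →ₗ[F] V →ₗ[F] V) (a : V)
    (ha : ∀ c, ψ a c = c) (hφ : Function.Surjective (fun b => ψ b a))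
    (assoc : ∀ b c d, ψ (ψ b c) d = ψ (ψ b a) (ψ c d)) :
    ∃ χ : V →ₗ[F] F, χ ≠ 0 ∧ ∀ b c, χ (ψ b c) = χ (ψ b a) * χ c := by
  have ha0 : a ≠ 0 := by
    rintro rfl
    have : ∀ c : V, c = 0 := fun c => by rw [← ha c, map_zero, LinearMap.zero_apply]
    have h2 : finrank F V = 0 := by
      rw [finrank_eq_zero_iff_of_free]
      exact ⟨fun x y => by rw [this x, this y]⟩
    omega
  have hsp : finrank F (span F {a}) = 1 := finrank_span_singleton ha0
  obtain ⟨u, hu⟩ : ∃ u, u ∉ span F {a} := by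
    by_contra h
    push Not at h
    have : span F {a} = ⊤ := eq_top_iff.2 fun x _ => h x
    rw [this, finrank_top] at hsp
    omega
  haveI : Nontrivial V := ⟨⟨a, 0, ha0⟩⟩
  obtain ⟨μ, hμ⟩ := Module.End.exists_eigenvalue (ψ u)
  obtain ⟨e, he⟩ := hμ.exists_hasEigenvector
  have he1 : ψ u e = μ • e := he.apply_eq_smul
  have he0 : e ≠ 0 := he.2
  set u' := u - μ • a with hu'
  have hu0 : u' ≠ 0 := by
    intro h
    apply hu
    rw [hu', sub_eq_zero] at h
    rw [h]
    exact Submodule.smul_mem _ _ (Submodule.mem_span_singleton_self _)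
  have hue : ψ u' e = 0 := by
    rw [hu', map_sub, map_smul, LinearMap.sub_apply, LinearMap.smul_apply, ha, he1, sub_self]
  set I : Submodule F V := LinearMap.range (ψ.flip u') with hI
  have haI : a ∉ I := by
    rintro ⟨w, hw⟩
    apply he0
    rw [← ha e, ← hw, LinearMap.flip_apply, assoc, hue, map_zero]
  have huI : u' ∈ I := ⟨a, by rw [LinearMap.flip_apply, ha]⟩
  have hIl : ∀ c, ∀ i ∈ I, ψ c i ∈ I := by
    rintro c _ ⟨w, rfl⟩
    obtain ⟨c', rfl⟩ := hφ c
    exact ⟨ψ c' w, by rw [LinearMap.flip_apply, LinearMap.flip_apply, assoc]⟩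
  have h1 : finrank F I < 3 := by
    rw [← hV]
    exact Submodule.finrank_lt (fun h => haI (h ▸ Submodule.mem_top))
  have h2 : 0 < finrank F I := by
    haveI : Nontrivial I := ⟨⟨⟨u', huI⟩, 0, fun h => hu0 (congrArg Subtype.val h)⟩⟩
    exact finrank_pos
  by_cases h3 : finrank F I = 1
  · obtain ⟨g, hg, -⟩ := exists_fun' (F := F) (X := ⊥) (w := u') hu0
    have h4 : ∀ c, ψ c u' = g (ψ c u') • u' := by
      intro c
      obtain ⟨t, ht⟩ := (finrank_eq_one_iff_of_nonzero' (⟨u', huI⟩ : I)
        (fun h => hu0 (congrArg Subtype.val h))).1 h3 ⟨ψ c u', hIl c u' huI⟩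
      have h5 : t • u' = ψ c u' := congrArg Subtype.val ht
      rw [← h5, map_smul, hg, smul_eq_mul, mul_one]
    refine ⟨g ∘ₗ ψ.flip u', ?_, ?_⟩
    · intro h
      have := LinearMap.congr_fun h a
      rw [LinearMap.comp_apply, LinearMap.flip_apply, ha, hg, LinearMap.zero_apply] at this
      exact one_ne_zero this
    · intro b c
      rw [LinearMap.comp_apply, LinearMap.comp_apply, LinearMap.comp_apply, LinearMap.flip_apply,
        LinearMap.flip_apply, LinearMap.flip_apply, assoc]
      conv_lhs => rw [h4 c, map_smul, map_smul, smul_eq_mul]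
      rw [mul_comm]
  · have h4 : finrank F I = 2 := by omega
    obtain ⟨θ, hθa, hθI⟩ := exists_fun' haI
    have h5 : I = LinearMap.ker θ := by
      apply Submodule.eq_of_le_of_finrank_le
      · intro i hi; exact hθI i hi
      · have h6 := LinearMap.finrank_range_add_finrank_ker θ
        have h7 : LinearMap.range θ = ⊤ := by
          rw [LinearMap.range_eq_top]
          intro t
          exact ⟨t • a, by rw [map_smul, hθa, smul_eq_mul, mul_one]⟩
        rw [h7, finrank_top, finrank_self, hV] at h6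
        omega
    refine ⟨θ, ?_, ?_⟩
    · intro h
      rw [h, LinearMap.zero_apply] at hθa
      exact zero_ne_one hθa
    · intro b c
      have h6 : c - θ c • a ∈ I := by
        rw [h5, LinearMap.mem_ker, map_sub, map_smul, hθa, smul_eq_mul, mul_one, sub_self]
      have h7 : θ (ψ b (c - θ c • a)) = 0 := hθI _ (hIl b _ h6)
      rw [map_sub, map_smul, map_sub, map_smul, sub_eq_zero, smul_eq_mul] at h7
      rw [h7, mul_comm]

theorem contra [FiniteDimensional F V] (hV : finrank F V = 3) (ψ : V →ₗ[F] V →ₗ[F] V) (a : V)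
    (ha : ∀ c, ψ a c = c) (hφ : Function.Bijective (fun b => ψ b a))
    (assoc : ∀ b c d, ψ (ψ b c) d = ψ (ψ b a) (ψ c d))
    (c1 : ∀ f : V →ₗ[F] F, (∀ b c, f (ψ b c) = f (ψ c b)) → f = 0)
    (c2 : ∀ f : V →ₗ[F] F, (∀ b e, f (ψ (ψ b a) e) = f (ψ e b)) → f = 0) : False := by
  classical
  set φ : V →ₗ[F] V := ψ.flip a with hφd
  have hφa : ∀ b, ψ b a = φ b := fun b => rfl
  have haa : φ a = a := ha a
  have hφm : ∀ b c, φ (ψ b c) = ψ (φ b) (φ c) := fun b c => assoc b c a
  -- characters
  have key1 : ∀ χ : V →ₗ[F] F, χ ≠ 0 → (∀ b c, χ (ψ b c) = χ (φ b) * χ c) → χ a = 1 := by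
    intro χ h0 hχ
    obtain ⟨c, hc⟩ : ∃ c, χ c ≠ 0 := by
      by_contra h
      push Not at h
      exact h0 (LinearMap.ext h)
    have h1 := hχ a c
    rw [ha, haa] at h1
    exact (mul_right_cancel₀ hc (by rw [one_mul]; exact h1)).symm
  have key2 : ∀ χ : V →ₗ[F] F, (∀ b c, χ (ψ b c) = χ (φ b) * χ c) →
      (∀ b c, (χ ∘ₗ φ) (ψ b c) = (χ ∘ₗ φ) (φ b) * (χ ∘ₗ φ) c) := by
    intro χ hχ b c
    rw [LinearMap.comp_apply, hφm, hχ]
    rfl
  have key3 : ∀ χ : V →ₗ[F] F, χ ≠ 0 → (∀ b c, χ (ψ b c) = χ (φ b) * χ c) → χ ∘ₗ φ ≠ χ := by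
    intro χ h0 hχ h
    apply h0
    apply c1
    intro b c
    rw [hχ, hχ]
    have h1 : ∀ b, χ (φ b) = χ b := fun b => LinearMap.congr_fun h b
    rw [h1, h1, mul_comm]
  have key4 : ∀ χ : V →ₗ[F] F, χ ≠ 0 → χ ∘ₗ φ ≠ 0 := by
    intro χ h0 h
    apply h0
    ext b
    obtain ⟨b', rfl⟩ := hφ.2 b
    exact LinearMap.congr_fun h b'
  have key5 : ∀ χ χ' : V →ₗ[F] F, χ ∘ₗ φ = χ' ∘ₗ φ → χ = χ' := by
    intro χ χ' h
    ext b
    obtain ⟨b', rfl⟩ := hφ.2 b
    exact LinearMap.congr_fun h b'
  obtain ⟨χ0, h00, hχ0⟩ := exists_char hV ψ a ha hφ.2 assoc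
  set χ1 := χ0 ∘ₗ φ with hχ1d
  set χ2 := χ1 ∘ₗ φ with hχ2d
  set χ3 := χ2 ∘ₗ φ with hχ3d
  have hχ1 := key2 χ0 hχ0
  have hχ2 := key2 χ1 hχ1
  have hχ3 := key2 χ2 hχ2
  have h10 := key4 χ0 h00
  have h20 := key4 χ1 h10
  have h30 := key4 χ2 h20
  have n01 : χ1 ≠ χ0 := key3 χ0 h00 hχ0
  have n12 : χ2 ≠ χ1 := key3 χ1 h10 hχ1
  have n23 : χ3 ≠ χ2 := key3 χ2 h20 hχ2
  -- linear independence of characters
  let φe : V ≃ₗ[F] V := LinearEquiv.ofBijective φ hφ
  letI mo : MulOneClass V :=
    { mul := fun b c => ψ (φe.symm b) c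
      one := a
      one_mul := fun c => by
        show ψ (φe.symm a) c = c
        have : φe.symm a = a := by rw [LinearEquiv.symm_apply_eq]; exact haa.symm
        rw [this, ha]
      mul_one := fun b => by
        show ψ (φe.symm b) a = b
        exact φe.apply_symm_apply b }
  have toHom : ∀ χ : V →ₗ[F] F, χ ≠ 0 → (∀ b c, χ (ψ b c) = χ (φ b) * χ c) →
      ∃ h : V →* F, ∀ x, h x = χ x := by
    intro χ h0 hχ
    refine ⟨{ toFun := χ, map_one' := key1 χ h0 hχ, map_mul' := fun b c => ?_ }, fun x => rfl⟩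
    show χ (ψ (φe.symm b) c) = χ b * χ c
    rw [hχ]
    have : φ (φe.symm b) = b := φe.apply_symm_apply b
    rw [this]
  have indep : ∀ (n : ℕ) (g : Fin n → (V →ₗ[F] F)), (∀ i, g i ≠ 0) →
      (∀ i b c, g i (ψ b c) = g i (φ b) * g i c) → Function.Injective g →
      LinearIndependent F g := by
    intro n g hg0 hg hinj
    choose h hh using fun i => toHom (g i) (hg0 i) (hg i)
    have h1 := linearIndependent_monoidHom V F
    have h2 : Function.Injective h := by
      intro i j hij
      apply hinj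
      ext x
      rw [← hh i x, ← hh j x, hij]
    have h3 := h1.comp h h2
    rw [linearIndependent_iff'] at h3 ⊢
    intro s c hc i hi
    apply h3 s c _ i hi
    funext x
    have h4 := LinearMap.congr_fun hc x
    simp only [LinearMap.sum_apply, LinearMap.smul_apply, LinearMap.zero_apply] at h4
    simp only [Finset.sum_apply, Pi.smul_apply, Function.comp_apply, Pi.zero_apply, hh]
    exact h4
  by_cases h02 : χ2 = χ0
  · -- swapped pair
    have hli : LinearIndependent F ![χ0, χ1] := by
      refine indep 2 ![χ0, χ1] ?_ ?_ ?_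
      · intro i; fin_cases i; exacts [h00, h10]
      · intro i; fin_cases i; exacts [hχ0, hχ1]
      · intro i j hij
        fin_cases i <;> fin_cases j
        · rfl
        · exact absurd hij.symm n01
        · exact absurd hij n01
        · rfl
    set V0 : Submodule F V := LinearMap.ker χ0 ⊓ LinearMap.ker χ1 with hV0
    have hr : finrank F V0 = 1 := by
      have h1 : LinearMap.ker (χ0.prod χ1) = V0 := LinearMap.ker_prod χ0 χ1
      have h2 := LinearMap.finrank_range_add_finrank_ker (χ0.prod χ1)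
      have h3 : LinearMap.range (χ0.prod χ1) = ⊤ := by
        by_contra hne
        obtain ⟨f, hf0, hf⟩ := Submodule.exists_le_ker_of_lt_top _ (lt_top_iff_ne_top.2 hne)
        apply hf0
        have h4 : ∀ x, f (χ0 x, χ1 x) = 0 := fun x => hf ⟨x, rfl⟩
        have h5 : ∀ s t : F, f (s, t) = s * f (1, 0) + t * f (0, 1) := by
          intro s t
          have : ((s, t) : F × F) = s • (1, 0) + t • (0, 1) := by simp
          rw [this, map_add, map_smul, map_smul, smul_eq_mul, smul_eq_mul]
        have h6 : f (1, 0) • χ0 + f (0, 1) • χ1 = 0 := by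
          ext x
          have := h4 x
          rw [h5] at this
          simp only [LinearMap.add_apply, LinearMap.smul_apply, LinearMap.zero_apply, smul_eq_mul]
          linear_combination this
        obtain ⟨h7, h8⟩ := (LinearIndependent.pair_iff.1 hli) _ _ h6
        ext
        · simpa using h7
        · simpa using h8
      rw [h3, finrank_top, h1, hV, Module.finrank_prod, finrank_self] at h2
      omega
    obtain ⟨⟨ε, hε⟩, hε0, hspan⟩ := finrank_eq_one_iff'.1 hr
    have hε0' : ε ≠ 0 := fun h => hε0 (Subtype.ext h)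
    have hsp : ∀ w ∈ V0, ∃ t : F, t • ε = w := fun w hw => by
      obtain ⟨t, ht⟩ := hspan ⟨w, hw⟩
      exact ⟨t, congrArg Subtype.val ht⟩
    obtain ⟨hε1, hε2⟩ := hε
    rw [SetLike.mem_coe, LinearMap.mem_ker] at hε1 hε2
    obtain ⟨g, hg, -⟩ := exists_fun' (F := F) (X := ⊥) (w := ε) hε0'
    have hl : ∀ b, ψ b ε = g (ψ b ε) • ε := by
      intro b
      obtain ⟨t, ht⟩ := hsp (ψ b ε) ⟨by
        rw [SetLike.mem_coe, LinearMap.mem_ker, hχ0]
        show χ0 (φ b) * χ0 ε = 0
        rw [hε1, mul_zero], by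
        rw [SetLike.mem_coe, LinearMap.mem_ker, hχ1]
        show χ1 (φ b) * χ1 ε = 0
        rw [hε2, mul_zero]⟩
      rw [← ht, map_smul, hg, smul_eq_mul, mul_one]
    set l : V →ₗ[F] F := g ∘ₗ ψ.flip ε with hld
    have hl' : ∀ b, ψ b ε = l b • ε := hl
    have hla : l ≠ 0 := by
      intro h
      have := LinearMap.congr_fun h a
      rw [hld, LinearMap.comp_apply, LinearMap.flip_apply, ha, hg, LinearMap.zero_apply] at this
      exact one_ne_zero this
    have hlm : ∀ b c, l (ψ b c) = l (φ b) * l c := by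
      intro b c
      have h1 : ψ (ψ b c) ε = ψ (φ b) (ψ c ε) := assoc b c ε
      rw [hl', hl' c, map_smul, hl', smul_smul] at h1
      have h2 := smul_left_injective F hε0' h1
      rw [mul_comm]; exact h2
    obtain ⟨ν, hν⟩ := hsp (φ ε) ⟨by
      rw [SetLike.mem_coe, LinearMap.mem_ker]
      exact hε2, by
      rw [SetLike.mem_coe, LinearMap.mem_ker]
      show χ2 ε = 0
      rw [h02]; exact hε1⟩
    have hν0 : ν ≠ 0 := by
      rintro rfl
      rw [zero_smul] at hν
      apply hε0'
      apply hφ.1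
      show φ ε = φ 0
      rw [← hν, map_zero]
    apply key3 l hla hlm
    ext b
    have h1 := hφm b ε
    rw [hl', map_smul, ← hν, map_smul, hl', smul_smul, smul_smul] at h1
    have h2 : l b * ν = ν * l (φ b) := smul_left_injective F hε0' h1
    rw [LinearMap.comp_apply]
    apply mul_left_cancel₀ hν0
    rw [← h2, mul_comm]
  · -- a cycle of length three
    have h31 : χ3 ≠ χ1 := fun h => h02 (key5 _ _ h)
    have h3 : χ3 = χ0 := by
      by_contra h30'
      have hli := indep 4 ![χ0, χ1, χ2, χ3] (by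
        intro i; fin_cases i; exacts [h00, h10, h20, h30]) (by
        intro i; fin_cases i; exacts [hχ0, hχ1, hχ2, hχ3]) (by
        intro i j hij
        fin_cases i <;> fin_cases j <;> first | rfl | (exfalso; simp at hij; first
          | exact n01 hij.symm | exact n01 hij | exact n12 hij | exact n12 hij.symm
          | exact n23 hij | exact n23 hij.symm | exact h02 hij | exact h02 hij.symm
          | exact h31 hij | exact h31 hij.symm | exact h30' hij | exact h30' hij.symm))
      have h1 := hli.fintype_card_le_finrank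
      have h2 : finrank F (V →ₗ[F] F) = 3 := by
        rw [← hV]; exact Subspace.dual_finrank_eq
      rw [h2, Fintype.card_fin] at h1
      omega
    have hli := indep 3 ![χ0, χ1, χ2] (by
        intro i; fin_cases i; exacts [h00, h10, h20]) (by
        intro i; fin_cases i; exacts [hχ0, hχ1, hχ2]) (by
        intro i j hij
        fin_cases i <;> fin_cases j <;> first | rfl | (exfalso; simp at hij; first
          | exact n01 hij.symm | exact n01 hij | exact n12 hij | exact n12 hij.symm
          | exact h02 hij | exact h02 hij.symm))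
    have h4 : χ0 + χ1 + χ2 = 0 := by
      apply c2
      intro b e
      have e0 : ∀ x, χ0 (φ x) = χ1 x := fun x => rfl
      have e1 : ∀ x, χ1 (φ x) = χ2 x := fun x => rfl
      have e2 : ∀ x, χ2 (φ x) = χ0 x := fun x => LinearMap.congr_fun h3 x
      have f0 : ∀ b c, χ0 (ψ b c) = χ1 b * χ0 c := fun b c => hχ0 b c
      have f1 : ∀ b c, χ1 (ψ b c) = χ2 b * χ1 c := fun b c => hχ1 b c
      have f2 : ∀ b c, χ2 (ψ b c) = χ0 b * χ2 c := fun b c => by rw [hχ2, e2]
      simp only [LinearMap.add_apply]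
      rw [hφa, f0, f1, f2, f0, f1, f2, e0, e1, e2]
      ring
    have h5 := (Fintype.linearIndependent_iff.1 hli) (fun _ => 1) (by
      rw [Fin.sum_univ_three]
      simpa using h4) 0
    exact one_ne_zero h5

end H79.SymLocE
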