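import Mathlib
import Cfsg.Agent.Lib.H79.SymLocE

/-! Bilinear maps `V × V → P` with all left multiplications singular. -/

set_option autoImplicit false
set_option linter.unusedSectionVars false
set_option linter.unusedVariables false
set_option linter.style.haveILetI false

namespace H79.SymLocE

open Submodule Module

universe u v w

variable {F : Type u} [Field F] [Infinite F] {V : Type v} [AddCommGroup V] [Module F V]
  {P : Type w} [AddCommGroup P] [Module F P]

theorem cubic_zero (a b c : F) (h : ∀ t : F, a * t + b * t ^ 2 + c * t ^ 3 = 0) :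
    a = 0 ∧ b = 0 ∧ c = 0 := by
  open Polynomial in
  have h1 : (C a * X + C b * X ^ 2 + C c * X ^ 3 : F[X]) = 0 := by
    apply Polynomial.funext
    intro t
    simpa using h t
  refine ⟨?_, ?_, ?_⟩
  · have := congrArg (fun p => Polynomial.coeff p 1) h1
    simpa [Polynomial.coeff_X, Polynomial.coeff_C_mul, Polynomial.coeff_X_pow] using this
  · have := congrArg (fun p => Polynomial.coeff p 2) h1
    simpa [Polynomial.coeff_X, Polynomial.coeff_C_mul, Polynomial.coeff_X_pow] using this
  · have := congrArg (fun p => Polynomial.coeff p 3) h1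
    simpa [Polynomial.coeff_X, Polynomial.coeff_C_mul, Polynomial.coeff_X_pow] using this

theorem exists_ne_zero_three (f g h : V →ₗ[F] F) (hf : f ≠ 0) (hg : g ≠ 0) (hh : h ≠ 0) :
    ∃ x, f x ≠ 0 ∧ g x ≠ 0 ∧ h x ≠ 0 := by
  -- two functionals
  have two : ∀ (f g : V →ₗ[F] F), f ≠ 0 → g ≠ 0 → ∃ x, f x ≠ 0 ∧ g x ≠ 0 := by
    intro f g hf hg
    obtain ⟨x, hx⟩ : ∃ x, f x ≠ 0 := by
      by_contra hc; push Not at hc; exact hf (LinearMap.ext hc)
    obtain ⟨y, hy⟩ : ∃ x, g x ≠ 0 := by
      by_contra hc; push Not at hc; exact hg (LinearMap.ext hc)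
    by_cases hgx : g x = 0
    · by_cases hfy : f y = 0
      · refine ⟨x + y, ?_, ?_⟩
        · rw [map_add, hfy, add_zero]; exact hx
        · rw [map_add, hgx, zero_add]; exact hy
      · exact ⟨y, hfy, hy⟩
    · exact ⟨x, hx, hgx⟩
  obtain ⟨x, hfx, hgx⟩ := two f g hf hg
  obtain ⟨y, hy⟩ : ∃ x, h x ≠ 0 := by
    by_contra hc; push Not at hc; exact hh (LinearMap.ext hc)
  -- choose `t` with all `(x + t y)` nonzero
  set s : Set F := {t | f x + t * f y = 0} ∪ {t | g x + t * g y = 0} ∪ {t | h x + t * h y = 0}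
    with hs
  have fin1 : ∀ a b : F, a ≠ 0 ∨ b ≠ 0 → {t : F | a + t * b = 0}.Finite := by
    intro a b hab
    by_cases hb : b = 0
    · rcases hab with ha | hb'
      · refine Set.Finite.subset Set.finite_empty ?_
        intro t ht
        rw [Set.mem_ofPred_eq, hb, mul_zero, add_zero] at ht
        exact ha ht
      · exact absurd hb hb'
    · refine Set.Finite.subset (Set.finite_singleton (-a / b)) ?_
      intro t ht
      rw [Set.mem_ofPred_eq] at ht
      rw [Set.mem_singleton_iff, eq_div_iff hb]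
      linear_combination ht
  have hfin : s.Finite := ((fin1 _ _ (Or.inl hfx)).union (fin1 _ _ (Or.inl hgx))).union
    (fin1 _ _ (Or.inr hy))
  obtain ⟨t, ht⟩ := hfin.infinite_compl.nonempty
  rw [hs, Set.mem_compl_iff, Set.mem_union, Set.mem_union, not_or, not_or] at ht
  obtain ⟨⟨h1, h2⟩, h3⟩ := ht
  refine ⟨x + t • y, ?_, ?_, ?_⟩
  · rw [map_add, map_smul, smul_eq_mul]; exact h1
  · rw [map_add, map_smul, smul_eq_mul]; exact h2
  · rw [map_add, map_smul, smul_eq_mul]; exact h3

variable [FiniteDimensional F V] [FiniteDimensional F P]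

/-- `finrank P = 3` and there is an element of rank two. -/
theorem rank_two (hV : finrank F V = 3) (hP : finrank F P ≤ 3) (μ : V →ₗ[F] V →ₗ[F] P)
    (H1 : ∀ x, x ≠ 0 → ∃ b, μ x b ≠ 0) (H2 : ∀ b, b ≠ 0 → ∃ x, μ x b ≠ 0)
    (H3 : ∀ x, LinearMap.range (μ x) ≠ ⊤) (H5 : ∀ p : P, ∃ x b, μ x b ∉ span F {p}) :
    finrank F P = 3 ∧ ∃ a, finrank F (LinearMap.range (μ a)) = 2 := by
  classical
  haveI : Nontrivial V := Module.nontrivial_of_finrank_pos (R := F) (by omega)
  obtain ⟨v0, hv0⟩ := exists_ne (0 : V)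
  have hlt : ∀ x, finrank F (LinearMap.range (μ x)) < finrank F P := fun x =>
    Submodule.finrank_lt (H3 x)
  by_cases hex : ∃ a, 2 ≤ finrank F (LinearMap.range (μ a))
  · obtain ⟨a, ha⟩ := hex
    have := hlt a
    exact ⟨by omega, a, by omega⟩
  exfalso
  push Not at hex
  have hone : ∀ x, finrank F (LinearMap.range (μ x)) ≤ 1 := fun x => by have := hex x; omega
  -- any two values are proportional
  have hprop : ∀ x b c, μ x b ≠ 0 → μ x c ∈ span F {μ x b} := by
    intro x b c hb
    have h1 : span F {μ x b} ≤ LinearMap.range (μ x) := by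
      rw [Submodule.span_singleton_le_iff_mem]; exact ⟨b, rfl⟩
    have h2 : span F {μ x b} = LinearMap.range (μ x) := by
      apply Submodule.eq_of_le_of_finrank_le h1
      rw [finrank_span_singleton hb]
      exact hone x
    rw [h2]
    exact ⟨c, rfl⟩
  obtain ⟨b1, hb1⟩ := H1 v0 hv0
  set p := μ v0 b1 with hp
  -- the kernel of `μ v0`
  have hB : ∀ b, μ v0 b = 0 → ∀ x, μ x b ∈ span F {p} := by
    intro b hb x
    by_contra hxb
    have hxb0 : μ x b ≠ 0 := fun h => hxb (by rw [h]; exact zero_mem _)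
    have h1 : ∀ t : F, t ≠ 0 → p + t • μ x b1 ∈ span F {μ x b} := by
      intro t ht
      have h2 : μ (v0 + t • x) b = t • μ x b := by
        rw [map_add, map_smul, LinearMap.add_apply, LinearMap.smul_apply, hb, zero_add]
      have h3 : μ (v0 + t • x) b1 = p + t • μ x b1 := by
        rw [map_add, map_smul, LinearMap.add_apply, LinearMap.smul_apply, hp]
      have h4 := hprop (v0 + t • x) b b1 (by rw [h2]; exact smul_ne_zero ht hxb0)
      rw [h3, h2] at h4
      exact (Submodule.span_singleton_smul_le F t _) h4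
    obtain ⟨t, ht⟩ := (Set.Finite.infinite_compl (Set.toFinite ({0, 1} : Set F))).nonempty
    simp only [Set.mem_compl_iff, Set.mem_insert_iff, Set.mem_singleton_iff, not_or] at ht
    have h2 := h1 1 one_ne_zero
    have h3 := h1 t ht.1
    rw [one_smul] at h2
    have h4 : (t - 1) • μ x b1 ∈ span F {μ x b} := by
      have := sub_mem h3 h2
      have e : (p + t • μ x b1) - (p + μ x b1) = (t - 1) • μ x b1 := by module
      rwa [e] at this
    have h5 : μ x b1 ∈ span F {μ x b} := by
      have := Submodule.smul_mem _ (t - 1)⁻¹ h4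
      rwa [smul_smul, inv_mul_cancel₀ (sub_ne_zero.2 ht.2), one_smul] at this
    have h6 : p ∈ span F {μ x b} := by
      have := sub_mem h2 h5
      rwa [add_sub_cancel_right] at this
    obtain ⟨s, hs⟩ := Submodule.mem_span_singleton.1 h6
    have hs0 : s ≠ 0 := by
      rintro rfl
      rw [zero_smul] at hs
      exact hb1 hs.symm
    apply hxb
    rw [← hs]
    refine Submodule.mem_span_singleton.2 ⟨s⁻¹, ?_⟩
    rw [smul_smul, inv_mul_cancel₀ hs0, one_smul]
  -- there is `b0 ≠ 0` in the kernel
  have hker : LinearMap.ker (μ v0) ≠ ⊥ := by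
    intro h
    have h1 := LinearMap.finrank_range_add_finrank_ker (μ v0)
    rw [h, finrank_bot, hV] at h1
    have := hone v0
    omega
  obtain ⟨b0, hb0, hb00⟩ := Submodule.exists_mem_ne_zero_of_ne_bot hker
  obtain ⟨x0, hx0⟩ := H2 b0 hb00
  have hx0p : span F {μ x0 b0} = span F {p} := by
    apply Submodule.eq_of_le_of_finrank_le
      ((Submodule.span_singleton_le_iff_mem _ _).2 (hB b0 hb0 x0))
    rw [finrank_span_singleton hb1, finrank_span_singleton hx0]
  obtain ⟨x, b, hxb⟩ := H5 p
  apply hxb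
  by_cases h : μ x b0 = 0
  · have h1 : μ (x + x0) b0 = μ x0 b0 := by rw [map_add, LinearMap.add_apply, h, zero_add]
    have h2 := hprop (x + x0) b0 b (by rw [h1]; exact hx0)
    have h3 := hprop x0 b0 b hx0
    rw [h1, hx0p] at h2
    rw [hx0p] at h3
    have h4 := sub_mem h2 h3
    rwa [map_add, LinearMap.add_apply, add_sub_cancel_right] at h4
  · have h2 := hprop x b0 b h
    have h3 := hB b0 hb0 x
    exact (Submodule.span_singleton_le_iff_mem _ _).2 h3 h2

/-- the structure at an element of rank two -/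
theorem sing_local (hV : finrank F V = 3) (hP : finrank F P = 3) (μ : V →ₗ[F] V →ₗ[F] P)
    (H2 : ∀ b, b ≠ 0 → ∃ x, μ x b ≠ 0)
    (H3 : ∀ x, LinearMap.range (μ x) ≠ ⊤)
    (H4 : ∀ f : P →ₗ[F] F, (∀ x b, f (μ x b) = 0) → f = 0)
    (nA : ∀ b b' p, (∀ s t : F, s • b + t • b' = 0 → s = 0 ∧ t = 0) →
      (∀ x, μ x b ∈ span F {p}) → (∀ x, μ x b' ∈ span F {p}) → False)
    (a : V) (ha : finrank F (LinearMap.range (μ a)) = 2) :
    ∃ b3, b3 ≠ 0 ∧ μ a b3 = 0 ∧ (∀ b, μ a b = 0 → ∃ t : F, t • b3 = b) ∧
      (∀ x, μ x b3 ∈ LinearMap.range (μ a)) ∧ (∀ x, μ x b3 = 0 → ∃ t : F, t • a = x) ∧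
      (∀ x, x ≠ 0 → 2 ≤ finrank F (LinearMap.range (μ x))) := by
  classical
  have hker : finrank F (LinearMap.ker (μ a)) = 1 := by
    have h1 := LinearMap.finrank_range_add_finrank_ker (μ a)
    omega
  obtain ⟨⟨b3, hb3⟩, hb30, hb3s⟩ := finrank_eq_one_iff'.1 hker
  have hb30' : b3 ≠ 0 := fun h => hb30 (Subtype.ext h)
  rw [LinearMap.mem_ker] at hb3
  have hkers : ∀ b, μ a b = 0 → ∃ t : F, t • b3 = b := fun b hb => by
    obtain ⟨t, ht⟩ := hb3s ⟨b, hb⟩
    exact ⟨t, congrArg Subtype.val ht⟩
  -- choice of a basis with prescribed `b1`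
  have basis1 : ∀ b1, μ a b1 ≠ 0 → ∃ (b2 : V) (π0 π1 π2 : P →ₗ[F] F),
      (∀ q, π0 q = 0 → π1 q = 0 → π2 q = 0 → q = 0) ∧
      (π0 (μ a b1) = 1 ∧ π1 (μ a b1) = 0 ∧ π2 (μ a b1) = 0) ∧
      (π0 (μ a b2) = 0 ∧ π1 (μ a b2) = 1 ∧ π2 (μ a b2) = 0) ∧
      (∀ q, π2 q = 0 → q ∈ LinearMap.range (μ a)) ∧ π2 ≠ 0 ∧
      (∀ b, ∃ r s t : F, b = r • b1 + s • b2 + t • b3) := by
    intro b1 hb1
    have h1 : ¬ LinearMap.range (μ a) ≤ span F {μ a b1} := by
      intro h
      have := Submodule.finrank_mono h
      rw [finrank_span_singleton hb1, ha] at this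
      omega
    obtain ⟨q2, ⟨b2, rfl⟩, hq2⟩ := SetLike.not_le_iff_exists.1 h1
    obtain ⟨q3, hq3⟩ : ∃ q, q ∉ LinearMap.range (μ a) := by
      by_contra h
      push Not at h
      exact H3 a (eq_top_iff.2 fun x _ => h x)
    have hli : LinearIndependent F ![μ a b1, μ a b2] := by
      rw [LinearIndependent.pair_iff' hb1]
      intro t ht
      exact hq2 (ht ▸ Submodule.smul_mem _ t (Submodule.mem_span_singleton_self _))
    have hsp : span F {μ a b1, μ a b2} = LinearMap.range (μ a) := by
      apply Submodule.eq_of_le_of_finrank_le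
      · rw [Submodule.span_le]
        rintro z (rfl | rfl)
        · exact ⟨b1, rfl⟩
        · exact ⟨b2, rfl⟩
      · have h5 := finrank_span_eq_card hli
        rw [Matrix.range_cons, Matrix.range_cons, Matrix.range_empty, Set.union_empty,
          Set.singleton_union, Fintype.card_fin] at h5
        rw [h5, ha]
    have hq1 : μ a b1 ∉ span F {μ a b2} := by
      intro h
      obtain ⟨t, ht⟩ := Submodule.mem_span_singleton.1 h
      have h2 := (LinearIndependent.pair_iff.1 hli) 1 (-t) (by rw [one_smul, neg_smul, ht]; abel)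
      exact one_ne_zero h2.1
    obtain ⟨π0, h01, h02⟩ := exists_fun' hq1
    obtain ⟨π1, h11, h12⟩ := exists_fun' hq2
    obtain ⟨π2, h21, h22⟩ := exists_fun' hq3
    have hk2 : LinearMap.range (μ a) = LinearMap.ker π2 := by
      apply Submodule.eq_of_le_of_finrank_le
      · intro i hi; exact h22 i hi
      · have h6 := LinearMap.finrank_range_add_finrank_ker π2
        have h7 : LinearMap.range π2 = ⊤ := by
          rw [LinearMap.range_eq_top]
          intro t
          exact ⟨t • q3, by rw [map_smul, h21, smul_eq_mul, mul_one]⟩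
        rw [h7, finrank_top, finrank_self, hP] at h6
        omega
    have e1 : π1 (μ a b1) = 0 := h12 _ (Submodule.mem_span_singleton_self _)
    have e2 : π0 (μ a b2) = 0 := h02 _ (Submodule.mem_span_singleton_self _)
    refine ⟨b2, π0, π1, π2, ?_, ⟨h01, e1, h22 _ ⟨b1, rfl⟩⟩, ⟨e2, h11, h22 _ ⟨b2, rfl⟩⟩, ?_, ?_, ?_⟩
    · intro q hq0 hq1 hq2
      have h3 : q ∈ span F {μ a b1, μ a b2} := by rw [hsp, hk2]; exact hq2
      obtain ⟨r, s, rfl⟩ := Submodule.mem_span_pair.1 h3
      rw [map_add, map_smul, map_smul, h01, e2, smul_eq_mul, smul_eq_mul, mul_one, mul_zero,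
        add_zero] at hq0
      rw [map_add, map_smul, map_smul, h11, e1, smul_eq_mul, smul_eq_mul, mul_one, mul_zero,
        zero_add] at hq1
      rw [hq0, hq1, zero_smul, zero_smul, add_zero]
    · intro q hq
      rw [hk2]; exact hq
    · intro h
      rw [h, LinearMap.zero_apply] at h21
      exact zero_ne_one h21
    · intro b
      have h3 : μ a b ∈ span F {μ a b1, μ a b2} := by rw [hsp]; exact ⟨b, rfl⟩
      obtain ⟨r, s, hrs⟩ := Submodule.mem_span_pair.1 h3
      obtain ⟨t, ht⟩ := hkers (b - r • b1 - s • b2) (by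
        rw [map_sub, map_sub, map_smul, map_smul, ← hrs]; abel)
      exact ⟨r, s, t, by rw [ht]; abel⟩
  -- the determinant conditions
  have dets : ∀ (b1 b2 : V) (π0 π1 π2 : P →ₗ[F] F),
      (π0 (μ a b1) = 1 ∧ π1 (μ a b1) = 0 ∧ π2 (μ a b1) = 0) →
      (π0 (μ a b2) = 0 ∧ π1 (μ a b2) = 1 ∧ π2 (μ a b2) = 0) →
      (∀ b, ∃ r s t : F, b = r • b1 + s • b2 + t • b3) → ∀ x,
      π2 (μ x b3) = 0 ∧
      π1 (μ x b3) * π2 (μ x b2) + π0 (μ x b3) * π2 (μ x b1) = 0 ∧
      π0 (μ x b3) * (π1 (μ x b1) * π2 (μ x b2) - π1 (μ x b2) * π2 (μ x b1)) -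
        π1 (μ x b3) * (π0 (μ x b1) * π2 (μ x b2) - π0 (μ x b2) * π2 (μ x b1)) = 0 := by
    intro b1 b2 π0 π1 π2 e1 e2 hb x
    have hdet : ∀ x, π0 (μ x b1) * (π1 (μ x b2) * π2 (μ x b3) - π1 (μ x b3) * π2 (μ x b2)) -
        π0 (μ x b2) * (π1 (μ x b1) * π2 (μ x b3) - π1 (μ x b3) * π2 (μ x b1)) +
        π0 (μ x b3) * (π1 (μ x b1) * π2 (μ x b2) - π1 (μ x b2) * π2 (μ x b1)) = 0 := by
      intro x
      have hk : LinearMap.ker (μ x) ≠ ⊥ := by
        intro h
        have h1 := LinearMap.finrank_range_add_finrank_ker (μ x)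
        rw [h, finrank_bot, hV, add_zero, ← hP] at h1
        exact H3 x (Submodule.eq_top_of_finrank_eq h1)
      obtain ⟨b, hb1, hb0⟩ := Submodule.exists_mem_ne_zero_of_ne_bot hk
      rw [LinearMap.mem_ker] at hb1
      obtain ⟨r, s, t, rfl⟩ := hb b
      set M : Matrix (Fin 3) (Fin 3) F := !![π0 (μ x b1), π0 (μ x b2), π0 (μ x b3);
        π1 (μ x b1), π1 (μ x b2), π1 (μ x b3); π2 (μ x b1), π2 (μ x b2), π2 (μ x b3)] with hM
      have hpi : ∀ π : P →ₗ[F] F, π (μ x b1) * r + π (μ x b2) * s + π (μ x b3) * t = 0 := by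
        intro π
        have := congrArg π hb1
        simp only [map_add, map_smul, smul_eq_mul, map_zero] at this
        linear_combination this
      have h1 : M.det = 0 := by
        rw [← Matrix.exists_mulVec_eq_zero_iff]
        refine ⟨![r, s, t], ?_, ?_⟩
        · intro h
          have h2 := congrFun h 0
          have h3 := congrFun h 1
          have h4 := congrFun h 2
          simp at h2 h3 h4
          apply hb0
          rw [h2, h3, h4]
          simp
        · funext i
          fin_cases i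
          · simpa [hM, Matrix.mulVec, dotProduct, Fin.sum_univ_three] using hpi π0
          · simpa [hM, Matrix.mulVec, dotProduct, Fin.sum_univ_three] using hpi π1
          · simpa [hM, Matrix.mulVec, dotProduct, Fin.sum_univ_three] using hpi π2
      rw [Matrix.det_fin_three, hM] at h1
      simp at h1
      linear_combination h1
    obtain ⟨e10, e11, e12⟩ := e1
    obtain ⟨e20, e21, e22⟩ := e2
    have h1 : ∀ t : F, π2 (μ x b3) * t + (π0 (μ x b1) * π2 (μ x b3) + π1 (μ x b2) * π2 (μ x b3)
        - π1 (μ x b3) * π2 (μ x b2) - π0 (μ x b3) * π2 (μ x b1)) * t ^ 2 +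
        (π0 (μ x b1) * (π1 (μ x b2) * π2 (μ x b3) - π1 (μ x b3) * π2 (μ x b2)) -
        π0 (μ x b2) * (π1 (μ x b1) * π2 (μ x b3) - π1 (μ x b3) * π2 (μ x b1)) +
        π0 (μ x b3) * (π1 (μ x b1) * π2 (μ x b2) - π1 (μ x b2) * π2 (μ x b1))) * t ^ 3 = 0 := by
      intro t
      have h2 := hdet (a + t • x)
      simp only [map_add, map_smul, LinearMap.add_apply, LinearMap.smul_apply, smul_eq_mul, e10,
        e11, e12, e20, e21, e22, hb3, map_zero] at h2
      linear_combination h2
    obtain ⟨h2, h3, h4⟩ := cubic_zero _ _ _ h1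
    rw [h2] at h3 h4
    exact ⟨h2, by linear_combination -h3, by linear_combination h4⟩
  obtain ⟨c1, hc1⟩ : ∃ c, μ a c ≠ 0 := by
    by_contra h
    push Not at h
    have h1 : LinearMap.range (μ a) = ⊥ := by
      rw [eq_bot_iff]
      rintro _ ⟨c, rfl⟩
      rw [h c]; exact zero_mem _
    rw [h1, finrank_bot] at ha
    omega
  obtain ⟨c2, π0, π1, π2, hπ, e1, e2, hπ2, hπ20, hb⟩ := basis1 c1 hc1
  have hd := dets c1 c2 π0 π1 π2 e1 e2 hb
  have F1 : ∀ x, μ x b3 ∈ LinearMap.range (μ a) := fun x => hπ2 _ (hd x).1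
  -- functionals in the first variable
  have lin : ∀ (π : P →ₗ[F] F) (b : V), ∃ g : V →ₗ[F] F, ∀ x, g x = π (μ x b) := fun π b =>
    ⟨π ∘ₗ μ.flip b, fun x => rfl⟩
  -- case (iii) is impossible
  have hiv : ∀ x, μ x b3 = 0 → ∃ t : F, t • a = x := by
    by_contra hcon
    push Not at hcon
    obtain ⟨x0, hx0, hx0a⟩ := hcon
    obtain ⟨x1, hx1⟩ := H2 b3 hb30'
    obtain ⟨b1, hb1⟩ := F1 x1
    obtain ⟨b2, ρ0, ρ1, ρ2, hρ, f1, f2, hρ2, hρ20, hbb⟩ := basis1 b1 (by rw [hb1]; exact hx1)
    have hd' := dets b1 b2 ρ0 ρ1 ρ2 f1 f2 hbb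
    have hsp : ∀ x, μ x b3 ∈ span F {μ a b1} := by
      have h1 : LinearMap.range (μ.flip b3) = span F {μ a b1} := by
        symm
        apply Submodule.eq_of_le_of_finrank_le
        · rw [Submodule.span_singleton_le_iff_mem, hb1]
          exact ⟨x1, rfl⟩
        · rw [hb1, finrank_span_singleton hx1]
          have h2 := LinearMap.finrank_range_add_finrank_ker (μ.flip b3)
          have h3 : span F {a, x0} ≤ LinearMap.ker (μ.flip b3) := by
            rw [Submodule.span_le]
            rintro z (rfl | rfl)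
            · exact hb3
            · exact hx0
          have h4 : finrank F (span F {a, x0}) = 2 := by
            have ha0 : a ≠ 0 := by
              rintro rfl
              rw [map_zero, LinearMap.zero_apply] at hc1
              exact hc1 rfl
            have hli : LinearIndependent F ![a, x0] := by
              rw [LinearIndependent.pair_iff' ha0]
              intro t ht
              exact hx0a t ht
            have h5 := finrank_span_eq_card hli
            rwa [Matrix.range_cons, Matrix.range_cons, Matrix.range_empty, Set.union_empty,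
              Set.singleton_union, Fintype.card_fin] at h5
          have h5 := Submodule.finrank_mono h3
          omega
      intro x
      rw [← h1]; exact ⟨x, rfl⟩
    obtain ⟨g, hg⟩ := lin ρ0 b3
    obtain ⟨v1, hv1⟩ := lin ρ2 b1
    obtain ⟨v2, hv2⟩ := lin ρ2 b2
    obtain ⟨p21, hp21⟩ := lin ρ1 b1
    have hu1 : ∀ x, ρ1 (μ x b3) = 0 := by
      intro x
      obtain ⟨t, ht⟩ := Submodule.mem_span_singleton.1 (hsp x)
      rw [← ht, map_smul, f1.2.1, smul_zero]
    have hg0 : g ≠ 0 := by
      intro h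
      have := hg x1
      rw [h, LinearMap.zero_apply, ← hb1, f1.1] at this
      exact zero_ne_one this
    have hv10 : v1 = 0 := by
      by_contra h
      obtain ⟨x, h1, h2, -⟩ := exists_ne_zero_three g v1 v1 hg0 h h
      have h3 := (hd' x).2.1
      rw [hu1, zero_mul, zero_add, ← hg, ← hv1] at h3
      exact (mul_ne_zero h1 h2) h3
    have hv1z : ∀ x, ρ2 (μ x b1) = 0 := fun x => by rw [← hv1, hv10, LinearMap.zero_apply]
    have hv20 : v2 ≠ 0 := by
      intro h
      apply hρ20
      apply H4
      intro x b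
      obtain ⟨r, s, t, rfl⟩ := hbb b
      have hv2z : ρ2 (μ x b2) = 0 := by rw [← hv2, h, LinearMap.zero_apply]
      simp only [map_add, map_smul, hv1z, (hd' x).1, hv2z, smul_zero, add_zero]
    have hp210 : p21 = 0 := by
      by_contra h
      obtain ⟨x, h1, h2, h3⟩ := exists_ne_zero_three g v2 p21 hg0 hv20 h
      have h4 := (hd' x).2.2
      rw [hu1, zero_mul, sub_zero, hv1z, mul_zero, sub_zero, ← hg, ← hv2, ← hp21] at h4
      exact (mul_ne_zero h1 (mul_ne_zero h3 h2)) h4
    refine nA b1 b3 (μ a b1) ?_ ?_ hsp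
    · intro s t hst
      have h1 : μ a (s • b1 + t • b3) = 0 := by rw [hst, map_zero]
      rw [map_add, map_smul, map_smul, hb3, smul_zero, add_zero] at h1
      have hs : s = 0 := (smul_eq_zero.1 h1).resolve_right (by rw [hb1]; exact hx1)
      rw [hs, zero_smul, zero_add] at hst
      exact ⟨hs, (smul_eq_zero.1 hst).resolve_right hb30'⟩
    · intro x
      have h1 : μ x b1 - ρ0 (μ x b1) • μ a b1 = 0 := by
        apply hρ
        · rw [map_sub, map_smul, f1.1, smul_eq_mul, mul_one, sub_self]
        · rw [map_sub, map_smul, f1.2.1, smul_zero, sub_zero, ← hp21, hp210, LinearMap.zero_apply]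
        · rw [map_sub, map_smul, f1.2.2, smul_zero, sub_zero, hv1z]
      rw [sub_eq_zero] at h1
      rw [h1]
      exact Submodule.smul_mem _ _ (Submodule.mem_span_singleton_self _)
  refine ⟨b3, hb30', hb3, hkers, F1, hiv, ?_⟩
  -- all elements have rank at least two
  intro x hx
  by_cases hxa : ∃ t : F, t • a = x
  · obtain ⟨t, rfl⟩ := hxa
    have ht : t ≠ 0 := by rintro rfl; rw [zero_smul] at hx; exact hx rfl
    have h1 : LinearMap.range (μ a) ≤ LinearMap.range (μ (t • a)) := by
      rintro _ ⟨b, rfl⟩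
      refine ⟨t⁻¹ • b, ?_⟩
      rw [map_smul, map_smul, LinearMap.smul_apply, smul_smul, inv_mul_cancel₀ ht, one_smul]
    have := Submodule.finrank_mono h1
    omega
  · have hxb : μ x b3 ≠ 0 := fun h => hxa (hiv x h)
    by_cases hv : π2 (μ x c1) = 0 ∧ π2 (μ x c2) = 0
    · exfalso
      apply hπ20
      apply H4
      have hz : ∀ y, π2 (μ y c1) = 0 ∧ π2 (μ y c2) = 0 := by
        intro y
        by_cases hy : y ∈ span F {a, x}
        · obtain ⟨r, s, rfl⟩ := Submodule.mem_span_pair.1 hy
          simp only [map_add, map_smul, LinearMap.add_apply, LinearMap.smul_apply, smul_eq_mul,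
            e1.2.2, e2.2.2, hv.1, hv.2]
          simp
        · have q1 := (hd (x + y)).2.1
          have q2 := (hd x).2.1
          have q3 := (hd y).2.1
          simp only [map_add, LinearMap.add_apply, hv.1, hv.2, zero_add, mul_zero, add_zero] at q1
          -- linear system
          have r1 : π1 (μ x b3) * π2 (μ y c2) + π0 (μ x b3) * π2 (μ y c1) = 0 := by
            linear_combination q1 - q3
          -- the determinant
          have hdt : π1 (μ x b3) * π0 (μ y b3) - π0 (μ x b3) * π1 (μ y b3) ≠ 0 := by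
            intro h0
            have key : ∀ s t : F, s * π0 (μ x b3) + t * π0 (μ y b3) = 0 →
                s * π1 (μ x b3) + t * π1 (μ y b3) = 0 → s = 0 ∧ t = 0 := by
              intro s t h1 h2
              have h3 : μ (s • x + t • y) b3 = 0 := by
                apply hπ
                · simp only [map_add, map_smul, LinearMap.add_apply, LinearMap.smul_apply,
                    smul_eq_mul]
                  exact h1
                · simp only [map_add, map_smul, LinearMap.add_apply, LinearMap.smul_apply,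
                    smul_eq_mul]
                  exact h2
                · exact (hd _).1
              obtain ⟨r, hr⟩ := hiv _ h3
              have ht : t = 0 := by
                by_contra ht
                apply hy
                refine Submodule.mem_span_pair.2 ⟨t⁻¹ * r, -(t⁻¹ * s), ?_⟩
                have : (t⁻¹ * r) • a + (-(t⁻¹ * s)) • x = t⁻¹ • (r • a - s • x) := by module
                rw [this, hr, add_sub_cancel_left, smul_smul, inv_mul_cancel₀ ht, one_smul]
              refine ⟨?_, ht⟩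
              by_contra hs
              rw [ht, zero_smul, add_zero] at hr
              apply hxa
              refine ⟨s⁻¹ * r, ?_⟩
              rw [mul_smul, hr, smul_smul, inv_mul_cancel₀ hs, one_smul]
            have k1 := key (π1 (μ y b3)) (-(π1 (μ x b3))) (by linear_combination -h0) (by ring)
            have k2 := key (π0 (μ y b3)) (-(π0 (μ x b3))) (by ring) (by linear_combination h0)
            apply hxb
            apply hπ
            · exact neg_eq_zero.1 k2.2
            · exact neg_eq_zero.1 k1.2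
            · exact (hd x).1
          constructor
          · apply (mul_eq_zero.1 (show (π1 (μ x b3) * π0 (μ y b3) - π0 (μ x b3) * π1 (μ y b3)) *
              π2 (μ y c1) = 0 from ?_)).resolve_left hdt
            linear_combination π1 (μ x b3) * q3 - π1 (μ y b3) * r1
          · apply (mul_eq_zero.1 (show (π1 (μ x b3) * π0 (μ y b3) - π0 (μ x b3) * π1 (μ y b3)) *
              π2 (μ y c2) = 0 from ?_)).resolve_left hdt
            linear_combination π0 (μ y b3) * r1 - π0 (μ x b3) * q3
      intro y b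
      obtain ⟨r, s, t, rfl⟩ := hb b
      simp only [map_add, map_smul, (hz y).1, (hz y).2, (hd y).1, smul_zero, add_zero]
    · -- two independent values
      obtain ⟨c, hc⟩ : ∃ c, π2 (μ x c) ≠ 0 := by
        by_contra h
        push Not at h
        exact hv ⟨h c1, h c2⟩
      have hli : LinearIndependent F ![μ x b3, μ x c] := by
        rw [LinearIndependent.pair_iff' hxb]
        intro t ht
        apply hc
        rw [← ht, map_smul, (hd x).1, smul_zero]
      have h5 := finrank_span_eq_card hli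
      rw [Matrix.range_cons, Matrix.range_cons, Matrix.range_empty, Set.union_empty,
        Set.singleton_union, Fintype.card_fin] at h5
      have h6 : finrank F (span F {μ x b3, μ x c}) = 2 := h5
      rw [← h6]
      apply Submodule.finrank_mono
      rw [Submodule.span_le]
      rintro z (rfl | rfl)
      · exact ⟨b3, rfl⟩
      · exact ⟨c, rfl⟩

end H79.SymLocE
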