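import Mathlib

/-! Symmetric local algebras: basic facts (for blocks of rank one). -/

set_option autoImplicit false
set_option linter.unusedSectionVars false
set_option linter.unusedVariables false
set_option linter.style.haveILetI false

namespace H79.SymLoc

open Submodule Module

universe u v w

/-- a symmetric local algebra with split residue field -/
structure Dat (F : Type u) (A : Type v) [Field F] [Ring A] [Algebra F A] where
  J : Submodule F A
  lam : A →ₗ[F] F
  sym : ∀ a b, lam (a * b) = lam (b * a)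
  nd : ∀ a, (∀ b, lam (a * b) = 0) → a = 0
  mulL : ∀ a j, j ∈ J → a * j ∈ J
  mulR : ∀ a j, j ∈ J → j * a ∈ J
  top : ∀ a, ∃ c : F, a - algebraMap F A c ∈ J
  nil : ∃ n, J ^ n = ⊥
  one : (1 : A) ∉ J

section Bilin

variable {F : Type u} [Field F] {V : Type v} [AddCommGroup V] [Module F V] {Q : Type w}
  [AddCommGroup Q] [Module F Q]

theorem rank_one (β : V →ₗ[F] V →ₗ[F] F) (f f' : V →ₗ[F] Q)
    (h : ∀ g x k, β g x • f k = β x k • f' g) (hf : f ≠ 0) :
    ∃ (s : V →ₗ[F] F) (t : F), ∀ x k, β x k = t * (s x * s k) := by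
  by_cases hβ : β = 0
  · exact ⟨0, 0, fun x k => by rw [hβ]; simp⟩
  obtain ⟨g0, h0, hg⟩ : ∃ g0 h0, β g0 h0 ≠ 0 := by
    by_contra hcon
    push Not at hcon
    exact hβ (LinearMap.ext fun g => LinearMap.ext fun x => hcon g x)
  obtain ⟨q, hq⟩ : ∃ q : Q, q = (β g0 h0)⁻¹ • f' g0 := ⟨_, rfl⟩
  have h1 : ∀ k, f k = β h0 k • q := by
    intro k
    have := h g0 h0 k
    rw [hq, smul_comm, ← this, smul_smul, inv_mul_cancel₀ hg, one_smul]
  have hq0 : q ≠ 0 := by
    intro h2
    apply hf
    ext k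
    rw [h1, h2, smul_zero, LinearMap.zero_apply]
  obtain ⟨k0, hk0⟩ : ∃ k, β h0 k ≠ 0 := by
    by_contra hcon
    push Not at hcon
    apply hf
    ext k
    rw [h1, hcon, zero_smul, LinearMap.zero_apply]
  -- `β x k = s x * γ k`
  have h2 : ∀ x k, β x k = β g0 x * (β g0 h0)⁻¹ * β h0 k := by
    intro x k
    have h3 := h g0 x k
    have h30 : f' g0 = (β g0 h0) • q := by rw [hq, smul_smul, mul_inv_cancel₀ hg, one_smul]
    rw [h1, h30, smul_smul, smul_smul] at h3
    have h4 : β g0 x * β h0 k = β x k * β g0 h0 := smul_left_injective F hq0 h3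
    field_simp
    linear_combination -h4
  have h3 : ∀ x, β h0 x = (β g0 h0)⁻¹ * β h0 h0 * β g0 x := by
    intro x
    have h4 : ∀ g y, β g y • β h0 k0 • q = β y k0 • f' g := by
      intro g y
      rw [← h g y k0, h1 k0]
    -- from `h0`
    have h5 : ∀ g, f' g = (β g h0) • q := by
      intro g
      have h6 := h4 g h0
      rw [smul_comm] at h6
      exact (smul_right_injective Q hk0 h6).symm
    have h6 := h4 h0 x
    rw [h5 h0, smul_smul, smul_smul] at h6
    have h7 : β h0 x * β h0 k0 = β x k0 * β h0 h0 := smul_left_injective F hq0 h6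
    rw [h2 x k0] at h7
    have h8 : β h0 k0 * (β h0 x - (β g0 h0)⁻¹ * β h0 h0 * β g0 x) = 0 := by
      linear_combination h7
    rcases mul_eq_zero.1 h8 with h9 | h9
    · exact absurd h9 hk0
    · linear_combination h9
  refine ⟨β g0, (β g0 h0)⁻¹ * ((β g0 h0)⁻¹ * β h0 h0), fun x k => ?_⟩
  rw [h2 x k, h3 k]
  ring

theorem rank_one_symm (β : V →ₗ[F] V →ₗ[F] F) (f f' : V →ₗ[F] Q)
    (h : ∀ g x k, β g x • f k = β x k • f' g) (hβ : ∃ x y, β x y ≠ β y x) : f = 0 := by
  by_contra hf
  obtain ⟨s, t, hst⟩ := rank_one β f f' h hf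
  obtain ⟨x, y, hxy⟩ := hβ
  apply hxy
  rw [hst, hst]
  ring

end Bilin

variable {F : Type u} [Field F] {A : Type v} [Ring A] [Algebra F A]

namespace Dat

variable (D : Dat F A)

theorem pow_mul_mem {i j : ℕ} {a b : A} (ha : a ∈ D.J ^ i) (hb : b ∈ D.J ^ j) :
    a * b ∈ D.J ^ (i + j) := by
  rw [pow_add]; exact Submodule.mul_mem_mul ha hb

theorem mem_pow_one {a : A} : a ∈ D.J ^ 1 ↔ a ∈ D.J := by rw [pow_one]

theorem pow_mulL {i : ℕ} (hi : 1 ≤ i) (a : A) {z : A} (hz : z ∈ D.J ^ i) : a * z ∈ D.J ^ i := by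
  obtain ⟨i, rfl⟩ := Nat.exists_eq_add_of_le' hi
  rw [pow_succ'] at hz ⊢
  refine Submodule.mul_induction_on hz ?_ ?_
  · intro m hm n hn
    rw [← mul_assoc]
    exact Submodule.mul_mem_mul (D.mulL _ _ hm) hn
  · intro x y hx hy
    rw [mul_add]
    exact add_mem hx hy

theorem pow_mulR {i : ℕ} (hi : 1 ≤ i) (a : A) {z : A} (hz : z ∈ D.J ^ i) : z * a ∈ D.J ^ i := by
  obtain ⟨i, rfl⟩ := Nat.exists_eq_add_of_le' hi
  rw [pow_succ] at hz ⊢
  refine Submodule.mul_induction_on hz ?_ ?_
  · intro m hm n hn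
    rw [mul_assoc]
    exact Submodule.mul_mem_mul hm (D.mulR _ _ hn)
  · intro x y hx hy
    rw [add_mul]
    exact add_mem hx hy

theorem pow_succ_le {i : ℕ} (hi : 1 ≤ i) : D.J ^ (i + 1) ≤ D.J ^ i := by
  rw [pow_succ, Submodule.mul_le]
  intro m hm n hn
  exact D.pow_mulR hi n hm

theorem pow_le {i j : ℕ} (hi : 1 ≤ i) (h : i ≤ j) : D.J ^ j ≤ D.J ^ i := by
  induction j, h using Nat.le_induction with
  | base => exact le_rfl
  | succ j hj ih => exact (D.pow_succ_le (hi.trans hj)).trans ih

theorem pow_le_J {i : ℕ} (hi : 1 ≤ i) : D.J ^ i ≤ D.J := by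
  have := D.pow_le le_rfl hi
  rwa [pow_one] at this

theorem eq_bot_of_le {i : ℕ} (h : D.J ^ i ≤ D.J ^ (i + 1)) : D.J ^ i = ⊥ := by
  obtain ⟨n, hn⟩ := D.nil
  have h1 : ∀ k, D.J ^ i ≤ D.J ^ (i + k) := by
    intro k
    induction k with
    | zero => exact le_rfl
    | succ k ih =>
      refine ih.trans ?_
      have h2 : D.J ^ (i + k) = D.J ^ i * D.J ^ k := pow_add _ _ _
      have h3 : D.J ^ (i + (k + 1)) = D.J ^ (i + 1) * D.J ^ k := by
        rw [← pow_add]; congr 1; ring
      rw [h2, h3]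
      exact mul_le_mul' h le_rfl
  have h4 := h1 n
  rw [pow_add, hn, Submodule.mul_bot] at h4
  exact le_bot_iff.1 h4

theorem pow_eq_bot {i j : ℕ} (h : i ≤ j) (hi : D.J ^ i = ⊥) : D.J ^ j = ⊥ := by
  obtain ⟨k, rfl⟩ := Nat.exists_eq_add_of_le h
  rw [pow_add, hi, Submodule.bot_mul]

/-- the symmetric form -/
noncomputable def form : LinearMap.BilinForm F A :=
  (LinearMap.mul F A).compr₂ D.lam

@[simp] theorem form_apply (a b : A) : D.form a b = D.lam (a * b) := rfl

theorem form_refl : D.form.IsRefl := by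
  intro a b h
  rw [form_apply] at h ⊢
  rw [D.sym, h]

theorem form_nondeg : D.form.Nondegenerate := by
  refine (LinearMap.IsRefl.nondegenerate_iff_separatingLeft D.form_refl).2 ?_
  intro a ha
  exact D.nd a ha

/-- the orthogonal space -/
noncomputable def perp (X : Submodule F A) : Submodule F A := D.form.orthogonal X

theorem mem_perp {X : Submodule F A} {a : A} : a ∈ D.perp X ↔ ∀ x ∈ X, D.lam (x * a) = 0 :=
  Iff.rfl

theorem mem_perp' {X : Submodule F A} {a : A} : a ∈ D.perp X ↔ ∀ x ∈ X, D.lam (a * x) = 0 := by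
  rw [mem_perp]
  exact forall₂_congr fun x _ => by rw [D.sym]

variable [FiniteDimensional F A]

theorem finrank_perp (X : Submodule F A) : finrank F X + finrank F (D.perp X) = finrank F A := by
  have h1 := LinearMap.BilinForm.finrank_orthogonal D.form_nondeg X
  have h2 : finrank F X ≤ finrank F A := Submodule.finrank_le X
  rw [perp, h1]
  omega

theorem perp_perp (X : Submodule F A) : D.perp (D.perp X) = X :=
  LinearMap.BilinForm.orthogonal_orthogonal D.form_nondeg D.form_refl X

omit [FiniteDimensional F A] in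
theorem perp_anti {X Y : Submodule F A} (h : X ≤ Y) : D.perp Y ≤ D.perp X := by
  intro a ha x hx
  exact ha x (h hx)

omit [FiniteDimensional F A] in
theorem perp_pow_mul {k : ℕ} (hk : 1 ≤ k) {z w : A} (hz : z ∈ D.perp (D.J ^ k))
    (hw : w ∈ D.J ^ k) : z * w = 0 := by
  apply D.nd
  intro b
  rw [mul_assoc]
  exact D.mem_perp'.1 hz _ (D.pow_mulR hk b hw)

omit [FiniteDimensional F A] in
theorem perp_pow_mul' {k : ℕ} (hk : 1 ≤ k) {z w : A} (hz : z ∈ D.perp (D.J ^ k))
    (hw : w ∈ D.J ^ k) : w * z = 0 := by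
  apply D.nd
  intro b
  rw [D.sym, ← mul_assoc]
  exact D.mem_perp.1 hz _ (D.pow_mulL hk b hw)

omit [FiniteDimensional F A] in
theorem mem_perp_of_mul {X : Submodule F A} {z : A} (h : ∀ w ∈ X, z * w = 0) :
    z ∈ D.perp X := by
  rw [D.mem_perp']
  intro x hx
  rw [h x hx, map_zero]

omit [FiniteDimensional F A] in
theorem mem_perp_of_mul' {X : Submodule F A} {z : A} (h : ∀ w ∈ X, w * z = 0) :
    z ∈ D.perp X := by
  rw [D.mem_perp]
  intro x hx
  rw [h x hx, map_zero]

omit [FiniteDimensional F A] in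
theorem J_sup : span F {(1 : A)} ⊔ D.J = ⊤ := by
  rw [eq_top_iff]
  intro a _
  obtain ⟨c, hc⟩ := D.top a
  rw [show a = algebraMap F A c + (a - algebraMap F A c) by abel]
  refine Submodule.add_mem_sup ?_ hc
  rw [Algebra.algebraMap_eq_smul_one]
  exact Submodule.smul_mem _ _ (Submodule.mem_span_singleton_self _)

theorem finrank_J : finrank F D.J + 1 = finrank F A := by
  have h1 : span F {(1 : A)} ⊓ D.J = ⊥ := by
    rw [eq_bot_iff]
    rintro a ⟨ha1, ha2⟩
    obtain ⟨c, rfl⟩ := Submodule.mem_span_singleton.1 ha1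
    by_cases hc : c = 0
    · rw [hc, zero_smul]; exact zero_mem _
    · exfalso
      apply D.one
      have := D.J.smul_mem c⁻¹ ha2
      rwa [smul_smul, inv_mul_cancel₀ hc, one_smul] at this
  have h2 := Submodule.finrank_sup_add_finrank_inf_eq (span F {(1 : A)}) D.J
  have h3 : (1 : A) ≠ 0 := fun h => D.one (h ▸ zero_mem _)
  rw [D.J_sup, h1, finrank_top, finrank_bot, finrank_span_singleton h3] at h2
  omega

/-- the socle -/
noncomputable def S : Submodule F A := D.perp D.J

theorem finrank_S : finrank F D.S = 1 := by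
  have h1 := D.finrank_perp D.J
  have h2 := D.finrank_J
  rw [S]
  omega

omit [FiniteDimensional F A] in
theorem S_mul {z w : A} (hz : z ∈ D.S) (hw : w ∈ D.J) : z * w = 0 :=
  D.perp_pow_mul (k := 1) le_rfl (by rwa [pow_one]) (by rwa [pow_one])

omit [FiniteDimensional F A] in
theorem S_mul' {z w : A} (hz : z ∈ D.S) (hw : w ∈ D.J) : w * z = 0 :=
  D.perp_pow_mul' (k := 1) le_rfl (by rwa [pow_one]) (by rwa [pow_one])

theorem S_le {X : Submodule F A} (hX : ∀ a, ∀ x ∈ X, a * x ∈ X) (h0 : X ≠ ⊥) : D.S ≤ X := by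
  obtain ⟨n, hn⟩ := D.nil
  have key : ∀ k : ℕ, ∀ x ∈ X, x ≠ 0 → (∀ w ∈ D.J ^ k, w * x = 0) → D.S ≤ X := by
    intro k
    induction k with
    | zero =>
      intro x hx hx0 h
      exfalso
      apply hx0
      have := h 1 (by rw [pow_zero]; exact Submodule.one_le.1 le_rfl)
      rwa [one_mul] at this
    | succ k ih =>
      intro x hx hx0 h
      by_cases h1 : ∀ w ∈ D.J, w * x = 0
      · have h2 : x ∈ D.S := D.mem_perp_of_mul' h1
        intro s hs
        obtain ⟨c, hc⟩ := (finrank_eq_one_iff_of_nonzero' (⟨x, h2⟩ : D.S)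
          (fun h => hx0 (congrArg Subtype.val h))).1 D.finrank_S ⟨s, hs⟩
        have : c • x = s := congrArg Subtype.val hc
        rw [← this]
        exact X.smul_mem c hx
      · push Not at h1
        obtain ⟨w, hw, hwx⟩ := h1
        apply ih (w * x) (hX w x hx) hwx
        intro v hv
        rw [← mul_assoc]
        apply h
        rw [pow_succ]
        exact Submodule.mul_mem_mul hv hw
  obtain ⟨x, hx, hx0⟩ := Submodule.exists_mem_ne_zero_of_ne_bot h0
  apply key n x hx hx0
  intro w hw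
  rw [hn, Submodule.mem_bot] at hw
  rw [hw, zero_mul]

theorem S_le_pow {i : ℕ} (hi : 1 ≤ i) (h : D.J ^ i ≠ ⊥) : D.S ≤ D.J ^ i :=
  D.S_le (fun a x hx => D.pow_mulL hi a hx) h

omit [FiniteDimensional F A] in
/-- if `J^(i+1) = 0` then `J^i` is in the socle -/
theorem pow_le_S {i : ℕ} (h : D.J ^ (i + 1) = ⊥) : D.J ^ i ≤ D.S := by
  intro z hz
  apply D.mem_perp_of_mul
  intro w hw
  have : z * w ∈ D.J ^ (i + 1) := by rw [pow_succ]; exact Submodule.mul_mem_mul hz hw
  rwa [h, Submodule.mem_bot] at this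

/-- the commutator form -/
noncomputable def br (F : Type u) (A : Type v) [Field F] [Ring A] [Algebra F A] :
    A →ₗ[F] A →ₗ[F] A := LinearMap.mul F A - (LinearMap.mul F A).flip

omit [FiniteDimensional F A] in
@[simp] theorem br_apply (a b : A) : br F A a b = a * b - b * a := rfl

/-- the commutator space -/
noncomputable def K (D : Dat F A) : Submodule F A := Submodule.map₂ (br F A) ⊤ ⊤

omit [FiniteDimensional F A] in
theorem br_mem (a b : A) : a * b - b * a ∈ D.K :=
  Submodule.apply_mem_map₂ (br F A) (m := a) (n := b) Submodule.mem_top Submodule.mem_top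

omit [FiniteDimensional F A] in
theorem mem_perp_K {z : A} : z ∈ D.perp D.K ↔ ∀ b, b * z = z * b := by
  constructor
  · intro h b
    rw [← sub_eq_zero]
    apply D.nd
    intro a
    have h1 := D.mem_perp'.1 h _ (D.br_mem a b)
    rw [mul_sub, map_sub, sub_eq_zero] at h1
    rw [D.sym, mul_sub, map_sub, sub_eq_zero]
    calc D.lam (a * (b * z)) = D.lam (z * (a * b)) := by rw [← mul_assoc, D.sym]
      _ = D.lam (z * (b * a)) := h1
      _ = D.lam (a * (z * b)) := by rw [← mul_assoc, D.sym]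
  · intro h
    rw [D.mem_perp']
    have : D.K ≤ LinearMap.ker (D.lam ∘ₗ LinearMap.mulLeft F z) := by
      rw [K, Submodule.map₂_le]
      intro a _ b _
      rw [LinearMap.mem_ker, LinearMap.comp_apply, LinearMap.mulLeft_apply, br_apply, mul_sub,
        map_sub, sub_eq_zero, ← mul_assoc, ← mul_assoc, ← h b, mul_assoc b z a, D.sym b]
    intro x hx
    exact this hx

theorem finrank_K : finrank F D.K + finrank F (Subalgebra.center F A) = finrank F A := by
  have h1 := D.finrank_perp D.K
  have h2 : D.perp D.K = Subalgebra.toSubmodule (Subalgebra.center F A) := by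
    ext z
    rw [D.mem_perp_K, Subalgebra.mem_toSubmodule, Subalgebra.mem_center_iff]
  rw [h2] at h1
  exact h1

omit [FiniteDimensional F A] in
theorem lam_K {z : A} (hz : z ∈ D.K) : D.lam z = 0 := by
  have : D.K ≤ LinearMap.ker D.lam := by
    rw [K, Submodule.map₂_le]
    intro a _ b _
    rw [LinearMap.mem_ker, br_apply, map_sub, D.sym, sub_self]
  exact this hz

omit [FiniteDimensional F A] in
theorem K_inf_S {z : A} (hz : z ∈ D.K) (hs : z ∈ D.S) : z = 0 := by
  apply D.nd
  intro b
  obtain ⟨c, hc⟩ := D.top b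
  have h1 : b = algebraMap F A c + (b - algebraMap F A c) := by abel
  rw [h1, mul_add, map_add, D.mem_perp'.1 hs _ hc, add_zero, ← Algebra.commutes,
    ← Algebra.smul_def, map_smul, D.lam_K hz, smul_zero]

omit [FiniteDimensional F A] in
theorem K_eq : D.K = Submodule.map₂ (br F A) D.J D.J := by
  apply le_antisymm
  · rw [K, Submodule.map₂_le]
    intro a _ b _
    obtain ⟨c, hc⟩ := D.top a
    obtain ⟨d, hd⟩ := D.top b
    have : br F A a b = br F A (a - algebraMap F A c) (b - algebraMap F A d) := by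
      rw [br_apply, br_apply, sub_mul, sub_mul, mul_sub, mul_sub, mul_sub, mul_sub,
        Algebra.commutes c b, ← Algebra.commutes d a, Algebra.commutes c (algebraMap F A d)]
      abel
    rw [this]
    exact Submodule.apply_mem_map₂ _ hc hd
  · exact Submodule.map₂_le_map₂ le_top le_top

omit [FiniteDimensional F A] in
theorem K_le : D.K ≤ D.J ^ 2 := by
  rw [K_eq, Submodule.map₂_le]
  intro a ha b hb
  rw [br_apply, pow_two]
  exact sub_mem (Submodule.mul_mem_mul ha hb) (Submodule.mul_mem_mul hb ha)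

omit [FiniteDimensional F A] in
theorem K_eq_bot_iff : D.K = ⊥ ↔ ∀ a b : A, a * b = b * a := by
  constructor
  · intro h a b
    have := D.br_mem a b
    rwa [h, Submodule.mem_bot, sub_eq_zero] at this
  · intro h
    rw [eq_bot_iff, K, Submodule.map₂_le]
    intro a _ b _
    rw [br_apply, h a b, sub_self]
    exact zero_mem _

section Gen

variable {V : Submodule F A}

omit [FiniteDimensional F A] in
theorem gen_pow (hV : D.J = V ⊔ D.J ^ 2) {i : ℕ} (hi : 1 ≤ i) :
    D.J ^ i = V ^ i ⊔ D.J ^ (i + 1) := by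
  have hVJ : V ≤ D.J := by rw [hV]; exact le_sup_left
  have hVp : ∀ i, V ^ i ≤ D.J ^ i := fun i => pow_le_pow_left' hVJ i
  induction i, hi using Nat.le_induction with
  | base => rw [pow_one, pow_one]; exact hV
  | succ i hi ih =>
    apply le_antisymm
    · rw [pow_succ D.J i]
      calc D.J ^ i * D.J = (V ^ i ⊔ D.J ^ (i + 1)) * (V ⊔ D.J ^ 2) := by rw [← ih, ← hV]
        _ ≤ V ^ (i + 1) ⊔ D.J ^ (i + 1 + 1) := by
          rw [Submodule.sup_mul, Submodule.mul_sup, Submodule.mul_sup, ← pow_succ]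
          refine sup_le (sup_le le_sup_left ?_) (sup_le ?_ ?_)
          · refine le_trans (mul_le_mul' (hVp i) le_rfl) ?_
            rw [← pow_add]
            exact le_sup_right
          · refine le_trans (mul_le_mul' le_rfl hVJ) ?_
            rw [← pow_succ]
            exact le_sup_right
          · rw [← pow_add]
            exact le_trans (D.pow_le (by omega) (by omega)) le_sup_right
    · refine sup_le (hVp _) (D.pow_le (by omega) (by omega))

omit [FiniteDimensional F A] in
theorem J_le_of_gen (hV : D.J = V ⊔ D.J ^ 2) {X : Subalgebra F A}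
    (hX : V ≤ Subalgebra.toSubmodule X) : X = ⊤ := by
  have h1 : ∀ i, 1 ≤ i → V ^ i ≤ Subalgebra.toSubmodule X := by
    intro i hi
    induction i, hi using Nat.le_induction with
    | base => rw [pow_one]; exact hX
    | succ i hi ih =>
      rw [pow_succ]
      refine le_trans (mul_le_mul' ih hX) ?_
      rw [Submodule.mul_le]
      intro m hm n hn
      exact X.mul_mem hm hn
  have h2 : ∀ k, 1 ≤ k → D.J ≤ Subalgebra.toSubmodule X ⊔ D.J ^ k := by
    intro k hk
    induction k, hk using Nat.le_induction with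
    | base => rw [pow_one]; exact le_sup_right
    | succ k hk ih =>
      refine ih.trans ?_
      rw [D.gen_pow hV hk]
      exact sup_le le_sup_left (sup_le ((h1 k hk).trans le_sup_left) le_sup_right)
  obtain ⟨n, hn⟩ := D.nil
  have h3 := h2 (n + 1) (by omega)
  rw [D.pow_eq_bot (Nat.le_succ n) hn, sup_bot_eq] at h3
  rw [eq_top_iff]
  intro a _
  obtain ⟨c, hc⟩ := D.top a
  rw [show a = algebraMap F A c + (a - algebraMap F A c) by abel]
  exact X.add_mem (X.algebraMap_mem c) (h3 hc)

omit [FiniteDimensional F A] in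
/-- an element commuting with generators is central -/
theorem central_of_gen (hV : D.J = V ⊔ D.J ^ 2) {w : A} (hw : ∀ v ∈ V, v * w = w * v) :
    ∀ a, a * w = w * a := by
  have := D.J_le_of_gen hV (X := Subalgebra.centralizer F {w}) (by
    intro v hv
    rw [Subalgebra.mem_toSubmodule, Subalgebra.mem_centralizer_iff]
    rintro g rfl
    exact (hw v hv).symm)
  intro a
  have h1 : a ∈ Subalgebra.centralizer F {w} := by rw [this]; trivial
  rw [Subalgebra.mem_centralizer_iff] at h1
  exact (h1 w rfl).symm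

omit [FiniteDimensional F A] in
theorem comm_of_gen (hV : D.J = V ⊔ D.J ^ 2) (hw : ∀ v ∈ V, ∀ w ∈ V, v * w = w * v) :
    ∀ a b : A, a * b = b * a := by
  have h1 : ∀ w ∈ V, ∀ a, a * w = w * a := fun w hw' => D.central_of_gen hV (fun v hv => hw v hv w hw')
  intro a b
  exact D.central_of_gen hV (w := b) (fun v hv => (h1 v hv b).symm) a

omit [FiniteDimensional F A] in
/-- decomposition of the commutator space -/
theorem K_gen (hV : D.J = V ⊔ D.J ^ 2) : D.K = Submodule.map₂ (br F A) V V ⊔
    Submodule.map₂ (br F A) V (D.J ^ 2) ⊔ Submodule.map₂ (br F A) (D.J ^ 2) (D.J ^ 2) := by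
  have h1 : Submodule.map₂ (br F A) (D.J ^ 2) V ≤ Submodule.map₂ (br F A) V (D.J ^ 2) := by
    rw [Submodule.map₂_le]
    intro m hm n hn
    have : br F A m n = - br F A n m := by rw [br_apply, br_apply]; abel
    rw [this]
    exact neg_mem (Submodule.apply_mem_map₂ _ hn hm)
  rw [K_eq]
  conv_lhs => rw [hV]
  rw [Submodule.map₂_sup_left, Submodule.map₂_sup_right, Submodule.map₂_sup_right]
  apply le_antisymm
  · refine sup_le le_sup_left (sup_le (h1.trans (le_sup_right.trans le_sup_left)) le_sup_right)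
  · refine sup_le le_sup_left (le_sup_right.trans le_sup_right)

omit [FiniteDimensional F A] in
/-- one step on the left -/
theorem step_left {i : ℕ} (hi : 1 ≤ i) (hV : D.J = V ⊔ D.J ^ 2) {s : Set A} {G : Submodule F A}
    (hs : ∀ z ∈ s, z ∈ D.J ^ i) (h : D.J ^ i ≤ span F s ⊔ D.J ^ (i + 1))
    (hG : ∀ v ∈ V, ∀ z ∈ s, v * z ∈ G ⊔ D.J ^ (i + 2)) : D.J ^ (i + 1) ≤ G ⊔ D.J ^ (i + 2) := by
  have hVJ : V ≤ D.J := by rw [hV]; exact le_sup_left
  rw [pow_succ' D.J i]
  have h0 : D.J ^ i ≤ D.J ^ i := le_rfl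
  calc D.J * D.J ^ i ≤ (V ⊔ D.J ^ 2) * (span F s ⊔ D.J ^ (i + 1)) := by
        rw [← hV]; exact mul_le_mul' le_rfl h
    _ ≤ G ⊔ D.J ^ (i + 2) := by
      rw [Submodule.mul_sup]
      refine sup_le ?_ ?_
      · rw [Submodule.sup_mul]
        refine sup_le ?_ ?_
        · rw [Submodule.mul_le]
          intro v hv z hz
          refine Submodule.span_induction (p := fun z _ => v * z ∈ G ⊔ D.J ^ (i + 2)) ?_ ?_ ?_ ?_ hz
          · intro z hz; exact hG v hv z hz
          · rw [mul_zero]; exact zero_mem _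
          · intro x y _ _ hx hy; rw [mul_add]; exact add_mem hx hy
          · intro c x _ hx; rw [mul_smul_comm]; exact Submodule.smul_mem _ _ hx
        · refine le_trans (mul_le_mul' le_rfl (Submodule.span_le.2 hs)) ?_
          rw [← pow_add, add_comm 2 i]
          exact le_sup_right
      · rw [← hV]
        refine le_trans ?_ le_sup_right
        rw [← pow_succ']

omit [FiniteDimensional F A] in
/-- one step on the right -/
theorem step_right {i : ℕ} (hi : 1 ≤ i) (hV : D.J = V ⊔ D.J ^ 2) {s : Set A} {G : Submodule F A}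
    (hs : ∀ z ∈ s, z ∈ D.J ^ i) (h : D.J ^ i ≤ span F s ⊔ D.J ^ (i + 1))
    (hG : ∀ v ∈ V, ∀ z ∈ s, z * v ∈ G ⊔ D.J ^ (i + 2)) : D.J ^ (i + 1) ≤ G ⊔ D.J ^ (i + 2) := by
  have hVJ : V ≤ D.J := by rw [hV]; exact le_sup_left
  rw [pow_succ D.J i]
  calc D.J ^ i * D.J ≤ (span F s ⊔ D.J ^ (i + 1)) * (V ⊔ D.J ^ 2) := by
        rw [← hV]; exact mul_le_mul' h le_rfl
    _ ≤ G ⊔ D.J ^ (i + 2) := by
      rw [Submodule.sup_mul]
      refine sup_le ?_ ?_
      · rw [Submodule.mul_sup]
        refine sup_le ?_ ?_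
        · rw [Submodule.mul_le]
          intro z hz v hv
          refine Submodule.span_induction (p := fun z _ => z * v ∈ G ⊔ D.J ^ (i + 2)) ?_ ?_ ?_ ?_ hz
          · intro z hz; exact hG v hv z hz
          · rw [zero_mul]; exact zero_mem _
          · intro x y _ _ hx hy; rw [add_mul]; exact add_mem hx hy
          · intro c x _ hx; rw [smul_mul_assoc]; exact Submodule.smul_mem _ _ hx
        · refine le_trans (mul_le_mul' (Submodule.span_le.2 hs) le_rfl) ?_
          rw [← pow_add]
          exact le_sup_right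
      · rw [← hV]
        refine le_trans ?_ le_sup_right
        rw [← pow_succ]

end Gen

end Dat

end H79.SymLoc
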