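import Mathlib
import Cfsg.Agent.Lib.H79.SymLoc

/-! Symmetric local algebras with two generators. -/

set_option autoImplicit false
set_option linter.unusedSectionVars false
set_option linter.unusedVariables false
set_option linter.style.haveILetI false

namespace H79.SymLoc

open Submodule Module

universe u v w

variable {F : Type u} [Field F] {A : Type v} [Ring A] [Algebra F A]

theorem exists_fun {X : Submodule F A} {w : A} (h : w ∉ X) :
    ∃ θ : A →ₗ[F] F, θ w = 1 ∧ ∀ x ∈ X, θ x = 0 := by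
  obtain ⟨f, hf, hX⟩ := Submodule.exists_dual_map_eq_bot_of_notMem h inferInstance
  refine ⟨(f w)⁻¹ • f, ?_, fun x hx => ?_⟩
  · rw [LinearMap.smul_apply, smul_eq_mul, inv_mul_cancel₀ hf]
  · have : f x ∈ X.map f := Submodule.mem_map_of_mem hx
    rw [hX, Submodule.mem_bot] at this
    rw [LinearMap.smul_apply, this, smul_zero]

namespace Dat

variable (D : Dat F A)

/-- if `J² = span w + J³` with `w k ∈ J⁴` for all `k ∈ J` then `J³ = 0`. -/
theorem pow_three_eq_bot {w : A} (h : D.J ^ 2 ≤ span F {w} ⊔ D.J ^ 3)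
    (hw : ∀ k ∈ D.J, w * k ∈ D.J ^ 4) : D.J ^ 3 = ⊥ := by
  apply D.eq_bot_of_le
  rw [pow_succ D.J 2, Submodule.mul_le]
  intro z hz k hk
  obtain ⟨a, ha, b, hb, rfl⟩ := Submodule.mem_sup.1 (h hz)
  obtain ⟨t, rfl⟩ := Submodule.mem_span_singleton.1 ha
  rw [add_mul, smul_mul_assoc]
  refine add_mem (Submodule.smul_mem _ _ (hw k hk)) ?_
  exact D.pow_mul_mem (i := 3) (j := 1) hb (D.mem_pow_one.2 hk)

/-- the case `J² = span w + J³`. -/
theorem one_dim {w : A} (hw : w ∈ D.J ^ 2) (h : D.J ^ 2 ≤ span F {w} ⊔ D.J ^ 3)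
    (h3 : D.J ^ 3 ≠ ⊥) :
    ∃ (θ : A →ₗ[F] F) (s : A →ₗ[F] F) (t : F), (∀ x ∈ D.J ^ 3, θ x = 0) ∧
      (∀ z ∈ D.J ^ 2, z - θ z • w ∈ D.J ^ 3) ∧
      (∀ a ∈ D.J, ∀ b ∈ D.J, θ (a * b) = t * (s a * s b)) := by
  classical
  have hw3 : w ∉ D.J ^ 3 := by
    intro hw3
    apply h3
    apply D.pow_three_eq_bot h
    intro k hk
    exact D.pow_mul_mem (i := 3) (j := 1) hw3 (D.mem_pow_one.2 hk)
  obtain ⟨θ, hθw, hθ⟩ := exists_fun hw3
  have hz : ∀ z ∈ D.J ^ 2, z - θ z • w ∈ D.J ^ 3 := by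
    intro z hz
    obtain ⟨a, ha, b, hb, rfl⟩ := Submodule.mem_sup.1 (h hz)
    obtain ⟨t, rfl⟩ := Submodule.mem_span_singleton.1 ha
    rw [map_add, map_smul, hθw, hθ b hb, add_zero, smul_eq_mul, mul_one, add_sub_cancel_left]
    exact hb
  -- bilinear form on `J`
  set β : D.J →ₗ[F] D.J →ₗ[F] F :=
    ((LinearMap.mul F A).compr₂ θ).domRestrict₁₂ D.J D.J with hβ
  set f : D.J →ₗ[F] A ⧸ (D.J ^ 4) := (D.J ^ 4).mkQ ∘ₗ LinearMap.mulLeft F w ∘ₗ D.J.subtype with hf
  set f' : D.J →ₗ[F] A ⧸ (D.J ^ 4) := (D.J ^ 4).mkQ ∘ₗ LinearMap.mulRight F w ∘ₗ D.J.subtype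
    with hf'
  have key : ∀ g x k : D.J, β g x • f k = β x k • f' g := by
    intro g x k
    have e1 : (θ ((g : A) * x) • (w * (k : A))) - (θ ((x : A) * k) • ((g : A) * w)) ∈ D.J ^ 4 := by
      have h1 : ((g : A) * x - θ ((g : A) * x) • w) * k ∈ D.J ^ 4 :=
        D.pow_mul_mem (i := 3) (j := 1) (hz _ (by
          rw [pow_two]; exact Submodule.mul_mem_mul g.2 x.2)) (D.mem_pow_one.2 k.2)
      have h2 : (g : A) * ((x : A) * k - θ ((x : A) * k) • w) ∈ D.J ^ 4 :=
        D.pow_mul_mem (i := 1) (j := 3) (D.mem_pow_one.2 g.2) (hz _ (by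
          rw [pow_two]; exact Submodule.mul_mem_mul x.2 k.2))
      have h3 := sub_mem h2 h1
      rw [sub_mul, mul_sub, smul_mul_assoc, mul_smul_comm, mul_assoc] at h3
      have h4 : (g : A) * (x * k) - θ ((x : A) * k) • ((g : A) * w) -
          (g * (x * k) - θ ((g : A) * x) • (w * k)) =
          (θ ((g : A) * x) • (w * (k : A))) - (θ ((x : A) * k) • ((g : A) * w)) := by abel
      rwa [h4] at h3
    have e2 := (Submodule.Quotient.eq (D.J ^ 4)).2 e1
    exact e2
  by_cases hf0 : f = 0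
  · exfalso
    apply h3
    apply D.pow_three_eq_bot h
    intro k hk
    have := LinearMap.congr_fun hf0 ⟨k, hk⟩
    exact (Submodule.Quotient.mk_eq_zero (D.J ^ 4)).1 this
  · obtain ⟨s, t, hst⟩ := rank_one β f f' key hf0
    obtain ⟨s', hs'⟩ := LinearMap.exists_extend s
    refine ⟨θ, s', t, hθ, hz, fun a ha b hb => ?_⟩
    have h1 := hst ⟨a, ha⟩ ⟨b, hb⟩
    have h2 : ∀ c (hc : c ∈ D.J), s' c = s ⟨c, hc⟩ := fun c hc =>
      LinearMap.congr_fun hs' ⟨c, hc⟩
    rw [h2 a ha, h2 b hb]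
    exact h1

/-- if `J² = span c + J³` with `c` a commutator then `J³ = 0` -/
theorem one_dim_comm {a b : A} (ha : a ∈ D.J) (hb : b ∈ D.J)
    (h : D.J ^ 2 ≤ span F {a * b - b * a} ⊔ D.J ^ 3) : D.J ^ 3 = ⊥ := by
  by_contra h3
  have hc : a * b - b * a ∈ D.J ^ 2 := by
    rw [pow_two]; exact sub_mem (Submodule.mul_mem_mul ha hb) (Submodule.mul_mem_mul hb ha)
  obtain ⟨θ, s, t, h1, h2, h4⟩ := D.one_dim hc h h3
  have h5 : θ (a * b - b * a) = 0 := by
    rw [map_sub, h4 a ha b hb, h4 b hb a ha]; ring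
  have h6 := h2 _ hc
  rw [h5, zero_smul, sub_zero] at h6
  apply h3
  apply D.pow_three_eq_bot h
  intro k hk
  exact D.pow_mul_mem (i := 3) (j := 1) h6 (D.mem_pow_one.2 hk)

/-- two generators, noncommutative, `dim Z = 5` -/
structure Two (x y : A) : Prop where
  hx : x ∈ D.J
  hy : y ∈ D.J
  hV : D.J = span F {x, y} ⊔ D.J ^ 2
  ind : ∀ a b : F, a • x + b • y ∈ D.J ^ 2 → a = 0 ∧ b = 0

variable {D} {x y : A}

theorem Two.change (T : D.Two x y) (a b c d : F) (h : a * d - b * c ≠ 0) :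
    D.Two (a • x + b • y) (c • x + d • y) := by
  have e : span F {a • x + b • y, c • x + d • y} = span F {x, y} := by
    apply le_antisymm
    · rw [Submodule.span_le]
      intro z hz
      rcases hz with rfl | rfl
      · exact Submodule.mem_span_pair.2 ⟨a, b, rfl⟩
      · exact Submodule.mem_span_pair.2 ⟨c, d, rfl⟩
    · rw [Submodule.span_le]
      intro z hz
      rcases hz with rfl | rfl
      · refine Submodule.mem_span_pair.2 ⟨(a * d - b * c)⁻¹ * d, (a * d - b * c)⁻¹ * (-b), ?_⟩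
        have : ((a * d - b * c)⁻¹ * d) • (a • z + b • y) + ((a * d - b * c)⁻¹ * (-b)) • (c • z + d • y)
          = ((a * d - b * c)⁻¹ * (a * d - b * c)) • z := by
          simp only [smul_add, smul_smul]; module
        rw [this, inv_mul_cancel₀ h, one_smul]
      · refine Submodule.mem_span_pair.2 ⟨(a * d - b * c)⁻¹ * (-c), (a * d - b * c)⁻¹ * a, ?_⟩
        have : ((a * d - b * c)⁻¹ * (-c)) • (a • x + b • z) + ((a * d - b * c)⁻¹ * a) • (c • x + d • z)
          = ((a * d - b * c)⁻¹ * (a * d - b * c)) • z := by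
          simp only [smul_add, smul_smul]; module
        rw [this, inv_mul_cancel₀ h, one_smul]
  refine ⟨add_mem (D.J.smul_mem _ T.hx) (D.J.smul_mem _ T.hy),
    add_mem (D.J.smul_mem _ T.hx) (D.J.smul_mem _ T.hy), ?_, ?_⟩
  · rw [e]; exact T.hV
  · intro r s hrs
    have h1 : (r * a + s * c) • x + (r * b + s * d) • y ∈ D.J ^ 2 := by
      have : (r * a + s * c) • x + (r * b + s * d) • y =
        r • (a • x + b • y) + s • (c • x + d • y) := by module
      rw [this]; exact hrs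
    obtain ⟨h2, h3⟩ := T.ind _ _ h1
    have h4 : r * (a * d - b * c) = 0 := by linear_combination d * h2 - c * h3
    have h5 : s * (a * d - b * c) = 0 := by linear_combination -b * h2 + a * h3
    exact ⟨(mul_eq_zero.1 h4).resolve_right h, (mul_eq_zero.1 h5).resolve_right h⟩

theorem Two.swap (T : D.Two x y) : D.Two y x := by
  have := T.change 0 1 1 0 (by norm_num)
  simpa using this

variable (D)

theorem J3_ne (hK : D.K ≠ ⊥) : D.J ^ 3 ≠ ⊥ := by
  intro h3
  apply hK
  rw [eq_bot_iff]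
  intro k hk
  exact D.K_inf_S hk (D.pow_le_S (i := 2) h3 (D.K_le hk))

variable {D}

theorem Two.KV (T : D.Two x y) : Submodule.map₂ (br F A) (span F {x, y}) (span F {x, y}) ≤
    span F {x * y - y * x} := by
  rw [Submodule.map₂_span_span, Submodule.span_le]
  rintro z ⟨a, ha, b, hb, rfl⟩
  rcases ha with rfl | rfl <;> rcases hb with rfl | rfl
  · simp
  · exact Submodule.mem_span_singleton_self _
  · have : br F A a b = - (b * a - a * b) := by rw [br_apply]; abel
    show br F A a b ∈ _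
    rw [this]
    exact neg_mem (Submodule.mem_span_singleton_self _)
  · simp

theorem Two.V_le (T : D.Two x y) : span F {x, y} ≤ D.J := by
  conv_rhs => rw [T.hV]
  exact le_sup_left

/-- the degree three part of the commutator space -/
noncomputable def K3 (D : Dat F A) (x y : A) : Submodule F A :=
  Submodule.map₂ (br F A) (span F {x, y}) (D.J ^ 2) ⊔ Submodule.map₂ (br F A) (D.J ^ 2) (D.J ^ 2)

theorem Two.K_le (T : D.Two x y) : D.K ≤ span F {x * y - y * x} ⊔ D.K3 x y := by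
  rw [D.K_gen T.hV, K3, sup_assoc]
  exact sup_le_sup_right T.KV _

theorem Two.K3_le (T : D.Two x y) : D.K3 x y ≤ D.J ^ 3 := by
  rw [K3]
  refine sup_le ?_ ?_
  · rw [Submodule.map₂_le]
    intro a ha b hb
    have ha' := T.V_le ha
    rw [br_apply]
    exact sub_mem (D.pow_mul_mem (i := 1) (j := 2) (D.mem_pow_one.2 ha') hb)
      (D.pow_mul_mem (i := 2) (j := 1) hb (D.mem_pow_one.2 ha'))
  · rw [Submodule.map₂_le]
    intro a ha b hb
    rw [br_apply]
    exact D.pow_le (by norm_num) (by norm_num) (sub_mem (D.pow_mul_mem (i := 2) (j := 2) ha hb)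
      (D.pow_mul_mem (i := 2) (j := 2) hb ha))

variable [FiniteDimensional F A]

theorem Two.finrank_J (T : D.Two x y) : finrank F D.J = finrank F (D.J ^ 2 : Submodule F A) + 2 := by
  have h1 : span F {x, y} ⊓ D.J ^ 2 = ⊥ := by
    rw [eq_bot_iff]
    rintro z ⟨hz, hz2⟩
    obtain ⟨a, b, rfl⟩ := Submodule.mem_span_pair.1 hz
    obtain ⟨rfl, rfl⟩ := T.ind a b hz2
    simp
  have h2 := Submodule.finrank_sup_add_finrank_inf_eq (span F {x, y}) (D.J ^ 2)
  have h3 : finrank F (span F {x, y}) = 2 := by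
    have h4 : LinearIndependent F ![x, y] := by
      rw [LinearIndependent.pair_iff]
      intro s t hst
      exact T.ind s t (by rw [hst]; exact zero_mem _)
    have h5 := finrank_span_eq_card h4
    rwa [Matrix.range_cons, Matrix.range_cons, Matrix.range_empty, Set.union_empty,
      Set.singleton_union, Fintype.card_fin] at h5
  rw [← T.hV, h1, finrank_bot, h3] at h2
  omega

/-- `J² = span w + (K + S)` -/
theorem Two.exists_w (T : D.Two x y) (hZ : finrank F (Subalgebra.center F A) = 5)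
    (hK : D.K ≠ ⊥) : ∃ w ∈ D.J ^ 2, D.J ^ 2 ≤ span F {w} ⊔ (D.K ⊔ D.S) := by
  have h1 := T.finrank_J
  have h2 := D.finrank_J
  have h3 := D.finrank_K
  have h4 : D.K ⊓ D.S = ⊥ := by
    rw [eq_bot_iff]
    rintro z ⟨hz, hz'⟩
    exact D.K_inf_S hz hz'
  have h5 := Submodule.finrank_sup_add_finrank_inf_eq D.K D.S
  rw [h4, finrank_bot, D.finrank_S] at h5
  have h6 : D.J ^ 2 ≠ ⊥ := fun h => D.J3_ne hK (D.pow_eq_bot (by norm_num) h)
  have h7 : D.K ⊔ D.S ≤ D.J ^ 2 := sup_le D.K_le (D.S_le_pow (by norm_num) h6)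
  have h8 : ¬ D.J ^ 2 ≤ D.K ⊔ D.S := by
    intro h
    have := Submodule.finrank_mono h
    omega
  obtain ⟨w, hw, hw'⟩ := SetLike.not_le_iff_exists.1 h8
  refine ⟨w, hw, ?_⟩
  have h9 : span F {w} ⊔ (D.K ⊔ D.S) ≤ D.J ^ 2 :=
    sup_le ((Submodule.span_singleton_le_iff_mem _ _).2 hw) h7
  have h10 : D.K ⊔ D.S < span F {w} ⊔ (D.K ⊔ D.S) := by
    refine lt_of_le_of_ne le_sup_right ?_
    intro h
    apply hw'
    rw [h]
    exact Submodule.mem_sup_left (Submodule.mem_span_singleton_self _)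
  have h11 := Submodule.finrank_lt_finrank_of_lt h10
  exact (Submodule.eq_of_le_of_finrank_le h9 (by omega)).ge

theorem Two.mem_span {v : A} (hv : v ∈ span F {x, y}) : ∃ a b : F, a • x + b • y = v :=
  Submodule.mem_span_pair.1 hv

theorem Two.J_dec (T : D.Two x y) {v : A} (hv : v ∈ D.J) : ∃ (a b : F) (j : A), j ∈ D.J ^ 2 ∧
    v = a • x + b • y + j := by
  rw [T.hV] at hv
  obtain ⟨u, hu, j, hj, rfl⟩ := Submodule.mem_sup.1 hv
  obtain ⟨a, b, rfl⟩ := Submodule.mem_span_pair.1 hu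
  exact ⟨a, b, j, hj, rfl⟩

/-- the case `x y, y x, y² ∈ J³` -/
theorem Two.comm_of_sq (T : D.Two x y) (hxy : x * y ∈ D.J ^ 3) (hyx : y * x ∈ D.J ^ 3)
    (hyy : y * y ∈ D.J ^ 3) : x * y - y * x ∈ D.S := by
  have hx1 : x ∈ D.J ^ 1 := D.mem_pow_one.2 T.hx
  have hy1 : y ∈ D.J ^ 1 := D.mem_pow_one.2 T.hy
  have hxi : ∀ i, x ^ i ∈ D.J ^ i := fun i => Submodule.pow_mem_pow _ T.hx i
  have hX : ∀ i, 2 ≤ i → D.J ^ i ≤ span F {x ^ i} ⊔ D.J ^ (i + 1) := by
    intro i hi
    induction i, hi using Nat.le_induction with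
    | base =>
      refine D.step_left (i := 1) le_rfl T.hV (s := {x, y}) (G := span F {x ^ 2}) ?_ ?_ ?_
      · rintro z (rfl | rfl) <;> assumption
      · rw [pow_one]; exact T.hV.le
      · intro v hv z hz
        obtain ⟨a, b, rfl⟩ := Submodule.mem_span_pair.1 hv
        rcases hz with rfl | rfl
        · rw [add_mul, smul_mul_assoc, smul_mul_assoc]
          refine add_mem (Submodule.mem_sup_left (Submodule.smul_mem _ _ ?_))
            (Submodule.mem_sup_right (Submodule.smul_mem _ _ hyx))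
          rw [← pow_two]
          exact Submodule.mem_span_singleton_self _
        · rw [add_mul, smul_mul_assoc, smul_mul_assoc]
          exact Submodule.mem_sup_right (add_mem (Submodule.smul_mem _ _ hxy)
            (Submodule.smul_mem _ _ hyy))
    | succ i hi ih =>
      refine D.step_left (i := i) (by omega) T.hV (s := {x ^ i}) (G := span F {x ^ (i + 1)}) ?_ ih ?_
      · rintro z rfl; exact hxi i
      · rintro v hv z rfl
        obtain ⟨a, b, rfl⟩ := Submodule.mem_span_pair.1 hv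
        rw [add_mul, smul_mul_assoc, smul_mul_assoc, ← pow_succ']
        refine add_mem (Submodule.mem_sup_left (Submodule.smul_mem _ _
          (Submodule.mem_span_singleton_self _))) (Submodule.mem_sup_right
          (Submodule.smul_mem _ _ ?_))
        obtain ⟨k, rfl⟩ := Nat.exists_eq_add_of_le' (show 1 ≤ i by omega)
        rw [pow_succ' x k, ← mul_assoc]
        have := D.pow_mul_mem hyx (hxi k)
        rwa [show 3 + k = k + 1 + 2 by ring] at this
  obtain ⟨n, hn⟩ := D.nil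
  have hX1 : D.J ^ 2 ≤ Subalgebra.toSubmodule (Algebra.adjoin F {x}) := by
    have h1 : ∀ k, 2 ≤ k → D.J ^ 2 ≤ Subalgebra.toSubmodule (Algebra.adjoin F {x}) ⊔ D.J ^ k := by
      intro k hk
      induction k, hk using Nat.le_induction with
      | base => exact le_sup_right
      | succ k hk ih =>
        refine ih.trans (sup_le le_sup_left ((hX k hk).trans (sup_le ?_ le_sup_right)))
        refine le_trans ?_ le_sup_left
        rw [Submodule.span_singleton_le_iff_mem, Subalgebra.mem_toSubmodule]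
        exact Subalgebra.pow_mem _ (Algebra.self_mem_adjoin_singleton F x) k
    have h2 := h1 (n + 2) (by omega)
    rwa [D.pow_eq_bot (show n ≤ n + 2 by omega) hn, sup_bot_eq] at h2
  have hL : ∀ j, 1 ≤ j → D.J ^ (j + 1) ≤ (D.J ^ j).map (LinearMap.mulLeft F x) := by
    intro j hj
    have h1 : ∀ k, j + 1 ≤ k → D.J ^ (j + 1) ≤ (D.J ^ j).map (LinearMap.mulLeft F x) ⊔ D.J ^ k := by
      intro k hk
      induction k, hk using Nat.le_induction with
      | base => exact le_sup_right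
      | succ k hk ih =>
        refine ih.trans (sup_le le_sup_left ((hX k (by omega)).trans (sup_le ?_ le_sup_right)))
        refine le_trans ?_ le_sup_left
        rw [Submodule.span_singleton_le_iff_mem, Submodule.mem_map]
        obtain ⟨m, rfl⟩ := Nat.exists_eq_add_of_le' (show 1 ≤ k by omega)
        refine ⟨x ^ m, D.pow_le hj (by omega) (hxi m), ?_⟩
        rw [LinearMap.mulLeft_apply, pow_succ']
    have h2 := h1 (n + j + 1) (by omega)
    rwa [D.pow_eq_bot (show n ≤ n + j + 1 by omega) hn, sup_bot_eq] at h2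
  have hcom : ∀ u ∈ D.J ^ 2, u * x = x * u := by
    intro u hu
    have h1 := hX1 hu
    rw [Subalgebra.mem_toSubmodule] at h1
    have h2 : Algebra.adjoin F {x} ≤ Subalgebra.centralizer F {x} := by
      rw [Algebra.adjoin_le_iff]
      rintro z rfl
      rw [SetLike.mem_coe, Subalgebra.mem_centralizer_iff]
      rintro g rfl
      rfl
    have h3 := h2 h1
    rw [Subalgebra.mem_centralizer_iff] at h3
    exact (h3 x rfl).symm
  have h32 : D.J ^ 3 ≤ D.J ^ 2 := D.pow_le (by norm_num) (by norm_num)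
  have hcx : (x * y - y * x) * x = 0 := by
    rw [sub_mul, hcom (y * x) (h32 hyx), mul_assoc, sub_self]
  have hcJ2 : ∀ j ∈ D.J ^ 2, (x * y - y * x) * j = 0 := by
    intro j hj
    obtain ⟨h, hh, rfl⟩ := Submodule.mem_map.1 (hL 1 le_rfl hj)
    rw [LinearMap.mulLeft_apply, ← mul_assoc, hcx, zero_mul]
  have hcy : (x * y - y * x) * y = 0 := by
    have hc3 : x * y - y * x ∈ D.J ^ 3 := sub_mem hxy hyx
    obtain ⟨c', hc', hc''⟩ := Submodule.mem_map.1 (hL 2 (by norm_num) hc3)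
    obtain ⟨h, hh, hh'⟩ := Submodule.mem_map.1 (hL 2 (by norm_num) hxy)
    rw [LinearMap.mulLeft_apply] at hc'' hh'
    calc (x * y - y * x) * y = x * c' * y := by rw [hc'']
      _ = c' * (x * y) := by rw [← hcom c' hc', mul_assoc]
      _ = c' * (x * h) := by rw [hh']
      _ = (x * c') * h := by rw [← mul_assoc, hcom c' hc']
      _ = (x * y - y * x) * h := by rw [hc'']
      _ = 0 := hcJ2 h hh
  apply D.mem_perp_of_mul
  intro w hw
  obtain ⟨a, b, j, hj, rfl⟩ := T.J_dec hw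
  rw [mul_add, mul_add, mul_smul_comm, mul_smul_comm, hcx, hcy, hcJ2 j hj]
  simp

theorem Two.c_notMem (T : D.Two x y) (hZ : finrank F (Subalgebra.center F A) = 5)
    (hK : D.K ≠ ⊥) : x * y - y * x ∉ D.J ^ 3 := by
  intro hc
  have h3 := D.J3_ne hK
  have hKJ : D.K ≤ D.J ^ 3 :=
    T.K_le.trans (sup_le ((Submodule.span_singleton_le_iff_mem _ _).2 hc) T.K3_le)
  have hS : D.S ≤ D.J ^ 3 := D.S_le_pow (by norm_num) h3
  obtain ⟨w, hw, hw'⟩ := T.exists_w hZ hK
  have hw2 : D.J ^ 2 ≤ span F {w} ⊔ D.J ^ 3 :=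
    hw'.trans (sup_le_sup_left (sup_le hKJ hS) _)
  obtain ⟨θ, s, t, h1, h2, h4⟩ := D.one_dim hw hw2 h3
  obtain ⟨x0, y0, T0, hs⟩ : ∃ x0 y0, D.Two x0 y0 ∧ s y0 = 0 := by
    by_cases hy : s y = 0
    · exact ⟨x, y, T, hy⟩
    · refine ⟨_, _, T.change 0 1 1 (-(s x / s y)) (by norm_num), ?_⟩
      rw [map_add, map_smul, map_smul, smul_eq_mul, smul_eq_mul]
      field_simp
      ring
  have hx0 := T0.hx
  have hy0 := T0.hy
  have m2 : ∀ {u v : A}, u ∈ D.J → v ∈ D.J → u * v ∈ D.J ^ 2 := fun hu hv => by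
    rw [pow_two]; exact Submodule.mul_mem_mul hu hv
  have hxy : x0 * y0 ∈ D.J ^ 3 := by
    have := h2 _ (m2 hx0 hy0)
    rwa [h4 x0 hx0 y0 hy0, hs, mul_zero, mul_zero, zero_smul, sub_zero] at this
  have hyx : y0 * x0 ∈ D.J ^ 3 := by
    have := h2 _ (m2 hy0 hx0)
    rwa [h4 y0 hy0 x0 hx0, hs, zero_mul, mul_zero, zero_smul, sub_zero] at this
  have hyy : y0 * y0 ∈ D.J ^ 3 := by
    have := h2 _ (m2 hy0 hy0)
    rwa [h4 y0 hy0 y0 hy0, hs, zero_mul, mul_zero, zero_smul, sub_zero] at this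
  have h5 := D.K_inf_S (D.br_mem x0 y0) (T0.comm_of_sq hxy hyx hyy)
  apply hK
  rw [D.K_eq_bot_iff]
  apply D.comm_of_gen T0.hV
  intro v hv w hw
  obtain ⟨a, b, rfl⟩ := Submodule.mem_span_pair.1 hv
  obtain ⟨c, d, rfl⟩ := Submodule.mem_span_pair.1 hw
  rw [sub_eq_zero] at h5
  simp only [add_mul, mul_add, smul_mul_assoc, mul_smul_comm, h5, smul_smul]
  module

/-- not `J² = span c + J³` -/
theorem Two.not_le (T : D.Two x y) (hK : D.K ≠ ⊥) :
    ¬ D.J ^ 2 ≤ span F {x * y - y * x} ⊔ D.J ^ 3 := fun h =>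
  D.J3_ne hK (D.one_dim_comm T.hx T.hy h)

theorem Two.K_le' (T : D.Two x y) : D.K ≤ span F {x * y - y * x} ⊔ D.J ^ 3 :=
  T.K_le.trans (sup_le_sup_left T.K3_le _)

/-- `J³ = K3 + S` -/
theorem Two.J3_le (T : D.Two x y) (hZ : finrank F (Subalgebra.center F A) = 5)
    (hK : D.K ≠ ⊥) : D.J ^ 3 ≤ D.K3 x y ⊔ D.S := by
  obtain ⟨w, hw, hw'⟩ := T.exists_w hZ hK
  have hS : D.S ≤ D.J ^ 3 := D.S_le_pow (by norm_num) (D.J3_ne hK)
  have hc := T.c_notMem hZ hK
  intro z hz
  have hz2 : z ∈ D.J ^ 2 := D.pow_le (by norm_num) (by norm_num) hz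
  obtain ⟨a, ha, ks, hks, hak⟩ := Submodule.mem_sup.1 (hw' hz2)
  obtain ⟨t, rfl⟩ := Submodule.mem_span_singleton.1 ha
  obtain ⟨k, hk, s, hs, rfl⟩ := Submodule.mem_sup.1 hks
  have ht : t = 0 := by
    by_contra ht
    apply T.not_le hK
    refine hw'.trans (sup_le ?_ (sup_le T.K_le' (hS.trans le_sup_right)))
    rw [Submodule.span_singleton_le_iff_mem]
    have h1 : w = t⁻¹ • (z - k - s) := by
      rw [← hak, show t • w + (k + s) - k - s = t • w by abel, smul_smul, inv_mul_cancel₀ ht,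
        one_smul]
    rw [h1]
    refine Submodule.smul_mem _ _ (sub_mem (sub_mem (Submodule.mem_sup_right hz) (T.K_le' hk))
      (Submodule.mem_sup_right (hS hs)))
  rw [ht, zero_smul, zero_add] at hak
  obtain ⟨a, ha, k', hk', rfl⟩ := Submodule.mem_sup.1 (T.K_le hk)
  obtain ⟨t, rfl⟩ := Submodule.mem_span_singleton.1 ha
  have ht' : t = 0 := by
    by_contra ht'
    apply hc
    have h1 : x * y - y * x = t⁻¹ • (z - k' - s) := by
      rw [← hak, show t • (x * y - y * x) + k' + s - k' - s = t • (x * y - y * x) by abel,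
        smul_smul, inv_mul_cancel₀ ht', one_smul]
    rw [h1]
    exact Submodule.smul_mem _ _ (sub_mem (sub_mem hz (T.K3_le hk')) (hS hs))
  rw [ht', zero_smul, zero_add] at hak
  rw [← hak]
  exact Submodule.add_mem_sup hk' hs

end Dat

end H79.SymLoc
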