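import Mathlib
import Cfsg.Agent.Lib.H79.SymLocTwo

/-! Symmetric local algebras with two generators, continued. -/

set_option autoImplicit false
set_option linter.unusedSectionVars false
set_option linter.unusedVariables false
set_option linter.style.haveILetI false

namespace H79.SymLoc

open Submodule Module

universe u v w

variable {F : Type u} [Field F] {A : Type v} [Ring A] [Algebra F A]

namespace Dat

variable (D : Dat F A)

variable [FiniteDimensional F A]

/-- central elements of `J` -/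
noncomputable def ZJ : Submodule F A := Subalgebra.toSubmodule (Subalgebra.center F A) ⊓ D.J

theorem mem_ZJ {z : A} : z ∈ D.ZJ ↔ (∀ a, a * z = z * a) ∧ z ∈ D.J := by
  rw [ZJ, Submodule.mem_inf, Subalgebra.mem_toSubmodule, Subalgebra.mem_center_iff]

theorem finrank_ZJ (hZ : finrank F (Subalgebra.center F A) = 5) : 4 ≤ finrank F D.ZJ := by
  have h1 := Submodule.finrank_sup_add_finrank_inf_eq
    (Subalgebra.toSubmodule (Subalgebra.center F A)) D.J
  have h2 := D.finrank_J
  have h3 := Submodule.finrank_le (Subalgebra.toSubmodule (Subalgebra.center F A) ⊔ D.J)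
  have h4 : finrank F (Subalgebra.toSubmodule (Subalgebra.center F A)) = 5 := hZ
  rw [ZJ]
  omega

variable {D} {x y : A}

theorem Two.ZJ_dec (T : D.Two x y) (hZ : finrank F (Subalgebra.center F A) = 5)
    (hK : D.K ≠ ⊥) : D.ZJ ≤ D.J ^ 2 := by
  intro z hz
  obtain ⟨hz1, hz2⟩ := D.mem_ZJ.1 hz
  obtain ⟨a, b, j, hj, rfl⟩ := T.J_dec hz2
  have hc := T.c_notMem hZ hK
  have hjy : j * y - y * j ∈ D.J ^ 3 := sub_mem
    (D.pow_mul_mem (i := 2) (j := 1) hj (D.mem_pow_one.2 T.hy))
    (D.pow_mul_mem (i := 1) (j := 2) (D.mem_pow_one.2 T.hy) hj)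
  have hjx : j * x - x * j ∈ D.J ^ 3 := sub_mem
    (D.pow_mul_mem (i := 2) (j := 1) hj (D.mem_pow_one.2 T.hx))
    (D.pow_mul_mem (i := 1) (j := 2) (D.mem_pow_one.2 T.hx) hj)
  have ha : a = 0 := by
    by_contra ha
    apply hc
    have h1 := hz1 y
    have h2 : x * y - y * x = -(a⁻¹ • (j * y - y * j)) := by
      have h3 : a • (x * y - y * x) + (j * y - y * j) =
          (a • x + b • y + j) * y - y * (a • x + b • y + j) := by
        simp only [add_mul, mul_add, smul_mul_assoc, mul_smul_comm, smul_sub]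
        abel
      rw [← h1, sub_self] at h3
      have h4 : x * y - y * x = a⁻¹ • (a • (x * y - y * x)) := by
        rw [smul_smul, inv_mul_cancel₀ ha, one_smul]
      rw [h4, eq_neg_of_add_eq_zero_left h3, smul_neg]
    rw [h2]
    exact neg_mem (Submodule.smul_mem _ _ hjy)
  have hb : b = 0 := by
    by_contra hb
    apply hc
    have h1 := hz1 x
    have h2 : x * y - y * x = b⁻¹ • (j * x - x * j) := by
      have h3 : b • (x * y - y * x) - (j * x - x * j) =
          x * (a • x + b • y + j) - (a • x + b • y + j) * x := by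
        simp only [add_mul, mul_add, smul_mul_assoc, mul_smul_comm, smul_sub]
        abel
      rw [← h1, sub_self, sub_eq_zero] at h3
      rw [← h3, smul_smul, inv_mul_cancel₀ hb, one_smul]
    rw [h2]
    exact Submodule.smul_mem _ _ hjx
  rw [ha, hb, zero_smul, zero_smul, add_zero, zero_add]
  exact hj

theorem Two.not_central (T : D.Two x y) (hZ : finrank F (Subalgebra.center F A) = 5)
    (hK : D.K ≠ ⊥) (hc : ∀ w ∈ D.J ^ 2, ∀ a, a * w = w * a) : False := by
  have h1 : D.K3 x y = ⊥ := by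
    rw [K3, eq_bot_iff]
    refine sup_le ?_ ?_
    · rw [Submodule.map₂_le]
      intro a _ w hw
      rw [br_apply, hc w hw a, sub_self]
      exact zero_mem _
    · rw [Submodule.map₂_le]
      intro a _ w hw
      rw [br_apply, hc w hw a, sub_self]
      exact zero_mem _
  have h2 := T.K_le
  rw [h1, sup_bot_eq] at h2
  have h3 := (Submodule.finrank_mono h2).trans (finrank_span_le_card _)
  rw [Set.toFinset_singleton, Finset.card_singleton] at h3
  have h4 := D.finrank_K
  have h5 := D.finrank_J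
  have h6 := T.finrank_J
  have h7 := Submodule.finrank_mono (T.ZJ_dec hZ hK)
  have h8 := D.finrank_ZJ hZ
  omega

theorem Two.J4_ne (T : D.Two x y) (hZ : finrank F (Subalgebra.center F A) = 5)
    (hK : D.K ≠ ⊥) : D.J ^ 4 ≠ ⊥ := by
  intro h4
  apply T.not_central hZ hK
  intro w hw
  apply D.central_of_gen T.hV
  intro v hv
  have h1 : v * w - w * v ∈ D.J ^ 3 := sub_mem
    (D.pow_mul_mem (i := 1) (j := 2) (D.mem_pow_one.2 (T.V_le hv)) hw)
    (D.pow_mul_mem (i := 2) (j := 1) hw (D.mem_pow_one.2 (T.V_le hv)))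
  rw [← sub_eq_zero]
  exact D.K_inf_S (D.br_mem v w) (D.pow_le_S (i := 3) h4 h1)

theorem Two.eight_le (T : D.Two x y) (hZ : finrank F (Subalgebra.center F A) = 5)
    (hK : D.K ≠ ⊥) : 8 ≤ finrank F A := by
  by_contra hN
  have h5 := D.finrank_J
  have h6 := T.finrank_J
  have h8 := D.finrank_ZJ hZ
  have h7 := Submodule.eq_of_le_of_finrank_le (T.ZJ_dec hZ hK) (by omega)
  apply T.not_central hZ hK
  intro w hw
  rw [← h7] at hw
  exact (D.mem_ZJ.1 hw).1

/-- the products of length two -/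
theorem Two.J2_le (T : D.Two x y) :
    D.J ^ 2 ≤ span F {x * x, x * y, y * x, y * y} ⊔ D.J ^ 3 := by
  refine D.step_left (i := 1) le_rfl T.hV (s := {x, y}) ?_ ?_ ?_
  · rintro z (rfl | rfl)
    · exact D.mem_pow_one.2 T.hx
    · exact D.mem_pow_one.2 T.hy
  · rw [pow_one]; exact T.hV.le
  · intro v hv z hz
    obtain ⟨a, b, rfl⟩ := Submodule.mem_span_pair.1 hv
    refine Submodule.mem_sup_left ?_
    rcases hz with rfl | rfl
    · rw [add_mul, smul_mul_assoc, smul_mul_assoc]
      exact add_mem (Submodule.smul_mem _ _ (Submodule.subset_span (by simp)))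
        (Submodule.smul_mem _ _ (Submodule.subset_span (by simp)))
    · rw [add_mul, smul_mul_assoc, smul_mul_assoc]
      exact add_mem (Submodule.smul_mem _ _ (Submodule.subset_span (by simp)))
        (Submodule.smul_mem _ _ (Submodule.subset_span (by simp)))

/-- a criterion for `J³ ≤ G` -/
theorem Two.J3_le_of (T : D.Two x y) (hZ : finrank F (Subalgebra.center F A) = 5)
    (hK : D.K ≠ ⊥) {G : Submodule F A} (hG : D.J ^ 4 ≤ G)
    (h1 : x * (x * y) - (x * y) * x ∈ G) (h2 : x * (y * x) - (y * x) * x ∈ G)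
    (h3 : x * (y * y) - (y * y) * x ∈ G) (h4 : y * (x * x) - (x * x) * y ∈ G)
    (h5 : y * (x * y) - (x * y) * y ∈ G) (h6 : y * (y * x) - (y * x) * y ∈ G) : D.J ^ 3 ≤ G := by
  have hS : D.S ≤ D.J ^ 4 := D.S_le_pow (by norm_num) (T.J4_ne hZ hK)
  refine (T.J3_le hZ hK).trans (sup_le ?_ (hS.trans hG))
  rw [K3]
  refine sup_le ?_ ?_
  · rw [Submodule.map₂_le]
    intro v hv w hw
    obtain ⟨a, b, rfl⟩ := Submodule.mem_span_pair.1 hv
    have hbx : D.J ^ 2 ≤ G.comap (br F A x) := by
      refine T.J2_le.trans (sup_le ?_ ?_)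
      · rw [Submodule.span_le]
        rintro z (rfl | rfl | rfl | rfl)
        · show br F A x (x * x) ∈ G
          rw [br_apply, mul_assoc, sub_self]; exact zero_mem _
        · exact h1
        · exact h2
        · exact h3
      · intro z hz
        exact hG (sub_mem (D.pow_mul_mem (i := 1) (j := 3) (D.mem_pow_one.2 T.hx) hz)
          (D.pow_mul_mem (i := 3) (j := 1) hz (D.mem_pow_one.2 T.hx)))
    have hby : D.J ^ 2 ≤ G.comap (br F A y) := by
      refine T.J2_le.trans (sup_le ?_ ?_)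
      · rw [Submodule.span_le]
        rintro z (rfl | rfl | rfl | rfl)
        · exact h4
        · exact h5
        · exact h6
        · show br F A y (y * y) ∈ G
          rw [br_apply, mul_assoc, sub_self]; exact zero_mem _
      · intro z hz
        exact hG (sub_mem (D.pow_mul_mem (i := 1) (j := 3) (D.mem_pow_one.2 T.hy) hz)
          (D.pow_mul_mem (i := 3) (j := 1) hz (D.mem_pow_one.2 T.hy)))
    rw [map_add, map_smul, map_smul, LinearMap.add_apply, LinearMap.smul_apply,
      LinearMap.smul_apply]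
    exact add_mem (Submodule.smul_mem _ _ (hbx hw)) (Submodule.smul_mem _ _ (hby hw))
  · rw [Submodule.map₂_le]
    intro a ha b hb
    rw [br_apply]
    exact hG (sub_mem (D.pow_mul_mem (i := 2) (j := 2) ha hb)
      (D.pow_mul_mem (i := 2) (j := 2) hb ha))

/-- `J²/J³` has dimension at most two. -/
theorem Two.exists_funs (T : D.Two x y) (hZ : finrank F (Subalgebra.center F A) = 5)
    (hK : D.K ≠ ⊥) : ∃ θ1 θ2 : A →ₗ[F] F, ∀ z ∈ D.J ^ 2, θ1 z = 0 → θ2 z = 0 → z ∈ D.J ^ 3 := by
  obtain ⟨w, hw, hw'⟩ := T.exists_w hZ hK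
  have hS : D.S ≤ D.J ^ 3 := D.S_le_pow (by norm_num) (D.J3_ne hK)
  have hw2 : D.J ^ 2 ≤ span F {w} ⊔ (span F {x * y - y * x} ⊔ D.J ^ 3) :=
    hw'.trans (sup_le_sup_left (sup_le T.K_le' (hS.trans le_sup_right)) _)
  have h1 : w ∉ span F {x * y - y * x} ⊔ D.J ^ 3 := by
    intro h
    apply T.not_le hK
    exact hw2.trans (sup_le ((Submodule.span_singleton_le_iff_mem _ _).2 h) le_rfl)
  obtain ⟨θ1, h11, h12⟩ := exists_fun h1
  obtain ⟨θ2, h21, h22⟩ := exists_fun (T.c_notMem hZ hK)
  refine ⟨θ1, θ2, fun z hz hz1 hz2 => ?_⟩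
  obtain ⟨a, ha, b, hb, rfl⟩ := Submodule.mem_sup.1 (hw2 hz)
  obtain ⟨t, rfl⟩ := Submodule.mem_span_singleton.1 ha
  rw [map_add, map_smul, h11, h12 b hb, add_zero, smul_eq_mul, mul_one] at hz1
  rw [hz1, zero_smul, zero_add] at hz2 ⊢
  obtain ⟨a', ha', b', hb', rfl⟩ := Submodule.mem_sup.1 hb
  obtain ⟨t', rfl⟩ := Submodule.mem_span_singleton.1 ha'
  rw [map_add, map_smul, h21, h22 b' hb', add_zero, smul_eq_mul, mul_one] at hz2
  rw [hz2, zero_smul, zero_add]
  exact hb'

end Dat

end H79.SymLoc
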