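import Mathlib
import Cfsg.Agent.Lib.H79.SymLocTwoB

/-! Symmetric local algebras with two generators, the end. -/

set_option autoImplicit false
set_option linter.unusedSectionVars false
set_option linter.unusedVariables false
set_option linter.style.haveILetI false

namespace H79.SymLoc

open Submodule Module

universe u v w

variable {F : Type u} [Field F] {A : Type v} [Ring A] [Algebra F A]

theorem mem_of_smul {X : Submodule F A} {t : F} (ht : t ≠ 0) {z : A} (h : t • z ∈ X) : z ∈ X := by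
  have := X.smul_mem t⁻¹ h
  rwa [smul_smul, inv_mul_cancel₀ ht, one_smul] at this

theorem finrank_span_le_pair (x y : A) : finrank F (span F {x, y}) ≤ 2 := by
  classical
  have h := finrank_span_finset_le_card (R := F) ({x, y} : Finset A)
  rw [Finset.coe_pair] at h
  exact h.trans Finset.card_le_two

namespace Dat

variable {D : Dat F A} {x y : A}

theorem Two.xm (T : D.Two x y) {i : ℕ} {z : A} (hz : z ∈ D.J ^ i) : x * z ∈ D.J ^ (i + 1) := by
  rw [add_comm]; exact D.pow_mul_mem (D.mem_pow_one.2 T.hx) hz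

theorem Two.ym (T : D.Two x y) {i : ℕ} {z : A} (hz : z ∈ D.J ^ i) : y * z ∈ D.J ^ (i + 1) := by
  rw [add_comm]; exact D.pow_mul_mem (D.mem_pow_one.2 T.hy) hz

theorem Two.mx (T : D.Two x y) {i : ℕ} {z : A} (hz : z ∈ D.J ^ i) : z * x ∈ D.J ^ (i + 1) :=
  D.pow_mul_mem hz (D.mem_pow_one.2 T.hx)

theorem Two.my (T : D.Two x y) {i : ℕ} {z : A} (hz : z ∈ D.J ^ i) : z * y ∈ D.J ^ (i + 1) :=
  D.pow_mul_mem hz (D.mem_pow_one.2 T.hy)

variable [FiniteDimensional F A]

theorem Two.rel3 (T : D.Two x y) (hZ : finrank F (Subalgebra.center F A) = 5)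
    (hK : D.K ≠ ⊥) {z1 z2 z3 : A} (h1 : z1 ∈ D.J ^ 2) (h2 : z2 ∈ D.J ^ 2) (h3 : z3 ∈ D.J ^ 2) :
    ∃ α β γ : F, ¬ (α = 0 ∧ β = 0 ∧ γ = 0) ∧ α • z1 + β • z2 + γ • z3 ∈ D.J ^ 3 := by
  obtain ⟨θ1, θ2, hθ⟩ := T.exists_funs hZ hK
  let L : (F × F × F) →ₗ[F] A := LinearMap.coprod (LinearMap.toSpanSingleton F A z1)
    (LinearMap.coprod (LinearMap.toSpanSingleton F A z2) (LinearMap.toSpanSingleton F A z3))
  let g : (F × F × F) →ₗ[F] (F × F) := (θ1 ∘ₗ L).prod (θ2 ∘ₗ L)
  have hg : LinearMap.ker g ≠ ⊥ := by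
    apply LinearMap.ker_ne_bot_of_finrank_lt
    simp [Module.finrank_prod]
  obtain ⟨⟨α, β, γ⟩, hv, hv0⟩ := Submodule.exists_mem_ne_zero_of_ne_bot hg
  have h4 : L (α, β, γ) = α • z1 + β • z2 + γ • z3 := by
    simp [L, add_assoc]
  have h5 : θ1 (L (α, β, γ)) = 0 ∧ θ2 (L (α, β, γ)) = 0 := by
    have := LinearMap.mem_ker.1 hv
    exact Prod.ext_iff.1 this
  refine ⟨α, β, γ, ?_, ?_⟩
  · rintro ⟨rfl, rfl, rfl⟩
    exact hv0 rfl
  · rw [← h4]
    apply hθ _ _ h5.1 h5.2
    rw [h4]
    exact add_mem (add_mem (Submodule.smul_mem _ _ h1) (Submodule.smul_mem _ _ h2))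
      (Submodule.smul_mem _ _ h3)

theorem Two.case2 (T : D.Two x y) (hZ : finrank F (Subalgebra.center F A) = 5)
    (hK : D.K ≠ ⊥) (hxy : x * y ∈ D.J ^ 3) : False := by
  have hx1 : x ∈ D.J ^ 1 := D.mem_pow_one.2 T.hx
  have hy1 : y ∈ D.J ^ 1 := D.mem_pow_one.2 T.hy
  have hJ4 := T.J4_ne hZ hK
  have hP3 : y * (x * x) ∈ D.J ^ 3 := T.ym (T.xm hx1)
  have hQ3 : y * (y * x) ∈ D.J ^ 3 := T.ym (T.ym hx1)
  have e1 : x * (x * y) ∈ D.J ^ 4 := T.xm hxy
  have e2 : (x * y) * x ∈ D.J ^ 4 := T.mx hxy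
  have e3 : (x * y) * y ∈ D.J ^ 4 := T.my hxy
  have e4 : y * (x * y) ∈ D.J ^ 4 := T.ym hxy
  have hJ3 : D.J ^ 3 ≤ span F {y * (x * x), y * (y * x)} ⊔ D.J ^ 4 := by
    apply T.J3_le_of hZ hK le_sup_right
    · exact Submodule.mem_sup_right (sub_mem e1 e2)
    · rw [← mul_assoc x y x, mul_assoc y x x]
      exact sub_mem (Submodule.mem_sup_right e2) (Submodule.mem_sup_left
        (Submodule.subset_span (by simp)))
    · rw [← mul_assoc x y y, mul_assoc y y x]
      exact sub_mem (Submodule.mem_sup_right e3) (Submodule.mem_sup_left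
        (Submodule.subset_span (by simp)))
    · rw [mul_assoc x x y]
      exact sub_mem (Submodule.mem_sup_left (Submodule.subset_span (by simp)))
        (Submodule.mem_sup_right e1)
    · exact Submodule.mem_sup_right (sub_mem e4 e3)
    · rw [mul_assoc y x y]
      exact sub_mem (Submodule.mem_sup_left (Submodule.subset_span (by simp)))
        (Submodule.mem_sup_right e4)
  have hs : ∀ z ∈ ({y * (x * x), y * (y * x)} : Set A), z ∈ D.J ^ 3 := by
    rintro z (rfl | rfl) <;> assumption
  -- the products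
  have f1 : (y * (x * x)) * y ∈ D.J ^ 5 := by
    have : (y * (x * x)) * y = y * (x * (x * y)) := by noncomm_ring
    rw [this]; exact T.ym e1
  have f2 : (y * (y * x)) * y ∈ D.J ^ 5 := by
    have : (y * (y * x)) * y = y * (y * (x * y)) := by noncomm_ring
    rw [this]; exact T.ym e4
  have f3 : x * (y * (x * x)) ∈ D.J ^ 5 := by
    have : x * (y * (x * x)) = ((x * y) * x) * x := by noncomm_ring
    rw [this]; exact T.mx e2
  have f5 : y * (y * (x * x)) = (y * (y * x)) * x := by noncomm_ring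
  obtain ⟨α, β, γ, h0, hr⟩ := T.rel3 hZ hK (z1 := x * x) (z2 := y * x) (z3 := y * y)
    (T.xm hx1) (T.ym hx1) (T.ym hy1)
  have r1 : α • (x * (x * x)) ∈ D.J ^ 4 := by
    have h1 := T.xm hr
    have h2 : x * (α • (x * x) + β • (y * x) + γ • (y * y)) =
      α • (x * (x * x)) + (β • ((x * y) * x) + γ • ((x * y) * y)) := by
      simp only [mul_add, mul_smul_comm, mul_assoc, add_assoc]
    rw [h2] at h1
    exact (Submodule.add_mem_iff_left _ (add_mem (Submodule.smul_mem _ _ e2)
      (Submodule.smul_mem _ _ e3))).1 h1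
  have r2 : γ • (y * (y * y)) ∈ D.J ^ 4 := by
    have h1 := T.my hr
    have h2 : (α • (x * x) + β • (y * x) + γ • (y * y)) * y =
      γ • (y * (y * y)) + (α • (x * (x * y)) + β • (y * (x * y))) := by
      simp only [add_mul, smul_mul_assoc, mul_assoc]; abel
    rw [h2] at h1
    exact (Submodule.add_mem_iff_left _ (add_mem (Submodule.smul_mem _ _ e1)
      (Submodule.smul_mem _ _ e4))).1 h1
  have r3 : α • (y * (x * x)) + β • (y * (y * x)) ∈ D.J ^ 4 := by
    have h1 := T.ym hr
    have h2 : y * (α • (x * x) + β • (y * x) + γ • (y * y)) =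
      α • (y * (x * x)) + β • (y * (y * x)) + γ • (y * (y * y)) := by
      simp only [mul_add, mul_smul_comm]
    rw [h2] at h1
    exact (Submodule.add_mem_iff_left _ r2).1 h1
  have r4 : β • (y * (x * x)) + γ • (y * (y * x)) ∈ D.J ^ 4 := by
    have h1 := T.mx hr
    have h2 : (α • (x * x) + β • (y * x) + γ • (y * y)) * x =
      β • (y * (x * x)) + γ • (y * (y * x)) + α • (x * (x * x)) := by
      simp only [add_mul, smul_mul_assoc, mul_assoc]; abel
    rw [h2] at h1
    exact (Submodule.add_mem_iff_left _ r1).1 h1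
  by_cases hdet : α * γ - β * β = 0
  · by_cases hα : α = 0
    · -- `β = 0`, `γ ≠ 0`
      have hβ : β = 0 := by
        rw [hα, zero_mul, zero_sub, neg_eq_zero] at hdet
        exact mul_self_eq_zero.1 hdet
      have hγ : γ ≠ 0 := fun h => h0 ⟨hα, hβ, h⟩
      rw [hβ, zero_smul, zero_add] at r4
      have hQ := mem_of_smul hγ r4
      have hJ3' : D.J ^ 3 ≤ span F {y * (x * x)} ⊔ D.J ^ 4 := by
        refine hJ3.trans (sup_le ?_ le_sup_right)
        rw [Submodule.span_le]
        rintro z (rfl | rfl)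
        · exact Submodule.mem_sup_left (Submodule.mem_span_singleton_self _)
        · exact Submodule.mem_sup_right hQ
      apply hJ4
      apply D.eq_bot_of_le
      have := D.step_left (i := 3) (G := ⊥) (by norm_num) T.hV (fun z hz => hs z (by
        rw [Set.mem_singleton_iff.1 hz]; simp)) hJ3' ?_
      · simpa using this
      · rintro v hv z rfl
        obtain ⟨a, b, rfl⟩ := Submodule.mem_span_pair.1 hv
        rw [bot_sup_eq, add_mul, smul_mul_assoc, smul_mul_assoc, f5]
        exact add_mem (Submodule.smul_mem _ _ f3) (Submodule.smul_mem _ _ (T.mx hQ))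
    · have hx3 := mem_of_smul hα r1
      have hJ3' : D.J ^ 3 ≤ span F {y * (y * x)} ⊔ D.J ^ 4 := by
        refine hJ3.trans (sup_le ?_ le_sup_right)
        rw [Submodule.span_le]
        rintro z (rfl | rfl)
        · have h1 : y * (x * x) = α⁻¹ • (α • (y * (x * x)) + β • (y * (y * x))) -
              (α⁻¹ * β) • (y * (y * x)) := by
            rw [smul_add, smul_smul, smul_smul, inv_mul_cancel₀ hα, one_smul, add_sub_cancel_right]
          rw [SetLike.mem_coe, h1]
          exact sub_mem (Submodule.mem_sup_right (Submodule.smul_mem _ _ r3))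
            (Submodule.mem_sup_left (Submodule.smul_mem _ _ (Submodule.mem_span_singleton_self _)))
        · exact Submodule.mem_sup_left (Submodule.mem_span_singleton_self _)
      have hPx : (y * (x * x)) * x ∈ D.J ^ 5 := by
        have : (y * (x * x)) * x = y * (x * (x * x)) := by noncomm_ring
        rw [this]; exact T.ym hx3
      have hQx : (y * (y * x)) * x ∈ D.J ^ 5 := by
        by_cases hβ : β = 0
        · rw [hβ, zero_smul, add_zero] at r3
          rw [← f5]
          exact T.ym (mem_of_smul hα r3)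
        · have h1 := T.mx r3
          rw [add_mul, smul_mul_assoc, smul_mul_assoc] at h1
          exact mem_of_smul hβ ((Submodule.add_mem_iff_right _ (Submodule.smul_mem _ _ hPx)).1 h1)
      apply hJ4
      apply D.eq_bot_of_le
      have := D.step_right (i := 3) (G := ⊥) (by norm_num) T.hV (fun z hz => hs z (by
        rw [Set.mem_singleton_iff.1 hz]; simp)) hJ3' ?_
      · simpa using this
      · rintro v hv z rfl
        obtain ⟨a, b, rfl⟩ := Submodule.mem_span_pair.1 hv
        rw [bot_sup_eq, mul_add, mul_smul_comm, mul_smul_comm]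
        exact add_mem (Submodule.smul_mem _ _ hQx) (Submodule.smul_mem _ _ f2)
  · apply D.J3_ne hK
    apply D.eq_bot_of_le
    refine hJ3.trans (sup_le ?_ le_rfl)
    rw [Submodule.span_le]
    rintro z (rfl | rfl)
    · apply mem_of_smul hdet
      have h1 : (α * γ - β * β) • (y * (x * x)) = γ • (α • (y * (x * x)) + β • (y * (y * x))) -
          β • (β • (y * (x * x)) + γ • (y * (y * x))) := by module
      rw [h1]
      exact sub_mem (Submodule.smul_mem _ _ r3) (Submodule.smul_mem _ _ r4)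
    · apply mem_of_smul hdet
      have h1 : (α * γ - β * β) • (y * (y * x)) = α • (β • (y * (x * x)) + γ • (y * (y * x))) -
          β • (α • (y * (x * x)) + β • (y * (y * x))) := by module
      rw [h1]
      exact sub_mem (Submodule.smul_mem _ _ r4) (Submodule.smul_mem _ _ r3)

theorem Two.case1 (T : D.Two x y) (hZ : finrank F (Subalgebra.center F A) = 5)
    (hK : D.K ≠ ⊥) (hxx : x * x ∈ D.J ^ 3) {q : F} (hq : q ≠ 0)
    (hxy : x * y - q • (y * x) ∈ D.J ^ 3) : False := by
  have hx1 : x ∈ D.J ^ 1 := D.mem_pow_one.2 T.hx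
  have hy1 : y ∈ D.J ^ 1 := D.mem_pow_one.2 T.hy
  have hJ4 := T.J4_ne hZ hK
  have e1 : y * (x * x) ∈ D.J ^ 4 := T.ym hxx
  have e2 : (x * x) * y ∈ D.J ^ 4 := T.my hxx
  have e3 : (x * y) * x ∈ D.J ^ 4 := by
    have h1 := T.mx hxy
    rw [sub_mul, smul_mul_assoc, mul_assoc y x x] at h1
    exact (Submodule.sub_mem_iff_left _ (Submodule.smul_mem _ _ e1)).1 h1
  set G : Submodule F A := span F {x * (y * y)} ⊔ D.J ^ 4 with hG
  have gR : x * (y * y) ∈ G := Submodule.mem_sup_left (Submodule.mem_span_singleton_self _)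
  have g4 : ∀ z ∈ D.J ^ 4, z ∈ G := fun z hz => Submodule.mem_sup_right hz
  have gM : y * (x * y) ∈ G := by
    have h1 := T.my hxy
    rw [sub_mul, smul_mul_assoc, mul_assoc x y y, mul_assoc y x y] at h1
    exact mem_of_smul hq ((Submodule.sub_mem_iff_right _ gR).1 (g4 _ h1))
  have gQ : y * (y * x) ∈ G := by
    have h1 := T.ym hxy
    rw [mul_sub, mul_smul_comm] at h1
    exact mem_of_smul hq ((Submodule.sub_mem_iff_right _ gM).1 (g4 _ h1))
  have hJ3 : D.J ^ 3 ≤ G := by
    apply T.J3_le_of hZ hK (le_sup_right)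
    · rw [← mul_assoc x x y]
      exact g4 _ (sub_mem e2 e3)
    · rw [← mul_assoc x y x, mul_assoc y x x]
      exact g4 _ (sub_mem e3 e1)
    · rw [mul_assoc y y x]
      exact sub_mem gR gQ
    · exact g4 _ (sub_mem e1 e2)
    · rw [mul_assoc x y y]
      exact sub_mem gM gR
    · rw [mul_assoc y x y]
      exact sub_mem gQ gM
  have hR3 : x * (y * y) ∈ D.J ^ 3 := T.xm (T.ym hy1)
  have hxR : x * (x * (y * y)) ∈ D.J ^ 5 := by
    have : x * (x * (y * y)) = ((x * x) * y) * y := by noncomm_ring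
    rw [this]; exact T.my e2
  have hyR : y * (x * (y * y)) ∈ D.J ^ 5 := by
    have h1 := T.my (T.my hxy)
    have h2 : (x * y - q • (y * x)) * y * y = x * (y * (y * y)) - q • (y * (x * (y * y))) := by
      simp only [sub_mul, smul_mul_assoc, mul_assoc]
    rw [h2] at h1
    have h3 : x * (y * (y * y)) ∈ D.J ^ 5 := by
      have h4 : y * (y * y) ∈ G := hJ3 (T.ym (T.ym hy1))
      obtain ⟨a, ha, j, hj, haj⟩ := Submodule.mem_sup.1 h4
      obtain ⟨t, rfl⟩ := Submodule.mem_span_singleton.1 ha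
      rw [← haj, mul_add, mul_smul_comm]
      exact add_mem (Submodule.smul_mem _ _ hxR) (T.xm hj)
    exact mem_of_smul hq ((Submodule.sub_mem_iff_right _ h3).1 h1)
  apply hJ4
  apply D.eq_bot_of_le
  have := D.step_left (i := 3) (s := {x * (y * y)}) (G := ⊥) (by norm_num) T.hV
    (fun z hz => by rw [Set.mem_singleton_iff.1 hz]; exact hR3) hJ3 ?_
  · simpa using this
  · rintro v hv z rfl
    obtain ⟨a, b, rfl⟩ := Submodule.mem_span_pair.1 hv
    rw [bot_sup_eq, add_mul, smul_mul_assoc, smul_mul_assoc]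
    exact add_mem (Submodule.smul_mem _ _ hxR) (Submodule.smul_mem _ _ hyR)

theorem Two.dihedral (T : D.Two x y) (hZ : finrank F (Subalgebra.center F A) = 5)
    (hK : D.K ≠ ⊥) (hxx : x * x ∈ D.J ^ 3) (hyy : y * y ∈ D.J ^ 3) : finrank F A ≤ 8 := by
  have hx1 : x ∈ D.J ^ 1 := D.mem_pow_one.2 T.hx
  have hy1 : y ∈ D.J ^ 1 := D.mem_pow_one.2 T.hy
  have hJ4 := T.J4_ne hZ hK
  have hxy2 : x * y ∈ D.J ^ 2 := T.xm hy1
  have hyx2 : y * x ∈ D.J ^ 2 := T.ym hx1
  have hP3 : x * (y * x) ∈ D.J ^ 3 := T.xm hyx2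
  have hQ3 : y * (x * y) ∈ D.J ^ 3 := T.ym hxy2
  have hX4 : x * (y * (x * y)) ∈ D.J ^ 4 := T.xm hQ3
  have hY4 : y * (x * (y * x)) ∈ D.J ^ 4 := T.ym hP3
  have hJ2 : D.J ^ 2 ≤ span F {x * y, y * x} ⊔ D.J ^ 3 := by
    refine T.J2_le.trans (sup_le ?_ le_sup_right)
    rw [Submodule.span_le]
    rintro z (rfl | rfl | rfl | rfl)
    · exact Submodule.mem_sup_right hxx
    · exact Submodule.mem_sup_left (Submodule.subset_span (by simp))
    · exact Submodule.mem_sup_left (Submodule.subset_span (by simp))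
    · exact Submodule.mem_sup_right hyy
  have hs2 : ∀ z ∈ ({x * y, y * x} : Set A), z ∈ D.J ^ 2 := by rintro z (rfl | rfl) <;> assumption
  have hs3 : ∀ z ∈ ({x * (y * x), y * (x * y)} : Set A), z ∈ D.J ^ 3 := by
    rintro z (rfl | rfl) <;> assumption
  have hs4 : ∀ z ∈ ({x * (y * (x * y)), y * (x * (y * x))} : Set A), z ∈ D.J ^ 4 := by
    rintro z (rfl | rfl) <;> assumption
  have hJ3 : D.J ^ 3 ≤ span F {x * (y * x), y * (x * y)} ⊔ D.J ^ 4 := by
    refine D.step_left (i := 2) (by norm_num) T.hV hs2 hJ2 ?_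
    intro v hv z hz
    obtain ⟨a, b, rfl⟩ := Submodule.mem_span_pair.1 hv
    rcases hz with rfl | rfl
    · rw [add_mul, smul_mul_assoc, smul_mul_assoc, ← mul_assoc x x y]
      exact add_mem (Submodule.mem_sup_right (Submodule.smul_mem _ _ (T.my hxx)))
        (Submodule.mem_sup_left (Submodule.smul_mem _ _ (Submodule.subset_span (by simp))))
    · rw [add_mul, smul_mul_assoc, smul_mul_assoc, ← mul_assoc y y x]
      exact add_mem (Submodule.mem_sup_left (Submodule.smul_mem _ _
        (Submodule.subset_span (by simp)))) (Submodule.mem_sup_right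
        (Submodule.smul_mem _ _ (T.mx hyy)))
  -- products
  have pxP : x * (x * (y * x)) ∈ D.J ^ 5 := by
    have : x * (x * (y * x)) = ((x * x) * y) * x := by noncomm_ring
    rw [this]; exact T.mx (T.my hxx)
  have pyQ : y * (y * (x * y)) ∈ D.J ^ 5 := by
    have : y * (y * (x * y)) = ((y * y) * x) * y := by noncomm_ring
    rw [this]; exact T.my (T.mx hyy)
  have pPx : (x * (y * x)) * x ∈ D.J ^ 5 := by
    have : (x * (y * x)) * x = x * (y * (x * x)) := by noncomm_ring
    rw [this]; exact T.xm (T.ym hxx)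
  have pQy : (y * (x * y)) * y ∈ D.J ^ 5 := by
    have : (y * (x * y)) * y = y * (x * (y * y)) := by noncomm_ring
    rw [this]; exact T.ym (T.xm hyy)
  have pPy : (x * (y * x)) * y = x * (y * (x * y)) := by noncomm_ring
  have pQx : (y * (x * y)) * x = y * (x * (y * x)) := by noncomm_ring
  have hJ4' : D.J ^ 4 ≤ span F {x * (y * (x * y)), y * (x * (y * x))} ⊔ D.J ^ 5 := by
    refine D.step_left (i := 3) (by norm_num) T.hV hs3 hJ3 ?_
    intro v hv z hz
    obtain ⟨a, b, rfl⟩ := Submodule.mem_span_pair.1 hv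
    rcases hz with rfl | rfl
    · rw [add_mul, smul_mul_assoc, smul_mul_assoc]
      exact add_mem (Submodule.mem_sup_right (Submodule.smul_mem _ _ pxP))
        (Submodule.mem_sup_left (Submodule.smul_mem _ _ (Submodule.subset_span (by simp))))
    · rw [add_mul, smul_mul_assoc, smul_mul_assoc]
      exact add_mem (Submodule.mem_sup_left (Submodule.smul_mem _ _
        (Submodule.subset_span (by simp)))) (Submodule.mem_sup_right
        (Submodule.smul_mem _ _ pyQ))
  have hJ4'' : ¬ D.J ^ 4 ≤ D.J ^ 5 := fun h => hJ4 (D.eq_bot_of_le h)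
  -- independence
  have hind : ∀ s t : F, s • (x * (y * x)) + t • (y * (x * y)) ∈ D.J ^ 4 → s = 0 ∧ t = 0 := by
    intro s t hst
    constructor
    · by_contra hs
      apply hJ4''
      refine hJ4'.trans (sup_le ?_ le_rfl)
      rw [Submodule.span_le]
      rintro z (rfl | rfl)
      · have h1 := T.my hst
        rw [add_mul, smul_mul_assoc, smul_mul_assoc, pPy] at h1
        exact mem_of_smul hs ((Submodule.add_mem_iff_left _ (Submodule.smul_mem _ _ pQy)).1 h1)
      · have h1 := T.ym hst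
        rw [mul_add, mul_smul_comm, mul_smul_comm] at h1
        exact mem_of_smul hs ((Submodule.add_mem_iff_left _ (Submodule.smul_mem _ _ pyQ)).1 h1)
    · by_contra ht
      apply hJ4''
      refine hJ4'.trans (sup_le ?_ le_rfl)
      rw [Submodule.span_le]
      rintro z (rfl | rfl)
      · have h1 := T.xm hst
        rw [mul_add, mul_smul_comm, mul_smul_comm] at h1
        exact mem_of_smul ht ((Submodule.add_mem_iff_right _ (Submodule.smul_mem _ _ pxP)).1 h1)
      · have h1 := T.mx hst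
        rw [add_mul, smul_mul_assoc, smul_mul_assoc, pQx] at h1
        exact mem_of_smul ht ((Submodule.add_mem_iff_right _ (Submodule.smul_mem _ _ pPx)).1 h1)
  have hJ5 : D.J ^ 5 = ⊥ := by
    by_contra h5
    have hS5 : D.S ≤ D.J ^ 5 := D.S_le_pow (by norm_num) h5
    set G : Submodule F A := span F {x * (y * (x * y)) - y * (x * (y * x))} ⊔ D.J ^ 5 with hG
    have gXY : x * (y * (x * y)) - y * (x * (y * x)) ∈ G :=
      Submodule.mem_sup_left (Submodule.mem_span_singleton_self _)
    have g5 : ∀ {z}, z ∈ D.J ^ 5 → z ∈ G := fun hz => Submodule.mem_sup_right hz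
    -- `[V, J³]`
    have hbx : ∀ j ∈ D.J ^ 3, x * j - j * x ∈ G := by
      intro j hj
      obtain ⟨a, ha, j4, hj4, rfl⟩ := Submodule.mem_sup.1 (hJ3 hj)
      obtain ⟨s, t, rfl⟩ := Submodule.mem_span_pair.1 ha
      have h1 : x * (s • (x * (y * x)) + t • (y * (x * y)) + j4) -
          (s • (x * (y * x)) + t • (y * (x * y)) + j4) * x =
          s • (x * (x * (y * x)) - (x * (y * x)) * x) +
          t • (x * (y * (x * y)) - (y * (x * y)) * x) + (x * j4 - j4 * x) := by
        simp only [mul_add, add_mul, mul_smul_comm, smul_mul_assoc, smul_sub]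
        abel
      rw [h1, pQx]
      exact add_mem (add_mem (Submodule.smul_mem _ _ (g5 (sub_mem pxP pPx)))
        (Submodule.smul_mem _ _ gXY)) (g5 (sub_mem (T.xm hj4) (T.mx hj4)))
    have hby : ∀ j ∈ D.J ^ 3, y * j - j * y ∈ G := by
      intro j hj
      obtain ⟨a, ha, j4, hj4, rfl⟩ := Submodule.mem_sup.1 (hJ3 hj)
      obtain ⟨s, t, rfl⟩ := Submodule.mem_span_pair.1 ha
      have h1 : y * (s • (x * (y * x)) + t • (y * (x * y)) + j4) -
          (s • (x * (y * x)) + t • (y * (x * y)) + j4) * y =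
          (-s) • ((x * (y * x)) * y - y * (x * (y * x))) +
          t • (y * (y * (x * y)) - (y * (x * y)) * y) + (y * j4 - j4 * y) := by
        simp only [mul_add, add_mul, mul_smul_comm, smul_mul_assoc, smul_sub, neg_smul]
        abel
      rw [h1, pPy]
      exact add_mem (add_mem (Submodule.smul_mem _ _ gXY)
        (Submodule.smul_mem _ _ (g5 (sub_mem pyQ pQy)))) (g5 (sub_mem (T.ym hj4) (T.my hj4)))
    have h22 : Submodule.map₂ (br F A) (D.J ^ 2) (D.J ^ 2) ≤ D.J ^ 5 := by
      have h23 : ∀ a ∈ D.J ^ 2, ∀ j ∈ D.J ^ 3, a * j - j * a ∈ D.J ^ 5 := fun a ha j hj =>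
        sub_mem (D.pow_mul_mem (i := 2) (j := 3) ha hj) (D.pow_mul_mem (i := 3) (j := 2) hj ha)
      have h24 : (x * y) * (y * x) - (y * x) * (x * y) ∈ D.J ^ 5 := by
        have : (x * y) * (y * x) - (y * x) * (x * y) =
          (x * (y * y)) * x - (y * (x * x)) * y := by noncomm_ring
        rw [this]
        exact sub_mem (T.mx (T.xm hyy)) (T.my (T.ym hxx))
      rw [Submodule.map₂_le]
      intro a ha b hb
      obtain ⟨a', ha', j, hj, rfl⟩ := Submodule.mem_sup.1 (hJ2 ha)
      obtain ⟨b', hb', k, hk, rfl⟩ := Submodule.mem_sup.1 (hJ2 hb)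
      obtain ⟨s, t, rfl⟩ := Submodule.mem_span_pair.1 ha'
      obtain ⟨s', t', rfl⟩ := Submodule.mem_span_pair.1 hb'
      have h1 : br F A (s • (x * y) + t • (y * x) + j) (s' • (x * y) + t' • (y * x) + k) =
        (s * t' - t * s') • ((x * y) * (y * x) - (y * x) * (x * y)) +
        ((s • (x * y) + t • (y * x) + j) * k - k * (s • (x * y) + t • (y * x) + j)) -
        ((s' • (x * y) + t' • (y * x)) * j - j * (s' • (x * y) + t' • (y * x))) := by
        rw [br_apply]
        simp only [mul_add, add_mul, mul_smul_comm, smul_mul_assoc, smul_sub, sub_smul, smul_add,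
          smul_smul]
        rw [mul_comm s' s, mul_comm s' t, mul_comm t' s, mul_comm t' t]
        abel
      rw [h1]
      refine sub_mem (add_mem (Submodule.smul_mem _ _ h24) (h23 _ ha _ hk)) (h23 _ ?_ _ hj)
      exact add_mem (Submodule.smul_mem _ _ hxy2) (Submodule.smul_mem _ _ hyx2)
    have hJG : D.J ^ 4 ≤ G := by
      intro z hz
      have hz3 : z ∈ D.J ^ 3 := D.pow_le (by norm_num) (by norm_num) hz
      obtain ⟨k, hk, s, hs, rfl⟩ := Submodule.mem_sup.1 (T.J3_le hZ hK hz3)
      obtain ⟨k1, hk1, k2, hk2, rfl⟩ := Submodule.mem_sup.1 hk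
      refine add_mem (add_mem ?_ (g5 (h22 hk2))) (g5 (hS5 hs))
      have hk14 : k1 ∈ D.J ^ 4 := by
        have h1 : k1 = (k1 + k2 + s) - k2 - s := by abel
        rw [h1]
        exact sub_mem (sub_mem hz (D.pow_le (by norm_num) (by norm_num) (h22 hk2)))
          (D.pow_le (by norm_num) (by norm_num) (hS5 hs))
      have h1 : Submodule.map₂ (br F A) (span F {x, y}) (D.J ^ 2) ≤
          (D.J ^ 2).map (br F A x) ⊔ (D.J ^ 2).map (br F A y) := by
        rw [Submodule.map₂_le]
        intro v hv w hw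
        obtain ⟨a, b, rfl⟩ := Submodule.mem_span_pair.1 hv
        rw [map_add, map_smul, map_smul, LinearMap.add_apply, LinearMap.smul_apply,
          LinearMap.smul_apply, ← map_smul, ← map_smul]
        exact Submodule.add_mem_sup (Submodule.mem_map_of_mem (Submodule.smul_mem _ _ hw))
          (Submodule.mem_map_of_mem (Submodule.smul_mem _ _ hw))
      obtain ⟨u1, hu1, u2, hu2, rfl⟩ := Submodule.mem_sup.1 (h1 hk1)
      obtain ⟨w1, hw1, rfl⟩ := Submodule.mem_map.1 hu1
      obtain ⟨w2, hw2, rfl⟩ := Submodule.mem_map.1 hu2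
      obtain ⟨a', ha', j1, hj1, rfl⟩ := Submodule.mem_sup.1 (hJ2 hw1)
      obtain ⟨b', hb', j2, hj2, rfl⟩ := Submodule.mem_sup.1 (hJ2 hw2)
      obtain ⟨a1, b1, rfl⟩ := Submodule.mem_span_pair.1 ha'
      obtain ⟨a2, b2, rfl⟩ := Submodule.mem_span_pair.1 hb'
      have h2 : br F A x (a1 • (x * y) + b1 • (y * x) + j1) +
          br F A y (a2 • (x * y) + b2 • (y * x) + j2) =
          ((b1 - a1) • (x * (y * x)) + (a2 - b2) • (y * (x * y))) +
          (a1 • ((x * x) * y) - b1 • (y * (x * x)) + b2 • ((y * y) * x) - a2 • (x * (y * y)) +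
          ((x * j1 - j1 * x) + (y * j2 - j2 * y))) := by
        rw [br_apply, br_apply]
        simp only [mul_add, add_mul, mul_smul_comm, smul_mul_assoc, sub_smul, mul_assoc]
        abel
      have h3 : (b1 - a1) • (x * (y * x)) + (a2 - b2) • (y * (x * y)) ∈ D.J ^ 4 := by
        rw [h2] at hk14
        refine (Submodule.add_mem_iff_left _ ?_).1 hk14
        refine add_mem (sub_mem (add_mem (sub_mem (Submodule.smul_mem _ _ (T.my hxx))
          (Submodule.smul_mem _ _ (T.ym hxx))) (Submodule.smul_mem _ _ (T.mx hyy)))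
          (Submodule.smul_mem _ _ (T.xm hyy))) ?_
        exact add_mem (sub_mem (T.xm hj1) (T.mx hj1)) (sub_mem (T.ym hj2) (T.my hj2))
      obtain ⟨h4, h5⟩ := hind _ _ h3
      rw [sub_eq_zero] at h4 h5
      rw [h2, h4, h5, sub_self, sub_self, zero_smul, zero_smul, add_zero, zero_add]
      have h6 : a1 • ((x * x) * y) - a1 • (y * (x * x)) + b2 • ((y * y) * x) - b2 • (x * (y * y)) =
        (-a1) • (y * (x * x) - (x * x) * y) + (-b2) • (x * (y * y) - (y * y) * x) := by
        module
      rw [h6]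
      exact add_mem (add_mem (Submodule.smul_mem _ _ (hby _ hxx))
        (Submodule.smul_mem _ _ (hbx _ hyy))) (add_mem (hbx _ hj1) (hby _ hj2))
    obtain ⟨a, ha, j5, hj5, haj⟩ := Submodule.mem_sup.1 (hJG hX4)
    obtain ⟨τ, rfl⟩ := Submodule.mem_span_singleton.1 ha
    have hrel : (1 - τ) • (x * (y * (x * y))) + τ • (y * (x * (y * x))) ∈ D.J ^ 5 := by
      have h1 : (1 - τ) • (x * (y * (x * y))) + τ • (y * (x * (y * x))) = j5 := by
        have h2 : j5 = x * (y * (x * y)) - τ • (x * (y * (x * y)) - y * (x * (y * x))) := by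
          rw [eq_sub_iff_add_eq, add_comm]; exact haj
        rw [h2]; module
      rw [h1]; exact hj5
    -- degree five
    have q1 : (y * (x * (y * x))) * x ∈ D.J ^ 6 := by
      have : (y * (x * (y * x))) * x = y * (x * (y * (x * x))) := by noncomm_ring
      rw [this]; exact T.ym (T.xm (T.ym hxx))
    have q2 : y * (y * (x * (y * x))) ∈ D.J ^ 6 := by
      have : y * (y * (x * (y * x))) = (((y * y) * x) * y) * x := by noncomm_ring
      rw [this]; exact T.mx (T.my (T.mx hyy))
    have q3 : x * (x * (y * (x * y))) ∈ D.J ^ 6 := by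
      have : x * (x * (y * (x * y))) = (((x * x) * y) * x) * y := by noncomm_ring
      rw [this]; exact T.my (T.mx (T.my hxx))
    have q4 : (x * (y * (x * y))) * y ∈ D.J ^ 6 := by
      have : (x * (y * (x * y))) * y = x * (y * (x * (y * y))) := by noncomm_ring
      rw [this]; exact T.xm (T.ym (T.xm hyy))
    have q5 : (x * (y * (x * y))) * x = x * (y * (x * (y * x))) := by noncomm_ring
    have q6 : (y * (x * (y * x))) * y = y * (x * (y * (x * y))) := by noncomm_ring
    have s1 : (1 - τ) • (x * (y * (x * (y * x)))) ∈ D.J ^ 6 := by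
      have h1 := T.mx hrel
      rw [add_mul, smul_mul_assoc, smul_mul_assoc, q5] at h1
      exact (Submodule.add_mem_iff_left _ (Submodule.smul_mem _ _ q1)).1 h1
    have s2 : (1 - τ) • (y * (x * (y * (x * y)))) ∈ D.J ^ 6 := by
      have h1 := T.ym hrel
      rw [mul_add, mul_smul_comm, mul_smul_comm] at h1
      exact (Submodule.add_mem_iff_left _ (Submodule.smul_mem _ _ q2)).1 h1
    have s3 : τ • (x * (y * (x * (y * x)))) ∈ D.J ^ 6 := by
      have h1 := T.xm hrel
      rw [mul_add, mul_smul_comm, mul_smul_comm] at h1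
      exact (Submodule.add_mem_iff_right _ (Submodule.smul_mem _ _ q3)).1 h1
    have s4 : τ • (y * (x * (y * (x * y)))) ∈ D.J ^ 6 := by
      have h1 := T.my hrel
      rw [add_mul, smul_mul_assoc, smul_mul_assoc, q6] at h1
      exact (Submodule.add_mem_iff_right _ (Submodule.smul_mem _ _ q4)).1 h1
    have u1 : x * (y * (x * (y * x))) ∈ D.J ^ 6 := by
      have := add_mem s1 s3
      rwa [← add_smul, sub_add_cancel, one_smul] at this
    have u2 : y * (x * (y * (x * y))) ∈ D.J ^ 6 := by
      have := add_mem s2 s4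
      rwa [← add_smul, sub_add_cancel, one_smul] at this
    apply h5
    apply D.eq_bot_of_le
    have := D.step_left (i := 4) (G := ⊥) (by norm_num) T.hV hs4 hJ4' ?_
    · simpa using this
    · intro v hv z hz
      obtain ⟨a, b, rfl⟩ := Submodule.mem_span_pair.1 hv
      rcases hz with rfl | rfl
      · rw [bot_sup_eq, add_mul, smul_mul_assoc, smul_mul_assoc]
        exact add_mem (Submodule.smul_mem _ _ q3) (Submodule.smul_mem _ _ u2)
      · rw [bot_sup_eq, add_mul, smul_mul_assoc, smul_mul_assoc]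
        exact add_mem (Submodule.smul_mem _ _ u1) (Submodule.smul_mem _ _ q2)
  -- dimensions
  have d4 : finrank F (D.J ^ 4 : Submodule F A) ≤ 1 := by
    rw [← D.finrank_S]
    exact Submodule.finrank_mono (D.pow_le_S (i := 4) hJ5)
  have d3 : finrank F (D.J ^ 3 : Submodule F A) ≤ 2 + finrank F (D.J ^ 4 : Submodule F A) :=
    (Submodule.finrank_mono hJ3).trans ((Submodule.finrank_add_le_finrank_add_finrank _ _).trans
      (Nat.add_le_add_right (finrank_span_le_pair _ _) _))
  have d2 : finrank F (D.J ^ 2 : Submodule F A) ≤ 2 + finrank F (D.J ^ 3 : Submodule F A) :=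
    (Submodule.finrank_mono hJ2).trans ((Submodule.finrank_add_le_finrank_add_finrank _ _).trans
      (Nat.add_le_add_right (finrank_span_le_pair _ _) _))
  have d1 := T.finrank_J
  have d0 := D.finrank_J
  omega

end Dat

end H79.SymLoc
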