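import Mathlib
import Cfsg.Agent.Lib.H79.SymLocTwoC

/-! Symmetric local algebras with two generators: conclusion. -/

set_option autoImplicit false
set_option linter.unusedSectionVars false
set_option linter.unusedVariables false
set_option linter.style.haveILetI false

namespace H79.SymLoc

open Submodule Module

universe u v w

variable {F : Type u} [Field F] {A : Type v} [Ring A] [Algebra F A]

/-- a binary quadratic form over an algebraically closed field has a nontrivial zero -/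
theorem exists_zero_quadratic [IsAlgClosed F] (a b c : F) : a = 0 ∨ ∃ t : F, a * t ^ 2 + b * t + c = 0 := by
  by_cases ha : a = 0
  · exact Or.inl ha
  right
  open Polynomial in
  obtain ⟨t, ht⟩ := IsAlgClosed.exists_root (C a * X ^ 2 + C b * X + C c) (by
    rw [Polynomial.degree_quadratic ha]; norm_num)
  refine ⟨t, ?_⟩
  simpa [Polynomial.IsRoot] using ht

/-- a singular two by two system -/
theorem exists_sol_two {a b c d : F} (h : a * d - b * c = 0) :
    ∃ r s : F, ¬ (r = 0 ∧ s = 0) ∧ a * r + b * s = 0 ∧ c * r + d * s = 0 := by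
  by_cases h1 : a = 0 ∧ b = 0
  · by_cases h2 : c = 0 ∧ d = 0
    · exact ⟨1, 0, by simp, by rw [h1.1, h1.2]; ring, by rw [h2.1, h2.2]; ring⟩
    · refine ⟨d, -c, fun h3 => h2 ⟨neg_eq_zero.1 h3.2, h3.1⟩, by rw [h1.1, h1.2]; ring, by ring⟩
  · refine ⟨b, -a, fun h3 => h1 ⟨neg_eq_zero.1 h3.2, h3.1⟩, by ring, ?_⟩
    linear_combination -h

namespace Dat

variable {D : Dat F A} {x y : A} [FiniteDimensional F A]

theorem Two.exists_sq [IsAlgClosed F] (T : D.Two x y)
    (hZ : finrank F (Subalgebra.center F A) = 5) (hK : D.K ≠ ⊥) :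
    ∃ x' y', D.Two x' y' ∧ x' * x' ∈ D.J ^ 3 := by
  obtain ⟨θ1, θ2, hθ⟩ := T.exists_funs hZ hK
  have m2 : ∀ {u v : A}, u ∈ D.J → v ∈ D.J → u * v ∈ D.J ^ 2 := fun hu hv => by
    rw [pow_two]; exact Submodule.mul_mem_mul hu hv
  -- a left zero divisor
  obtain ⟨a, a', Ta, hdet⟩ : ∃ a a', D.Two a a' ∧
      θ1 (a * x) * θ2 (a * y) - θ1 (a * y) * θ2 (a * x) = 0 := by
    rcases exists_zero_quadratic
      (θ1 (x * x) * θ2 (x * y) - θ1 (x * y) * θ2 (x * x))
      (θ1 (x * x) * θ2 (y * y) + θ1 (y * x) * θ2 (x * y) -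
        θ1 (x * y) * θ2 (y * x) - θ1 (y * y) * θ2 (x * x))
      (θ1 (y * x) * θ2 (y * y) - θ1 (y * y) * θ2 (y * x)) with h | ⟨t, ht⟩
    · exact ⟨x, y, T, h⟩
    · refine ⟨t • x + (1 : F) • y, (1 : F) • x + (0 : F) • y, T.change t 1 1 0 (by norm_num), ?_⟩
      simp only [add_mul, smul_mul_assoc, map_add, map_smul, smul_eq_mul]
      linear_combination ht
  obtain ⟨r, s, hrs, h1, h2⟩ := exists_sol_two hdet
  have hab : a * (r • x + s • y) ∈ D.J ^ 3 := by
    apply hθ
    · exact m2 Ta.hx (add_mem (D.J.smul_mem _ T.hx) (D.J.smul_mem _ T.hy))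
    · rw [mul_add, mul_smul_comm, mul_smul_comm, map_add, map_smul, map_smul, smul_eq_mul,
        smul_eq_mul]
      linear_combination h1
    · rw [mul_add, mul_smul_comm, mul_smul_comm, map_add, map_smul, map_smul, smul_eq_mul,
        smul_eq_mul]
      linear_combination h2
  -- express in terms of `a, a'`
  obtain ⟨γ, δ, j, hj, hb⟩ := Ta.J_dec (v := r • x + s • y)
    (add_mem (D.J.smul_mem _ T.hx) (D.J.smul_mem _ T.hy))
  have hab' : a * (γ • a + δ • a') ∈ D.J ^ 3 := by
    rw [hb, mul_add] at hab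
    exact (Submodule.add_mem_iff_left _ (Ta.xm hj)).1 hab
  by_cases hδ : δ = 0
  · refine ⟨a, a', Ta, ?_⟩
    have hγ : γ ≠ 0 := by
      rintro rfl
      rw [hδ, zero_smul, zero_smul, zero_add, zero_add] at hb
      exact hrs (T.ind r s (by rw [hb]; exact hj))
    rw [hδ, zero_smul, add_zero, mul_smul_comm] at hab'
    exact mem_of_smul hγ hab'
  · exfalso
    have T' := Ta.change 1 0 γ δ (by simpa using hδ)
    rw [one_smul, zero_smul, add_zero] at T'
    exact T'.case2 hZ hK hab'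

theorem Two.main [IsAlgClosed F] (T : D.Two x y)
    (hZ : finrank F (Subalgebra.center F A) = 5) (hK : D.K ≠ ⊥) : finrank F A = 8 := by
  refine le_antisymm ?_ (T.eight_le hZ hK)
  obtain ⟨x, y, T, hxx⟩ := T.exists_sq hZ hK
  have hx1 : x ∈ D.J ^ 1 := D.mem_pow_one.2 T.hx
  have hy1 : y ∈ D.J ^ 1 := D.mem_pow_one.2 T.hy
  obtain ⟨α, β, γ, h0, hr⟩ := T.rel3 hZ hK (z1 := x * y) (z2 := y * x) (z3 := y * y)
    (T.xm hy1) (T.ym hx1) (T.ym hy1)
  by_cases hγ : γ = 0
  · exfalso
    rw [hγ, zero_smul, add_zero] at hr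
    by_cases hα : α = 0
    · have hβ : β ≠ 0 := fun h => h0 ⟨hα, h, hγ⟩
      rw [hα, zero_smul, zero_add] at hr
      exact T.swap.case2 hZ hK (mem_of_smul hβ hr)
    by_cases hβ : β = 0
    · rw [hβ, zero_smul, add_zero] at hr
      exact T.case2 hZ hK (mem_of_smul hα hr)
    refine T.case1 hZ hK hxx (q := -(α⁻¹ * β)) (neg_ne_zero.2 (mul_ne_zero (inv_ne_zero hα) hβ)) ?_
    have h1 : x * y - (-(α⁻¹ * β)) • (y * x) = α⁻¹ • (α • (x * y) + β • (y * x)) := by
      rw [smul_add, smul_smul, smul_smul, inv_mul_cancel₀ hα, one_smul, neg_smul, sub_neg_eq_add]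
    rw [h1]
    exact Submodule.smul_mem _ _ hr
  · -- change `y`
    set s : F := γ⁻¹ * α with hs
    have T1 := T.change 1 0 s 1 (by norm_num)
    rw [one_smul, zero_smul, add_zero, one_smul] at T1
    -- `y' = s x + y`
    have e1 : (s • x + y) * (s • x + y) - (s - γ⁻¹ * β) • ((s • x + y) * x) ∈ D.J ^ 3 := by
      have h1 : (s • x + y) * (s • x + y) - (s - γ⁻¹ * β) • ((s • x + y) * x) =
          γ⁻¹ • (α • (x * y) + β • (y * x) + γ • (y * y)) +
          (s * (γ⁻¹ * β)) • (x * x) := by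
        simp only [add_mul, mul_add, smul_mul_assoc, mul_smul_comm, smul_add, smul_smul]
        rw [inv_mul_cancel₀ hγ, hs]
        module
      rw [h1]
      exact add_mem (Submodule.smul_mem _ _ hr) (Submodule.smul_mem _ _ hxx)
    by_cases hb : s - γ⁻¹ * β = 0
    · rw [hb, zero_smul, sub_zero] at e1
      exact T1.dihedral hZ hK hxx e1
    · exfalso
      have T2 := T1.change 0 1 (-(s - γ⁻¹ * β)) 1 (by simpa using hb)
      rw [zero_smul, one_smul, zero_add] at T2
      refine T2.case2 hZ hK ?_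
      have h1 : (s • x + y) * (-(s - γ⁻¹ * β) • x + (s • x + y)) =
          (s • x + y) * (s • x + y) - (s - γ⁻¹ * β) • ((s • x + y) * x) := by
        rw [mul_add, mul_smul_comm, neg_smul]
        abel
      rw [h1]
      exact e1

end Dat

end H79.SymLoc
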