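import Mathlib
import Cfsg.Agent.Lib.H79.SymLocTwoD
import Cfsg.Agent.Lib.H79.SymLocSing

/-! Symmetric local algebras with three generators. -/

set_option autoImplicit false
set_option linter.unusedSectionVars false
set_option linter.unusedVariables false
set_option linter.style.haveILetI false

namespace H79.SymLoc

open Submodule Module

universe u v w

variable {F : Type u} [Field F] {A : Type v} [Ring A] [Algebra F A]

theorem mem_span_triple {x y z w : A} : w ∈ span F {x, y, z} ↔ ∃ a b c : F,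
    a • x + b • y + c • z = w := by
  rw [Submodule.mem_span_insert]
  constructor
  · rintro ⟨a, u, hu, rfl⟩
    obtain ⟨b, c, rfl⟩ := Submodule.mem_span_pair.1 hu
    exact ⟨a, b, c, by abel⟩
  · rintro ⟨a, b, c, rfl⟩
    exact ⟨a, b • y + c • z, Submodule.mem_span_pair.2 ⟨b, c, rfl⟩, by abel⟩

theorem finrank_sup_singleton [FiniteDimensional F A] {X : Submodule F A} {v : A} (hv : v ∉ X) :
    finrank F (X ⊔ span F {v} : Submodule F A) = finrank F X + 1 := by
  have h0 : v ≠ 0 := fun h => hv (h ▸ zero_mem _)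
  have h1 := Submodule.finrank_sup_add_finrank_inf_eq X (span F {v})
  have h2 : X ⊓ span F {v} = ⊥ := by
    rw [eq_bot_iff]
    rintro w ⟨hw, hw'⟩
    obtain ⟨t, rfl⟩ := Submodule.mem_span_singleton.1 hw'
    by_cases ht : t = 0
    · rw [ht, zero_smul]; exact zero_mem _
    · exact absurd (mem_of_smul ht hw) hv
  rw [h2, finrank_bot, finrank_span_singleton h0] at h1
  omega

theorem finrank_span_le_triple (x y z : A) : finrank F (span F {x, y, z}) ≤ 3 := by
  classical
  have h := finrank_span_finset_le_card (R := F) ({x, y, z} : Finset A)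
  rw [Finset.coe_insert, Finset.coe_pair] at h
  exact h.trans Finset.card_le_three

namespace Dat

variable {D : Dat F A}

/-- three generators -/
structure Three (D : Dat F A) (x y z : A) : Prop where
  hx : x ∈ D.J
  hy : y ∈ D.J
  hz : z ∈ D.J
  hV : D.J = span F {x, y, z} ⊔ D.J ^ 2
  ind : ∀ a b c : F, a • x + b • y + c • z ∈ D.J ^ 2 → a = 0 ∧ b = 0 ∧ c = 0

variable {x y z : A}

theorem Three.V_le (T : D.Three x y z) : span F {x, y, z} ≤ D.J := by
  conv_rhs => rw [T.hV]
  exact le_sup_left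

theorem Three.V_inf (T : D.Three x y z) {w : A} (hw : w ∈ span F {x, y, z}) (h2 : w ∈ D.J ^ 2) :
    w = 0 := by
  obtain ⟨a, b, c, rfl⟩ := mem_span_triple.1 hw
  obtain ⟨rfl, rfl, rfl⟩ := T.ind a b c h2
  simp

theorem Three.J_dec (T : D.Three x y z) {v : A} (hv : v ∈ D.J) : ∃ u ∈ span F {x, y, z},
    ∃ j ∈ D.J ^ 2, v = u + j := by
  rw [T.hV] at hv
  obtain ⟨u, hu, j, hj, rfl⟩ := Submodule.mem_sup.1 hv
  exact ⟨u, hu, j, hj, rfl⟩

theorem Three.KV (T : D.Three x y z) :
    Submodule.map₂ (br F A) (span F {x, y, z}) (span F {x, y, z}) ≤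
    span F {x * y - y * x, x * z - z * x, y * z - z * y} := by
  rw [Submodule.map₂_le]
  intro v hv w hw
  obtain ⟨a, b, c, rfl⟩ := mem_span_triple.1 hv
  obtain ⟨a', b', c', rfl⟩ := mem_span_triple.1 hw
  refine mem_span_triple.2 ⟨a * b' - b * a', a * c' - c * a', b * c' - c * b', ?_⟩
  rw [br_apply]
  simp only [mul_add, add_mul, mul_smul_comm, smul_mul_assoc, smul_add, smul_smul, smul_sub,
    sub_smul]
  rw [mul_comm a' a, mul_comm a' b, mul_comm a' c, mul_comm b' a, mul_comm b' b, mul_comm b' c,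
    mul_comm c' a, mul_comm c' b, mul_comm c' c]
  abel

theorem Three.K_le (T : D.Three x y z) :
    D.K ≤ span F {x * y - y * x, x * z - z * x, y * z - z * y} ⊔ D.J ^ 3 := by
  rw [D.K_gen T.hV, sup_assoc]
  refine sup_le_sup T.KV (sup_le ?_ ?_)
  · rw [Submodule.map₂_le]
    intro a ha b hb
    have ha' := T.V_le ha
    rw [br_apply]
    exact sub_mem (D.pow_mul_mem (i := 1) (j := 2) (D.mem_pow_one.2 ha') hb)
      (D.pow_mul_mem (i := 2) (j := 1) hb (D.mem_pow_one.2 ha'))
  · rw [Submodule.map₂_le]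
    intro a ha b hb
    rw [br_apply]
    exact D.pow_le (by norm_num) (by norm_num) (sub_mem (D.pow_mul_mem (i := 2) (j := 2) ha hb)
      (D.pow_mul_mem (i := 2) (j := 2) hb ha))

variable [FiniteDimensional F A]

theorem exists_three (hd : finrank F D.J = finrank F (D.J ^ 2 : Submodule F A) + 3) {v : A}
    (hv : v ∈ D.J) (hv2 : v ∉ D.J ^ 2) : ∃ x y, D.Three v x y := by
  have h21 : D.J ^ 2 ≤ D.J := D.pow_le_J (by norm_num)
  have e1 := finrank_sup_singleton hv2
  have h1 : ¬ D.J ≤ D.J ^ 2 ⊔ span F {v} := by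
    intro h
    have := Submodule.finrank_mono h
    omega
  obtain ⟨x, hx, hx'⟩ := SetLike.not_le_iff_exists.1 h1
  have e2 := finrank_sup_singleton hx'
  have h2 : ¬ D.J ≤ D.J ^ 2 ⊔ span F {v} ⊔ span F {x} := by
    intro h
    have := Submodule.finrank_mono h
    omega
  obtain ⟨y, hy, hy'⟩ := SetLike.not_le_iff_exists.1 h2
  have e3 := finrank_sup_singleton hy'
  have hle : D.J ^ 2 ⊔ span F {v} ⊔ span F {x} ⊔ span F {y} ≤ D.J :=
    sup_le (sup_le (sup_le h21 ((Submodule.span_singleton_le_iff_mem _ _).2 hv))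
      ((Submodule.span_singleton_le_iff_mem _ _).2 hx))
      ((Submodule.span_singleton_le_iff_mem _ _).2 hy)
  have heq := Submodule.eq_of_le_of_finrank_le hle (by omega)
  refine ⟨x, y, hv, hx, hy, ?_, ?_⟩
  · apply le_antisymm
    · rw [← heq]
      refine sup_le (sup_le (sup_le ?_ ?_) ?_) ?_
      · rw [heq]; exact le_sup_right
      · refine le_trans ?_ le_sup_left
        exact Submodule.span_mono (by simp)
      · refine le_trans ?_ le_sup_left
        exact Submodule.span_mono (by simp)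
      · refine le_trans ?_ le_sup_left
        exact Submodule.span_mono (by simp)
    · refine sup_le ?_ h21
      rw [Submodule.span_le]
      rintro z (rfl | rfl | rfl) <;> assumption
  · intro a b c habc
    have hc : c = 0 := by
      by_contra hc
      apply hy'
      apply mem_of_smul hc
      have : c • y = (a • v + b • x + c • y) - a • v - b • x := by abel
      rw [this]
      refine sub_mem (sub_mem ?_ ?_) ?_
      · exact Submodule.mem_sup_left (Submodule.mem_sup_left habc)
      · exact Submodule.mem_sup_left (Submodule.mem_sup_right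
          (Submodule.smul_mem _ _ (Submodule.mem_span_singleton_self _)))
      · exact Submodule.mem_sup_right
          (Submodule.smul_mem _ _ (Submodule.mem_span_singleton_self _))
    rw [hc, zero_smul, add_zero] at habc
    have hb : b = 0 := by
      by_contra hb
      apply hx'
      apply mem_of_smul hb
      have : b • x = (a • v + b • x) - a • v := by abel
      rw [this]
      exact sub_mem (Submodule.mem_sup_left habc) (Submodule.mem_sup_right
          (Submodule.smul_mem _ _ (Submodule.mem_span_singleton_self _)))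
    rw [hb, zero_smul, add_zero] at habc
    refine ⟨?_, hb, hc⟩
    by_contra ha
    exact hv2 (mem_of_smul ha habc)

theorem J2_le_three (hd : finrank F D.J = finrank F (D.J ^ 2 : Submodule F A) + 3)
    (hZ : finrank F (Subalgebra.center F A) = 5) (hK : D.K ≠ ⊥) : D.J ^ 2 ≤ D.K ⊔ D.S := by
  have h2 := D.finrank_J
  have h3 := D.finrank_K
  have h4 : D.K ⊓ D.S = ⊥ := by
    rw [eq_bot_iff]
    rintro z ⟨hz, hz'⟩
    exact D.K_inf_S hz hz'
  have h5 := Submodule.finrank_sup_add_finrank_inf_eq D.K D.S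
  rw [h4, finrank_bot, D.finrank_S] at h5
  have h6 : D.J ^ 2 ≠ ⊥ := fun h => D.J3_ne hK (D.pow_eq_bot (by norm_num) h)
  have h7 : D.K ⊔ D.S ≤ D.J ^ 2 := sup_le D.K_le (D.S_le_pow (by norm_num) h6)
  exact (Submodule.eq_of_le_of_finrank_le h7 (by omega)).ge

/-- the top: `J^(k+3) ≠ 0 = J^(k+4)` implies `(J^(k+2))^⊥ ≤ J²`. -/
theorem star (hd : finrank F D.J = finrank F (D.J ^ 2 : Submodule F A) + 3)
    (hZ : finrank F (Subalgebra.center F A) = 5) (hK : D.K ≠ ⊥) {k : ℕ} (hk : 1 ≤ k)
    (h1 : D.J ^ (k + 3) ≠ ⊥) (h0 : D.J ^ (k + 4) = ⊥) : D.perp (D.J ^ (k + 2)) ≤ D.J ^ 2 := by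
  intro v hv
  by_contra hv2
  have hvJ : v ∈ D.J := by
    have h2 : D.S ≤ D.J ^ (k + 2) :=
      D.S_le_pow (by omega) (fun h => h1 (D.pow_eq_bot (by omega) h))
    have h3 := D.perp_anti h2 hv
    rwa [S, D.perp_perp] at h3
  obtain ⟨x, y, T⟩ := exists_three hd hvJ hv2
  set c := x * y - y * x with hc
  set X := D.perp (D.J ^ (k + 1)) with hX
  have hX3 : D.J ^ 3 ≤ X := by
    intro u hu
    apply D.mem_perp_of_mul
    intro w hw
    have := D.pow_mul_mem hu hw
    rwa [show 3 + (k + 1) = k + 4 by ring, h0, Submodule.mem_bot] at this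
  have hXS : D.S ≤ X := D.perp_anti (D.pow_le_J (by omega))
  have hvb : ∀ g ∈ D.J, v * g - g * v ∈ X := by
    intro g hg
    rw [hX, D.mem_perp']
    intro w hw
    have h2 : g * w ∈ D.J ^ (k + 2) := by
      have := D.pow_mul_mem (D.mem_pow_one.2 hg) hw
      rwa [show 1 + (k + 1) = k + 2 by ring] at this
    have h3 : w * g ∈ D.J ^ (k + 2) :=
      D.pow_mul_mem (i := k + 1) (j := 1) hw (D.mem_pow_one.2 hg)
    rw [sub_mul, map_sub, mul_assoc, D.mem_perp'.1 hv _ h2, zero_sub, neg_eq_zero, mul_assoc,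
      D.sym, mul_assoc]
    exact D.mem_perp'.1 hv _ h3
  have hJ2 : D.J ^ 2 ≤ span F {c} ⊔ X := by
    refine (J2_le_three hd hZ hK).trans (sup_le (T.K_le.trans (sup_le ?_ ?_)) ?_)
    · rw [Submodule.span_le]
      rintro w (rfl | rfl | rfl)
      · exact Submodule.mem_sup_right (hvb _ T.hy)
      · exact Submodule.mem_sup_right (hvb _ T.hz)
      · exact Submodule.mem_sup_left (Submodule.mem_span_singleton_self _)
    · exact hX3.trans le_sup_right
    · exact hXS.trans le_sup_right
  have hcX : c ∉ X := by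
    intro h
    apply h1
    have h2 : D.J ^ 2 ≤ X := hJ2.trans (sup_le ((Submodule.span_singleton_le_iff_mem _ _).2 h) le_rfl)
    rw [show k + 3 = 2 + (k + 1) by ring, pow_add, eq_bot_iff, Submodule.mul_le]
    intro m hm n hn
    rw [D.perp_pow_mul (by omega) (h2 hm) hn]
    exact zero_mem _
  obtain ⟨θ, hθc, hθ⟩ := exists_fun hcX
  have hz : ∀ u ∈ D.J ^ 2, u - θ u • c ∈ X := by
    intro u hu
    obtain ⟨a, ha, b, hb, rfl⟩ := Submodule.mem_sup.1 (hJ2 hu)
    obtain ⟨t, rfl⟩ := Submodule.mem_span_singleton.1 ha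
    rw [map_add, map_smul, hθc, hθ b hb, add_zero, smul_eq_mul, mul_one, add_sub_cancel_left]
    exact hb
  have m2 : ∀ {u v : A}, u ∈ D.J → v ∈ D.J → u * v ∈ D.J ^ 2 := fun hu hv => by
    rw [pow_two]; exact Submodule.mul_mem_mul hu hv
  set β : D.J →ₗ[F] D.J →ₗ[F] F :=
    ((LinearMap.mul F A).compr₂ θ).domRestrict₁₂ D.J D.J with hβ
  have key : ∀ w ∈ D.J ^ k, ∀ g ∈ D.J, c * (g * w) = 0 := by
    intro w hw
    set f : D.J →ₗ[F] A := LinearMap.mulLeft F c ∘ₗ LinearMap.mulRight F w ∘ₗ D.J.subtype with hf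
    set f' : D.J →ₗ[F] A := LinearMap.mulRight F (c * w) ∘ₗ D.J.subtype with hf'
    have h2 : ∀ g x k : D.J, β g x • f k = β x k • f' g := by
      intro g h m
      show θ ((g : A) * h) • (c * ((m : A) * w)) = θ ((h : A) * m) • ((g : A) * (c * w))
      have e1 := D.perp_pow_mul (by omega) (hz _ (m2 g.2 h.2))
        (show (m : A) * w ∈ D.J ^ (k + 1) by
          have := D.pow_mul_mem (D.mem_pow_one.2 m.2) hw
          rwa [add_comm] at this)
      have e2 : (g : A) * (((h : A) * m - θ ((h : A) * m) • c) * w) = 0 := by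
        apply D.nd
        intro b
        rw [mul_assoc, D.sym, mul_assoc, mul_assoc]
        refine D.mem_perp'.1 (hz _ (m2 h.2 m.2)) _ ?_
        rw [← mul_assoc]
        exact D.pow_mul_mem (D.pow_mulR hk b hw) (D.mem_pow_one.2 g.2)
      rw [sub_mul, smul_mul_assoc, sub_eq_zero] at e1
      rw [sub_mul, mul_sub, smul_mul_assoc, mul_smul_comm, sub_eq_zero] at e2
      rw [← e1, ← e2]
      simp only [mul_assoc]
    have h3 := rank_one_symm β f f' h2 ⟨⟨x, T.hy⟩, ⟨y, T.hz⟩, by
      show θ (x * y) ≠ θ (y * x)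
      rw [ne_eq, ← sub_eq_zero, ← map_sub, ← hc, hθc]
      exact one_ne_zero⟩
    intro g hg
    exact LinearMap.congr_fun h3 ⟨g, hg⟩
  apply hcX
  apply D.mem_perp_of_mul
  intro w hw
  rw [pow_succ'] at hw
  have h4 : D.J * D.J ^ k ≤ LinearMap.ker (LinearMap.mulLeft F c) := by
    rw [Submodule.mul_le]
    intro m hm n hn
    exact key n hn m hm
  exact h4 hw

end Dat

end H79.SymLoc
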