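import Mathlib
import Cfsg.Agent.Lib.H79.SymLocThree

/-! Symmetric local algebras with three generators: the case `J⁴ ≠ 0`. -/

set_option autoImplicit false
set_option linter.unusedSectionVars false
set_option linter.unusedVariables false
set_option linter.style.haveILetI false

namespace H79.SymLoc

open Submodule Module

universe u v w

variable {F : Type u} [Field F] {A : Type v} [Ring A] [Algebra F A]

namespace Dat

variable {D : Dat F A} {x y z : A}

/-- `J²/J³` -/
abbrev Q2 (D : Dat F A) : Type v := (D.J ^ 2 : Submodule F A) ⧸ (D.J ^ 3).submoduleOf (D.J ^ 2)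

/-- the class modulo `J³` -/
noncomputable def toQ (D : Dat F A) : (D.J ^ 2 : Submodule F A) →ₗ[F] D.Q2 :=
  ((D.J ^ 3).submoduleOf (D.J ^ 2)).mkQ

theorem toQ_eq_zero {u : (D.J ^ 2 : Submodule F A)} : D.toQ u = 0 ↔ (u : A) ∈ D.J ^ 3 := by
  rw [toQ, Submodule.mkQ_apply, Submodule.Quotient.mk_eq_zero]
  exact Iff.rfl

theorem toQ_surj (q : D.Q2) : ∃ (u : A) (hu : u ∈ D.J ^ 2), D.toQ ⟨u, hu⟩ = q := by
  obtain ⟨u, hu⟩ := Submodule.mkQ_surjective _ q
  exact ⟨u.1, u.2, hu⟩

theorem toQ_eq {u v : A} (hu : u ∈ D.J ^ 2) (hv : v ∈ D.J ^ 2) :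
    D.toQ ⟨u, hu⟩ = D.toQ ⟨v, hv⟩ ↔ u - v ∈ D.J ^ 3 := by
  rw [← sub_eq_zero, ← map_sub, toQ_eq_zero]
  rfl

theorem m2 (D : Dat F A) {u v : A} (hu : u ∈ D.J) (hv : v ∈ D.J) : u * v ∈ D.J ^ 2 := by
  rw [pow_two]; exact Submodule.mul_mem_mul hu hv

/-- multiplication `V × V → J²/J³` -/
noncomputable def mu (D : Dat F A) (V : Submodule F A) (hV : V ≤ D.J) :
    V →ₗ[F] V →ₗ[F] D.Q2 :=
  LinearMap.mk₂ F (fun v w => D.toQ ⟨(v : A) * w, D.m2 (hV v.2) (hV w.2)⟩)
    (fun a b c => by rw [← map_add]; congr 1; exact Subtype.ext (add_mul _ _ _))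
    (fun t a c => by rw [← map_smul]; congr 1; exact Subtype.ext (smul_mul_assoc _ _ _))
    (fun a b c => by rw [← map_add]; congr 1; exact Subtype.ext (mul_add _ _ _))
    (fun t a c => by rw [← map_smul]; congr 1; exact Subtype.ext (mul_smul_comm _ _ _))

theorem mu_apply (V : Submodule F A) (hV : V ≤ D.J) (v w : V) :
    D.mu V hV v w = D.toQ ⟨(v : A) * w, D.m2 (hV v.2) (hV w.2)⟩ := rfl

theorem mu_eq_zero {V : Submodule F A} {hV : V ≤ D.J} {v w : V} :
    D.mu V hV v w = 0 ↔ (v : A) * w ∈ D.J ^ 3 := by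
  rw [mu_apply, toQ_eq_zero]

variable [FiniteDimensional F A]

theorem finrank_Q2 : finrank F D.Q2 + finrank F (D.J ^ 3 : Submodule F A) =
    finrank F (D.J ^ 2 : Submodule F A) := by
  have h1 := Submodule.finrank_quotient_add_finrank ((D.J ^ 3).submoduleOf (D.J ^ 2))
  have h2 : finrank F ((D.J ^ 3).submoduleOf (D.J ^ 2)) = finrank F (D.J ^ 3 : Submodule F A) :=
    LinearEquiv.finrank_eq (Submodule.submoduleOfEquivOfLe (D.pow_le (by norm_num) (by norm_num)))
  rw [h2] at h1
  exact h1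

/-- the standing hypotheses when `J⁴ ≠ 0` -/
structure Big (D : Dat F A) (x y z : A) (k : ℕ) : Prop where
  T : D.Three x y z
  hK : D.K ≠ ⊥
  J2 : D.J ^ 2 ≤ D.K ⊔ D.S
  hk : 1 ≤ k
  h1 : D.J ^ (k + 3) ≠ ⊥
  h0 : D.J ^ (k + 4) = ⊥
  st : D.perp (D.J ^ (k + 2)) ≤ D.J ^ 2

variable {k : ℕ}

theorem Big.zero (B : D.Big x y z k) {i : ℕ} (hi : k + 4 ≤ i) {u : A} (hu : u ∈ D.J ^ i) :
    u = 0 := by
  rwa [D.pow_eq_bot hi B.h0, Submodule.mem_bot] at hu

theorem Big.J4 (B : D.Big x y z k) : D.J ^ 4 ≠ ⊥ := fun h =>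
  B.h1 (D.pow_eq_bot (by have := B.hk; omega) h)

theorem Big.S4 (B : D.Big x y z k) : D.S ≤ D.J ^ 4 := D.S_le_pow (by norm_num) B.J4

theorem Big.J2_le (B : D.Big x y z k) :
    D.J ^ 2 ≤ span F {x * y - y * x, x * z - z * x, y * z - z * y} ⊔ D.J ^ 3 :=
  B.J2.trans (sup_le B.T.K_le (B.S4.trans ((D.pow_le (by norm_num) (by norm_num)).trans
    le_sup_right)))

theorem Big.J2_br (B : D.Big x y z k) :
    D.J ^ 2 ≤ Submodule.map₂ (br F A) (span F {x, y, z}) (span F {x, y, z}) ⊔ D.J ^ 3 := by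
  refine B.J2_le.trans (sup_le_sup_right ?_ _)
  have hx : x ∈ span F {x, y, z} := Submodule.subset_span (by simp)
  have hy : y ∈ span F {x, y, z} := Submodule.subset_span (by simp)
  have hz : z ∈ span F {x, y, z} := Submodule.subset_span (by simp)
  rw [Submodule.span_le]
  rintro w (rfl | rfl | rfl)
  · exact Submodule.apply_mem_map₂ (br F A) hx hy
  · exact Submodule.apply_mem_map₂ (br F A) hx hz
  · exact Submodule.apply_mem_map₂ (br F A) hy hz

theorem Big.fin_le (B : D.Big x y z k) : finrank F D.Q2 ≤ 3 := by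
  have h1 := D.finrank_Q2
  have h2 := Submodule.finrank_mono B.J2_le
  have h3 := Submodule.finrank_add_le_finrank_add_finrank
    (span F {x * y - y * x, x * z - z * x, y * z - z * y}) (D.J ^ 3)
  have h4 := finrank_span_le_triple (F := F) (x * y - y * x) (x * z - z * x) (y * z - z * y)
  omega

/-- independence of the commutators -/
theorem Big.ind (B : D.Big x y z k) (h : finrank F D.Q2 = 3) (a b c : F)
    (habc : a • (x * y - y * x) + b • (x * z - z * x) + c • (y * z - z * y) ∈ D.J ^ 3) :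
    a = 0 ∧ b = 0 ∧ c = 0 := by
  by_contra hne
  -- then `J² ≤ span of two + J³`
  have h1 := D.finrank_Q2
  have key : ∀ u v w : A, D.J ^ 2 ≤ span F {u, v, w} ⊔ D.J ^ 3 → w ∈ span F {u, v} ⊔ D.J ^ 3 →
      False := by
    intro u v w h2 h3
    have h4 : D.J ^ 2 ≤ span F {u, v} ⊔ D.J ^ 3 := by
      refine h2.trans (sup_le ?_ le_sup_right)
      rw [Submodule.span_le]
      rintro t (rfl | rfl | rfl)
      · exact Submodule.mem_sup_left (Submodule.subset_span (by simp))
      · exact Submodule.mem_sup_left (Submodule.subset_span (by simp))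
      · exact h3
    have h5 := Submodule.finrank_mono h4
    have h6 := Submodule.finrank_add_le_finrank_add_finrank (span F {u, v}) (D.J ^ 3)
    have h7 := finrank_span_le_pair (F := F) u v
    omega
  set c1 := x * y - y * x with hc1
  set c2 := x * z - z * x with hc2
  set c3 := y * z - z * y with hc3
  have hJ2 := B.J2_le
  by_cases hc : c = 0
  · by_cases hb : b = 0
    · have ha : a ≠ 0 := fun ha => hne ⟨ha, hb, hc⟩
      rw [hb, hc, zero_smul, zero_smul, add_zero, add_zero] at habc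
      refine key c2 c3 c1 ?_ (Submodule.mem_sup_right (mem_of_smul ha habc))
      have : ({c2, c3, c1} : Set A) = {c1, c2, c3} := by
        ext t; simp only [Set.mem_insert_iff, Set.mem_singleton_iff]; tauto
      rw [this]; exact hJ2
    · refine key c1 c3 c2 ?_ ?_
      · have : ({c1, c3, c2} : Set A) = {c1, c2, c3} := by
          ext t; simp only [Set.mem_insert_iff, Set.mem_singleton_iff]; tauto
        rw [this]; exact hJ2
      · apply mem_of_smul hb
        rw [hc, zero_smul, add_zero] at habc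
        have : b • c2 = (a • c1 + b • c2) - a • c1 := by abel
        rw [this]
        exact sub_mem (Submodule.mem_sup_right habc) (Submodule.mem_sup_left
          (Submodule.smul_mem _ _ (Submodule.subset_span (by simp))))
  · refine key c1 c2 c3 hJ2 ?_
    apply mem_of_smul hc
    have : c • c3 = (a • c1 + b • c2 + c • c3) - (a • c1 + b • c2) := by abel
    rw [this]
    exact sub_mem (Submodule.mem_sup_right habc) (Submodule.mem_sup_left
      (add_mem (Submodule.smul_mem _ _ (Submodule.subset_span (by simp)))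
      (Submodule.smul_mem _ _ (Submodule.subset_span (by simp)))))

/-- `J³ ≤ [V, J²] + J⁴`. -/
theorem Big.J3_le (B : D.Big x y z k) (h : finrank F D.Q2 = 3) :
    D.J ^ 3 ≤ Submodule.map₂ (br F A) (span F {x, y, z}) (D.J ^ 2) ⊔ D.J ^ 4 := by
  intro u hu
  obtain ⟨k', hk', s, hs, rfl⟩ := Submodule.mem_sup.1
    (B.J2 (D.pow_le (by norm_num) (by norm_num) hu))
  rw [D.K_gen B.T.hV] at hk'
  obtain ⟨k1, hk1, k2, hk2, rfl⟩ := Submodule.mem_sup.1 hk'
  obtain ⟨k3, hk3, k4, hk4, rfl⟩ := Submodule.mem_sup.1 hk1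
  have h22 : Submodule.map₂ (br F A) (D.J ^ 2) (D.J ^ 2) ≤ D.J ^ 4 := by
    rw [Submodule.map₂_le]
    intro a ha b hb
    rw [br_apply]
    exact sub_mem (D.pow_mul_mem (i := 2) (j := 2) ha hb) (D.pow_mul_mem (i := 2) (j := 2) hb ha)
  have h12 : Submodule.map₂ (br F A) (span F {x, y, z}) (D.J ^ 2) ≤ D.J ^ 3 := by
    rw [Submodule.map₂_le]
    intro a ha b hb
    have ha' := B.T.V_le ha
    rw [br_apply]
    exact sub_mem (D.pow_mul_mem (i := 1) (j := 2) (D.mem_pow_one.2 ha') hb)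
      (D.pow_mul_mem (i := 2) (j := 1) hb (D.mem_pow_one.2 ha'))
  have h3 : k3 ∈ D.J ^ 3 := by
    have : k3 = (k3 + k4 + k2 + s) - k4 - k2 - s := by abel
    rw [this]
    exact sub_mem (sub_mem (sub_mem hu (h12 hk4)) (D.pow_le (by norm_num) (by norm_num) (h22 hk2)))
      (D.pow_le (by norm_num) (by norm_num) (B.S4 hs))
  obtain ⟨a, b, c, rfl⟩ := mem_span_triple.1 (B.T.KV hk3)
  obtain ⟨rfl, rfl, rfl⟩ := B.ind h a b c h3
  rw [zero_smul, zero_smul, zero_smul, add_zero, add_zero, zero_add]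
  exact add_mem (add_mem (Submodule.mem_sup_left hk4) (Submodule.mem_sup_right (h22 hk2)))
    (Submodule.mem_sup_right (B.S4 hs))

/-- independent elements do not commute modulo `J³` -/
theorem Big.comm (B : D.Big x y z k) (h : finrank F D.Q2 = 3) {u v : A}
    (hu : u ∈ span F {x, y, z}) (hv : v ∈ span F {x, y, z})
    (hind : ∀ s t : F, s • u + t • v = 0 → s = 0 ∧ t = 0) : u * v - v * u ∉ D.J ^ 3 := by
  intro hc
  obtain ⟨a, b, c, rfl⟩ := mem_span_triple.1 hu
  obtain ⟨a', b', c', rfl⟩ := mem_span_triple.1 hv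
  have h1 : (a * b' - b * a') • (x * y - y * x) + (a * c' - c * a') • (x * z - z * x) +
      (b * c' - c * b') • (y * z - z * y) ∈ D.J ^ 3 := by
    have : (a * b' - b * a') • (x * y - y * x) + (a * c' - c * a') • (x * z - z * x) +
      (b * c' - c * b') • (y * z - z * y) = (a • x + b • y + c • z) * (a' • x + b' • y + c' • z) -
      (a' • x + b' • y + c' • z) * (a • x + b • y + c • z) := by
      simp only [mul_add, add_mul, mul_smul_comm, smul_mul_assoc, smul_add, smul_smul, smul_sub,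
        sub_smul]
      rw [mul_comm a' a, mul_comm a' b, mul_comm a' c, mul_comm b' a, mul_comm b' b, mul_comm b' c,
        mul_comm c' a, mul_comm c' b, mul_comm c' c]
      abel
    rw [this]; exact hc
  obtain ⟨e1, e2, e3⟩ := B.ind h _ _ _ h1
  -- choose a relation
  have rel : ∀ s t : F, s * a + t * a' = 0 → s * b + t * b' = 0 → s * c + t * c' = 0 →
      s = 0 ∧ t = 0 := by
    intro s t h1 h2 h3
    apply hind
    have : s • (a • x + b • y + c • z) + t • (a' • x + b' • y + c' • z) =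
      (s * a + t * a') • x + (s * b + t * b') • y + (s * c + t * c') • z := by module
    rw [this, h1, h2, h3]
    simp
  have r1 := rel a' (-a) (by ring) (by linear_combination -e1) (by linear_combination -e2)
  have r2 := rel b' (-b) (by linear_combination e1) (by ring) (by linear_combination -e3)
  have r3 := rel c' (-c) (by linear_combination e2) (by linear_combination e3) (by ring)
  have r4 := rel 1 0 (by rw [neg_eq_zero.1 r1.2]; ring) (by rw [neg_eq_zero.1 r2.2]; ring)
    (by rw [neg_eq_zero.1 r3.2]; ring)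
  exact one_ne_zero r4.1

/-- nondegeneracy on the left -/
theorem Big.H1 (B : D.Big x y z k) {v : A} (hv : v ∈ span F {x, y, z})
    (h : ∀ b ∈ span F {x, y, z}, v * b ∈ D.J ^ 3) : v = 0 := by
  apply B.T.V_inf hv
  apply B.st
  apply D.mem_perp_of_mul
  have hJ : ∀ b ∈ D.J, v * b ∈ D.J ^ 3 := by
    intro b hb
    obtain ⟨u, hu, j, hj, rfl⟩ := B.T.J_dec hb
    rw [mul_add]
    exact add_mem (h u hu) (D.pow_mul_mem (i := 1) (j := 2) (D.mem_pow_one.2 (B.T.V_le hv)) hj)
  intro w hw
  rw [show k + 2 = (k + 1) + 1 by ring, pow_succ'] at hw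
  have : D.J * D.J ^ (k + 1) ≤ LinearMap.ker (LinearMap.mulLeft F v) := by
    rw [Submodule.mul_le]
    intro m hm n hn
    rw [LinearMap.mem_ker, LinearMap.mulLeft_apply, ← mul_assoc]
    exact B.zero (by omega) (D.pow_mul_mem (i := 3) (j := k + 1) (hJ m hm) hn)
  exact this hw

/-- nondegeneracy on the right -/
theorem Big.H2 (B : D.Big x y z k) {v : A} (hv : v ∈ span F {x, y, z})
    (h : ∀ b ∈ span F {x, y, z}, b * v ∈ D.J ^ 3) : v = 0 := by
  apply B.T.V_inf hv
  apply B.st
  apply D.mem_perp_of_mul'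
  have hJ : ∀ b ∈ D.J, b * v ∈ D.J ^ 3 := by
    intro b hb
    obtain ⟨u, hu, j, hj, rfl⟩ := B.T.J_dec hb
    rw [add_mul]
    exact add_mem (h u hu) (D.pow_mul_mem (i := 2) (j := 1) hj (D.mem_pow_one.2 (B.T.V_le hv)))
  intro w hw
  rw [show k + 2 = (k + 1) + 1 by ring, pow_succ] at hw
  have : D.J ^ (k + 1) * D.J ≤ LinearMap.ker (LinearMap.mulRight F v) := by
    rw [Submodule.mul_le]
    intro m hm n hn
    rw [LinearMap.mem_ker, LinearMap.mulRight_apply, mul_assoc]
    exact B.zero (by omega) (D.pow_mul_mem (i := k + 1) (j := 3) hm (hJ n hn))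
  exact this hw

end Dat

end H79.SymLoc
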