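import Mathlib
import Cfsg.Agent.Lib.H79.SymLocThreeB

/-! Symmetric local algebras with three generators: the regular case. -/

set_option autoImplicit false
set_option linter.unusedSectionVars false
set_option linter.unusedVariables false
set_option linter.style.haveILetI false

namespace H79.SymLoc

open Submodule Module

universe u v w

variable {F : Type u} [Field F] {A : Type v} [Ring A] [Algebra F A]

namespace Dat

variable {D : Dat F A} {x y z : A} [FiniteDimensional F A] {k : ℕ}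

theorem Three.finrank_V (T : D.Three x y z) : finrank F (span F {x, y, z}) = 3 := by
  have h4 : LinearIndependent F ![x, y, z] := by
    rw [Fintype.linearIndependent_iff]
    intro g hg
    rw [Fin.sum_univ_three] at hg
    have h1 := T.ind (g 0) (g 1) (g 2) (by
      have : g 0 • x + g 1 • y + g 2 • z = 0 := hg
      rw [this]; exact zero_mem _)
    intro i
    fin_cases i
    · exact h1.1
    · exact h1.2.1
    · exact h1.2.2
  have h5 := finrank_span_eq_card h4
  rw [Matrix.range_cons, Matrix.range_cons, Matrix.range_cons, Matrix.range_empty, Set.union_empty,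
    Set.singleton_union, Set.singleton_union, Fintype.card_fin] at h5
  exact h5

theorem Big.regular [IsAlgClosed F] (B : D.Big x y z k) {a : A} (ha : a ∈ span F {x, y, z})
    (hreg : ∀ w ∈ D.J ^ 2, ∃ v ∈ span F {x, y, z}, w - a * v ∈ D.J ^ 3) : False := by
  classical
  set V : Submodule F A := span F {x, y, z} with hVd
  have hVJ : V ≤ D.J := B.T.V_le
  have hfV : finrank F V = 3 := B.T.finrank_V
  have ha1 : a ∈ D.J ^ 1 := D.mem_pow_one.2 (hVJ ha)
  have hk := B.hk
  -- right multiplication is injective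
  have hrinj : ∀ v ∈ V, v * a ∈ D.J ^ 3 → v = 0 := by
    intro v hv hva
    apply B.T.V_inf hv
    apply B.st
    apply D.mem_perp_of_mul
    intro w hw
    rw [show k + 2 = 2 + k by ring, pow_add] at hw
    have : D.J ^ 2 * D.J ^ k ≤ LinearMap.ker (LinearMap.mulLeft F v) := by
      rw [Submodule.mul_le]
      intro m hm n hn
      rw [LinearMap.mem_ker, LinearMap.mulLeft_apply]
      obtain ⟨v', hv', hm'⟩ := hreg m hm
      have h1 : v * (m * n) = (v * a) * (v' * n) + v * ((m - a * v') * n) := by noncomm_ring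
      rw [h1]
      have h2 : (v * a) * (v' * n) = 0 := B.zero (i := 3 + (1 + k)) (by omega)
        (D.pow_mul_mem hva (D.pow_mul_mem (D.mem_pow_one.2 (hVJ hv')) hn))
      have h3 : v * ((m - a * v') * n) = 0 := B.zero (i := 1 + (3 + k)) (by omega)
        (D.pow_mul_mem (D.mem_pow_one.2 (hVJ hv)) (D.pow_mul_mem hm' hn))
      rw [h2, h3, add_zero]
    exact this hw
  set μ := D.mu V hVJ with hμ
  set a' : V := ⟨a, ha⟩ with ha'
  -- dimensions
  have hri : Function.Injective (μ.flip a') := by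
    rw [← LinearMap.ker_eq_bot, LinearMap.ker_eq_bot']
    intro v hv
    rw [LinearMap.flip_apply, hμ, mu_eq_zero] at hv
    exact Subtype.ext (hrinj v v.2 hv)
  have hfin : finrank F D.Q2 = 3 := by
    have h1 := LinearMap.finrank_le_finrank_of_injective hri
    have h2 := B.fin_le
    omega
  have hls : Function.Surjective (μ a') := by
    intro q
    obtain ⟨u, hu, rfl⟩ := toQ_surj q
    obtain ⟨v, hv, huv⟩ := hreg u hu
    refine ⟨⟨v, hv⟩, ?_⟩
    rw [hμ, mu_apply, toQ_eq]
    have := neg_mem huv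
    rwa [neg_sub] at this
  have hli : Function.Injective (μ a') :=
    (LinearMap.injective_iff_surjective_of_finrank_eq_finrank (by rw [hfV, hfin])).2 hls
  have hrs : Function.Surjective (μ.flip a') :=
    (LinearMap.injective_iff_surjective_of_finrank_eq_finrank (by rw [hfV, hfin])).1 hri
  set e : V ≃ₗ[F] D.Q2 := LinearEquiv.ofBijective (μ a') ⟨hli, hls⟩ with he
  -- the product
  set ψ : V →ₗ[F] V →ₗ[F] V := μ.compr₂ e.symm.toLinearMap with hψ
  have hψ1 : ∀ b c : V, a * (ψ b c : A) - b * c ∈ D.J ^ 3 := by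
    intro b c
    have h1 : e (ψ b c) = μ b c := e.apply_symm_apply _
    have h2 : μ a' (ψ b c) = μ b c := h1
    rw [hμ, mu_apply, mu_apply, toQ_eq] at h2
    exact h2
  have hψa : ∀ c, ψ a' c = c := fun c => e.symm_apply_apply c
  -- right step
  have hstep : ∀ i, 1 ≤ i → D.J ^ (i + 1) ≤ (D.J ^ i).map (LinearMap.mulRight F a) ⊔ D.J ^ (i + 2) := by
    intro i hi
    obtain ⟨i, rfl⟩ := Nat.exists_eq_add_of_le' hi
    rw [show i + 1 + 1 = i + 2 by ring, pow_add D.J i 2, Submodule.mul_le]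
    intro m hm n hn
    obtain ⟨v, hv⟩ := hrs (D.toQ ⟨n, hn⟩)
    rw [LinearMap.flip_apply, hμ, mu_apply, toQ_eq] at hv
    have h1 : m * n = m * (v : A) * a - m * ((v : A) * (a' : A) - n) := by
      rw [ha', mul_sub, ← mul_assoc]; abel
    rw [h1]
    refine sub_mem (Submodule.mem_sup_left ?_) (Submodule.mem_sup_right ?_)
    · refine Submodule.mem_map.2 ⟨m * v, ?_, rfl⟩
      exact D.pow_mul_mem hm (D.mem_pow_one.2 (hVJ v.2))
    · exact D.pow_mul_mem (i := i) (j := 3) hm hv
  -- injectivity of `a a ·`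
  have hinj2 : ∀ v ∈ V, a * (a * v) ∈ D.J ^ 4 → v = 0 := by
    intro v hv hav
    apply B.T.V_inf hv
    apply B.st
    apply D.mem_perp_of_mul'
    intro w hw
    obtain ⟨w1, hw1, w2, hw2, rfl⟩ := Submodule.mem_sup.1 (hstep (k + 1) (by omega) hw)
    obtain ⟨u1, hu1, rfl⟩ := Submodule.mem_map.1 hw1
    obtain ⟨t1, ht1, t2, ht2, rfl⟩ := Submodule.mem_sup.1 (hstep k hk hu1)
    obtain ⟨s1, hs1, rfl⟩ := Submodule.mem_map.1 ht1
    rw [LinearMap.mulRight_apply, LinearMap.mulRight_apply]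
    have h1 : ((s1 * a + t2) * a + w2) * v = s1 * (a * (a * v)) + t2 * (a * v) + w2 * v := by
      noncomm_ring
    rw [h1]
    have h2 : s1 * (a * (a * v)) = 0 := B.zero (i := k + 4) le_rfl (D.pow_mul_mem hs1 hav)
    have h3 : t2 * (a * v) = 0 := B.zero (i := (k + 2) + (1 + 1)) (by omega)
      (D.pow_mul_mem ht2 (D.pow_mul_mem ha1 (D.mem_pow_one.2 (hVJ hv))))
    have h4 : w2 * v = 0 := B.zero (i := (k + 3) + 1) (by omega)
      (D.pow_mul_mem hw2 (D.mem_pow_one.2 (hVJ hv)))
    rw [h2, h3, h4]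
    simp
  have mV : ∀ v : V, (v : A) ∈ D.J ^ 1 := fun v => D.mem_pow_one.2 (hVJ v.2)
  -- associativity
  have hprod : ∀ b c d : V, a * (a * (ψ (ψ b c) d : A)) - (b : A) * c * d ∈ D.J ^ 4 := by
    intro b c d
    have h1 := D.pow_mul_mem (i := 1) (j := 3) ha1 (hψ1 (ψ b c) d)
    have h2 := D.pow_mul_mem (i := 3) (j := 1) (hψ1 b c) (mV d)
    have h3 := add_mem h1 h2
    have h4 : a * (a * (ψ (ψ b c) d : A) - (ψ b c : A) * d) + (a * (ψ b c : A) - b * c) * d =
      a * (a * (ψ (ψ b c) d : A)) - (b : A) * c * d := by noncomm_ring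
    rwa [h4] at h3
  have hprod' : ∀ b c d : V, a * (a * (ψ (ψ b a') (ψ c d) : A)) - (b : A) * (c * d) ∈ D.J ^ 4 := by
    intro b c d
    have h1 := D.pow_mul_mem (i := 1) (j := 3) ha1 (hψ1 (ψ b a') (ψ c d))
    have h2 := D.pow_mul_mem (i := 3) (j := 1) (hψ1 b a') (mV (ψ c d))
    have h3 := D.pow_mul_mem (i := 1) (j := 3) (mV b) (hψ1 c d)
    have h4 := add_mem (add_mem h1 h2) h3
    have h5 : a * (a * (ψ (ψ b a') (ψ c d) : A) - (ψ b a' : A) * (ψ c d : A)) +
      (a * (ψ b a' : A) - b * (a' : A)) * (ψ c d : A) + (b : A) * (a * (ψ c d : A) - c * d) =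
      a * (a * (ψ (ψ b a') (ψ c d) : A)) - (b : A) * (c * d) := by
      have : (a' : A) = a := rfl
      rw [this]
      noncomm_ring
    rwa [h5] at h4
  have assoc : ∀ b c d : V, ψ (ψ b c) d = ψ (ψ b a') (ψ c d) := by
    intro b c d
    rw [← sub_eq_zero]
    apply Subtype.ext
    apply hinj2 _ (Subtype.mem _)
    have h1 := sub_mem (hprod b c d) (hprod' b c d)
    have h2 : a * (a * (ψ (ψ b c) d : A)) - (b : A) * c * d -
      (a * (a * (ψ (ψ b a') (ψ c d) : A)) - (b : A) * (c * d)) =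
      a * (a * ((ψ (ψ b c) d - ψ (ψ b a') (ψ c d) : V) : A)) := by
      push_cast
      noncomm_ring
    rwa [h2] at h1
  have hφ : Function.Bijective (fun b => ψ b a') := by
    have h1 : Function.Injective (ψ.flip a') := by
      intro b c hbc
      apply hri
      exact e.symm.injective hbc
    exact ⟨h1, (LinearMap.injective_iff_surjective).1 h1⟩
  refine H79.SymLocE.contra hfV ψ a' hψa hφ assoc ?_ ?_
  · intro f hf
    -- `f ∘ e.symm` kills `J²/J³`
    have h1 : ∀ q, f (e.symm q) = 0 := by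
      intro q
      obtain ⟨u, hu, rfl⟩ := toQ_surj q
      have h2 : D.J ^ 2 ≤ ((LinearMap.ker (f ∘ₗ e.symm.toLinearMap ∘ₗ D.toQ)).map
          (D.J ^ 2).subtype) := by
        refine B.J2_br.trans (sup_le ?_ ?_)
        · rw [Submodule.map₂_le]
          intro b hb c hc
          refine Submodule.mem_map.2 ⟨⟨br F A b c, ?_⟩, ?_, rfl⟩
          · rw [br_apply]; exact sub_mem (D.m2 (hVJ hb) (hVJ hc)) (D.m2 (hVJ hc) (hVJ hb))
          · rw [LinearMap.mem_ker]
            have h3 := hf ⟨b, hb⟩ ⟨c, hc⟩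
            rw [← sub_eq_zero, ← map_sub] at h3
            have h4 : ψ ⟨b, hb⟩ ⟨c, hc⟩ - ψ ⟨c, hc⟩ ⟨b, hb⟩ = e.symm (D.toQ ⟨br F A b c, by
                rw [br_apply]
                exact sub_mem (D.m2 (hVJ hb) (hVJ hc)) (D.m2 (hVJ hc) (hVJ hb))⟩) := by
              rw [hψ, LinearMap.compr₂_apply, LinearMap.compr₂_apply, ← map_sub]
              congr 1
            rw [h4] at h3
            exact h3
        · intro j hj
          refine Submodule.mem_map.2 ⟨⟨j, D.pow_le (by norm_num) (by norm_num) hj⟩, ?_, rfl⟩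
          rw [LinearMap.mem_ker]
          have : D.toQ ⟨j, D.pow_le (by norm_num) (by norm_num) hj⟩ = 0 := toQ_eq_zero.2 hj
          rw [LinearMap.comp_apply, LinearMap.comp_apply, this, map_zero, map_zero]
      obtain ⟨u', hu', huu⟩ := Submodule.mem_map.1 (h2 hu)
      have h5 : u' = ⟨u, hu⟩ := Subtype.ext huu
      rw [h5] at hu'
      exact hu'
    ext v
    rw [LinearMap.zero_apply, ← h1 (e v), e.symm_apply_apply]
  · intro f hf
    set T : Submodule F A := (((LinearMap.ker f).map V.subtype).map (LinearMap.mulLeft F (a * a))) ⊔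
      D.J ^ 4 with hT
    have h4T : D.J ^ 4 ≤ T := le_sup_right
    have h3T : D.J ^ 3 ≤ T := by
      refine (B.J3_le hfin).trans (sup_le ?_ h4T)
      rw [Submodule.map₂_le]
      intro b hb w hw
      obtain ⟨v, hv, hwv⟩ := hreg w hw
      -- `[b, w] = a a (ψ(ψ b a) v - ψ v b)`
      have e1 := hprod' ⟨b, hb⟩ a' ⟨v, hv⟩
      rw [hψa] at e1
      have e2 := hprod a' ⟨v, hv⟩ ⟨b, hb⟩
      rw [hψa] at e2
      have e3 : b * (w - a * v) - (w - a * v) * b ∈ D.J ^ 4 := sub_mem
        (D.pow_mul_mem (i := 1) (j := 3) (mV ⟨b, hb⟩) hwv)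
        (D.pow_mul_mem (i := 3) (j := 1) hwv (mV ⟨b, hb⟩))
      have e4 : f (ψ (ψ ⟨b, hb⟩ a') ⟨v, hv⟩ - ψ ⟨v, hv⟩ ⟨b, hb⟩) = 0 := by
        rw [map_sub, hf, sub_self]
      set r : V := ψ (ψ ⟨b, hb⟩ a') ⟨v, hv⟩ - ψ ⟨v, hv⟩ ⟨b, hb⟩ with hr
      have e5 : br F A b w = (a * a) * (r : A) +
          (b * (w - a * v) - (w - a * v) * b -
            (a * (a * (ψ (ψ ⟨b, hb⟩ a') ⟨v, hv⟩ : A)) - b * (a * v)) +
            (a * (a * (ψ ⟨v, hv⟩ ⟨b, hb⟩ : A)) - a * v * b)) := by
        rw [br_apply, hr]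
        push_cast
        noncomm_ring
      rw [e5]
      refine add_mem (Submodule.mem_sup_left ?_) (h4T (add_mem (sub_mem e3 e1) e2))
      refine Submodule.mem_map.2 ⟨(r : A), Submodule.mem_map.2 ⟨r, e4, rfl⟩, rfl⟩
    ext v
    have h5 : a * (a * (v : A)) ∈ D.J ^ 3 :=
      D.pow_mul_mem (i := 1) (j := 2) ha1 (D.pow_mul_mem (i := 1) (j := 1) ha1 (mV v))
    obtain ⟨t, ht, j, hj, htj⟩ := Submodule.mem_sup.1 (h3T h5)
    obtain ⟨s, hs, rfl⟩ := Submodule.mem_map.1 ht
    obtain ⟨v', hv', rfl⟩ := Submodule.mem_map.1 hs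
    have h6 : a * (a * ((v - v' : V) : A)) = j := by
      rw [LinearMap.mulLeft_apply, Submodule.subtype_apply] at htj
      push_cast
      have : a * (a * ((v : A) - v')) = a * (a * v) - a * a * v' := by noncomm_ring
      rw [this, ← htj, add_sub_cancel_left]
    have h7 := hinj2 _ (Subtype.mem (v - v')) (by rw [h6]; exact hj)
    have h8 : v - v' = 0 := Subtype.ext h7
    rw [sub_eq_zero] at h8
    rw [h8, LinearMap.zero_apply]
    exact hv'

end Dat

end H79.SymLoc
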