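import Mathlib
import Cfsg.Agent.Lib.H79.SymLocThreeC

/-! Symmetric local algebras with three generators: the singular case and the conclusion. -/

set_option autoImplicit false
set_option linter.unusedSectionVars false
set_option linter.unusedVariables false
set_option linter.style.haveILetI false

namespace H79.SymLoc

open Submodule Module

universe u v w

variable {F : Type u} [Field F] {A : Type v} [Ring A] [Algebra F A]

theorem sup_singleton_eq_top {M : Type v} [AddCommGroup M] [Module F M] [FiniteDimensional F M]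
    {X : Submodule F M} (hX : finrank F X + 1 = finrank F M) {v : M} (hv : v ∉ X) :
    X ⊔ span F {v} = ⊤ := by
  have h1 : X < X ⊔ span F {v} := by
    refine lt_of_le_of_ne le_sup_left ?_
    intro h
    apply hv
    rw [h]
    exact Submodule.mem_sup_right (Submodule.mem_span_singleton_self _)
  have h2 := Submodule.finrank_lt_finrank_of_lt h1
  have h3 := Submodule.finrank_le (X ⊔ span F {v})
  exact Submodule.eq_top_of_finrank_eq (by omega)

namespace Dat

variable {D : Dat F A} {x y z : A} [FiniteDimensional F A] {k : ℕ}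

/-- no pair of independent elements `b, b'` with `V b, V b' ≤ F p + J³`. -/
theorem Big.nA (B : D.Big x y z k) (h3 : finrank F D.Q2 = 3) {b b' p : A}
    (hb : b ∈ span F {x, y, z}) (hb' : b' ∈ span F {x, y, z}) (hp : p ∈ D.J ^ 2)
    (hind : ∀ s t : F, s • b + t • b' = 0 → s = 0 ∧ t = 0)
    (h1 : ∀ v ∈ span F {x, y, z}, v * b ∈ span F {p} ⊔ D.J ^ 3)
    (h2 : ∀ v ∈ span F {x, y, z}, v * b' ∈ span F {p} ⊔ D.J ^ 3) : False := by
  classical
  set V : Submodule F A := span F {x, y, z} with hVd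
  have hVJ : V ≤ D.J := B.T.V_le
  have hcomm := B.comm h3 hb hb' hind
  have hp3 : p ∉ D.J ^ 3 := by
    intro hp3
    apply hcomm
    have e : span F {p} ⊔ D.J ^ 3 = D.J ^ 3 :=
      sup_eq_right.2 ((Submodule.span_singleton_le_iff_mem _ _).2 hp3)
    rw [e] at h1 h2
    exact sub_mem (h2 b hb) (h1 b' hb')
  obtain ⟨θ, hθp, hθ⟩ := exists_fun hp3
  set V' : Submodule F A := span F {b, b'} with hV'
  have hV'V : V' ≤ V := by
    rw [hV', Submodule.span_le]
    rintro t (rfl | rfl) <;> assumption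
  have hV'J : V' ≤ D.J := hV'V.trans hVJ
  have hprod : ∀ v ∈ V, ∀ w ∈ V', v * w - θ (v * w) • p ∈ D.J ^ 3 := by
    intro v hv w hw
    have h4 : v * w ∈ span F {p} ⊔ D.J ^ 3 := by
      obtain ⟨s, t, rfl⟩ := Submodule.mem_span_pair.1 hw
      rw [mul_add, mul_smul_comm, mul_smul_comm]
      exact add_mem (Submodule.smul_mem _ _ (h1 v hv)) (Submodule.smul_mem _ _ (h2 v hv))
    obtain ⟨a, ha, j, hj, hvw⟩ := Submodule.mem_sup.1 h4
    obtain ⟨t, rfl⟩ := Submodule.mem_span_singleton.1 ha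
    rw [← hvw, map_add, map_smul, hθp, hθ j hj, add_zero, smul_eq_mul, mul_one,
      add_sub_cancel_left]
    exact hj
  have mJ : ∀ {v}, v ∈ V → v ∈ D.J ^ 1 := fun hv => D.mem_pow_one.2 (hVJ hv)
  -- the relation for `c ∈ V`, `d e ∈ V'`
  have hrel : ∀ c ∈ V, ∀ d ∈ V', ∀ e ∈ V', θ (c * d) • (p * e) - θ (d * e) • (c * p) ∈ D.J ^ 4 := by
    intro c hc d hd e he
    have e1 := D.pow_mul_mem (i := 3) (j := 1) (hprod c hc d hd) (mJ (hV'V he))
    have e2 := D.pow_mul_mem (i := 1) (j := 3) (mJ hc) (hprod d (hV'V hd) e he)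
    have e3 := sub_mem e2 e1
    have e4 : c * (d * e - θ (d * e) • p) - (c * d - θ (c * d) • p) * e =
      θ (c * d) • (p * e) - θ (d * e) • (c * p) := by
      rw [sub_mul, mul_sub, smul_mul_assoc, mul_smul_comm, mul_assoc]
      abel
    rwa [e4] at e3
  set β : V' →ₗ[F] V' →ₗ[F] F :=
    ((LinearMap.mul F A).compr₂ θ).domRestrict₁₂ V' V' with hβ
  set f : V' →ₗ[F] A ⧸ (D.J ^ 4) := (D.J ^ 4).mkQ ∘ₗ LinearMap.mulLeft F p ∘ₗ V'.subtype with hf
  set f' : V' →ₗ[F] A ⧸ (D.J ^ 4) := (D.J ^ 4).mkQ ∘ₗ LinearMap.mulRight F p ∘ₗ V'.subtype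
    with hf'
  have hbV' : b ∈ V' := Submodule.subset_span (by simp)
  have hbV'' : b' ∈ V' := Submodule.subset_span (by simp)
  have hne : θ (b * b') ≠ θ (b' * b) := by
    intro h
    apply hcomm
    have e1 := sub_mem (hprod b hb b' hbV'') (hprod b' hb' b hbV')
    rw [h] at e1
    have e2 : b * b' - θ (b' * b) • p - (b' * b - θ (b' * b) • p) = b * b' - b' * b := by abel
    rwa [e2] at e1
  have hf0 := rank_one_symm β f f' (by
    intro c d e
    have e2 := (Submodule.Quotient.eq (D.J ^ 4)).2 (hrel c (hV'V c.2) d d.2 e e.2)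
    exact e2) ⟨⟨b, hbV'⟩, ⟨b', hbV''⟩, hne⟩
  have hpe : ∀ e ∈ V', p * e ∈ D.J ^ 4 := by
    intro e he
    have := LinearMap.congr_fun hf0 ⟨e, he⟩
    exact (Submodule.Quotient.mk_eq_zero (D.J ^ 4)).1 this
  -- `V p ≤ J⁴`
  obtain ⟨d, hd, e, he, hde⟩ : ∃ d ∈ V', ∃ e ∈ V', θ (d * e) ≠ 0 := by
    by_cases h0 : θ (b * b') = 0
    · exact ⟨b', hbV'', b, hbV', fun h => hne (by rw [h0, h])⟩
    · exact ⟨b, hbV', b', hbV'', h0⟩
  have hVp : ∀ c ∈ V, c * p ∈ D.J ^ 4 := by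
    intro c hc
    have e1 := hrel c hc d hd e he
    exact mem_of_smul hde ((Submodule.sub_mem_iff_right _
      (Submodule.smul_mem _ _ (hpe e he))).1 e1)
  have hJp : ∀ c ∈ D.J, c * p ∈ D.J ^ 4 := by
    intro c hc
    obtain ⟨u, hu, j, hj, rfl⟩ := B.T.J_dec hc
    rw [add_mul]
    exact add_mem (hVp u hu) (D.pow_mul_mem (i := 2) (j := 2) hj hp)
  -- conclusion
  have hb0 : b ≠ 0 := by
    rintro rfl
    have := hind 1 0 (by simp)
    exact one_ne_zero this.1
  apply hb0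
  apply B.T.V_inf hb
  apply B.st
  apply D.mem_perp_of_mul'
  have hJb : ∀ g ∈ D.J, ∃ t : F, g * b - t • p ∈ D.J ^ 3 := by
    intro g hg
    obtain ⟨u, hu, j, hj, rfl⟩ := B.T.J_dec hg
    refine ⟨θ (u * b), ?_⟩
    have : (u + j) * b - θ (u * b) • p = (u * b - θ (u * b) • p) + j * b := by
      rw [add_mul]; abel
    rw [this]
    exact add_mem (hprod u hu b hbV') (D.pow_mul_mem (i := 2) (j := 1) hj (mJ hb))
  intro w hw
  rw [show k + 2 = (k + 1) + 1 by ring, pow_succ] at hw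
  have hle : D.J ^ (k + 1) * D.J ≤ LinearMap.ker (LinearMap.mulRight F b) := by
    rw [Submodule.mul_le]
    intro m hm n hn
    rw [LinearMap.mem_ker, LinearMap.mulRight_apply, mul_assoc]
    obtain ⟨t, ht⟩ := hJb n hn
    have h4 : m * (n * b) = m * (n * b - t • p) + t • (m * p) := by
      rw [mul_sub, mul_smul_comm]; abel
    have h5 : m * (n * b - t • p) = 0 := B.zero (i := (k + 1) + 3) (by omega) (D.pow_mul_mem hm ht)
    have h6 : m * p = 0 := by
      rw [pow_succ] at hm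
      have h7 : D.J ^ k * D.J ≤ LinearMap.ker (LinearMap.mulRight F p) := by
        rw [Submodule.mul_le]
        intro m' hm' n' hn'
        rw [LinearMap.mem_ker, LinearMap.mulRight_apply, mul_assoc]
        exact B.zero (i := k + 4) le_rfl (D.pow_mul_mem hm' (hJp n' hn'))
      exact h7 hm
    rw [h4, h5, h6, smul_zero, add_zero]
  exact hle hw

theorem Big.false [IsAlgClosed F] (B : D.Big x y z k) : False := by
  classical
  set V : Submodule F A := span F {x, y, z} with hVd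
  have hVJ : V ≤ D.J := B.T.V_le
  have hfV : finrank F V = 3 := B.T.finrank_V
  have hk := B.hk
  have mJ : ∀ {v}, v ∈ V → v ∈ D.J ^ 1 := fun hv => D.mem_pow_one.2 (hVJ hv)
  set μ := D.mu V hVJ with hμ
  haveI : Infinite F := IsAlgClosed.instInfinite
  -- the singular case
  have H3 : ∀ v, LinearMap.range (μ v) ≠ ⊤ := by
    intro v hv
    refine B.regular v.2 ?_
    intro w hw
    rw [LinearMap.range_eq_top] at hv
    obtain ⟨u, hu⟩ := hv (D.toQ ⟨w, hw⟩)
    refine ⟨u, u.2, ?_⟩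
    rw [hμ, mu_apply, toQ_eq] at hu
    have := neg_mem hu
    rwa [neg_sub] at this
  have H1 : ∀ v : V, v ≠ 0 → ∃ b, μ v b ≠ 0 := by
    intro v hv
    by_contra hcon
    push Not at hcon
    apply hv
    apply Subtype.ext
    refine B.H1 v.2 fun b hb => ?_
    exact mu_eq_zero.1 (hcon ⟨b, hb⟩)
  have H2 : ∀ v : V, v ≠ 0 → ∃ b, μ b v ≠ 0 := by
    intro v hv
    by_contra hcon
    push Not at hcon
    apply hv
    apply Subtype.ext
    refine B.H2 v.2 fun b hb => ?_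
    exact mu_eq_zero.1 (hcon ⟨b, hb⟩)
  have hgen : ∀ W : Submodule F D.Q2, (∀ v b, μ v b ∈ W) → W = ⊤ := by
    intro W hW
    rw [eq_top_iff]
    intro q _
    obtain ⟨u, hu, rfl⟩ := toQ_surj q
    have h2 : D.J ^ 2 ≤ ((W.comap D.toQ).map (D.J ^ 2).subtype) := by
      refine B.J2_br.trans (sup_le ?_ ?_)
      · rw [Submodule.map₂_le]
        intro b hb c hc
        refine Submodule.mem_map.2 ⟨⟨br F A b c, ?_⟩, ?_, rfl⟩
        · rw [br_apply]; exact sub_mem (D.m2 (hVJ hb) (hVJ hc)) (D.m2 (hVJ hc) (hVJ hb))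
        · exact sub_mem (hW ⟨b, hb⟩ ⟨c, hc⟩) (hW ⟨c, hc⟩ ⟨b, hb⟩)
      · intro j hj
        refine Submodule.mem_map.2 ⟨⟨j, D.pow_le (by norm_num) (by norm_num) hj⟩, ?_, rfl⟩
        have : D.toQ ⟨j, D.pow_le (by norm_num) (by norm_num) hj⟩ = 0 := toQ_eq_zero.2 hj
        rw [Submodule.mem_comap, this]
        exact zero_mem _
    obtain ⟨u', hu', huu⟩ := Submodule.mem_map.1 (h2 hu)
    have h5 : u' = ⟨u, hu⟩ := Subtype.ext huu
    rw [h5] at hu'
    exact hu'
  have H4 : ∀ f : D.Q2 →ₗ[F] F, (∀ v b, f (μ v b) = 0) → f = 0 := by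
    intro f hf
    have := hgen (LinearMap.ker f) hf
    exact LinearMap.ker_eq_top.1 this
  have H5 : ∀ p : D.Q2, ∃ v b, μ v b ∉ span F {p} := by
    intro p
    by_contra hcon
    push Not at hcon
    have htop := hgen _ hcon
    -- a nonzero commutator
    obtain ⟨b, hb, c, hc, hbc⟩ : ∃ b ∈ V, ∃ c ∈ V, b * c - c * b ∉ D.J ^ 3 := by
      by_contra hcon2
      push Not at hcon2
      apply D.J3_ne B.hK
      apply D.pow_eq_bot (i := 2) (by norm_num)
      apply D.eq_bot_of_le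
      refine B.J2_br.trans (sup_le ?_ le_rfl)
      rw [Submodule.map₂_le]
      exact hcon2
    apply D.J3_ne B.hK
    apply D.one_dim_comm (hVJ hb) (hVJ hc)
    have hm : b * c - c * b ∈ D.J ^ 2 := sub_mem (D.m2 (hVJ hb) (hVJ hc)) (D.m2 (hVJ hc) (hVJ hb))
    have hq : D.toQ ⟨b * c - c * b, hm⟩ ≠ 0 := fun h => hbc (toQ_eq_zero.1 h)
    intro u hu
    have h1 : D.toQ ⟨b * c - c * b, hm⟩ ∈ span F {p} := by rw [htop]; trivial
    have h2 : D.toQ ⟨u, hu⟩ ∈ span F {p} := by rw [htop]; trivial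
    obtain ⟨s, hs⟩ := Submodule.mem_span_singleton.1 h1
    obtain ⟨t, ht⟩ := Submodule.mem_span_singleton.1 h2
    have hs0 : s ≠ 0 := by
      rintro rfl
      rw [zero_smul] at hs
      exact hq hs.symm
    have h3 : D.toQ ⟨u, hu⟩ = D.toQ ⟨(t * s⁻¹) • (b * c - c * b), Submodule.smul_mem _ _ hm⟩ := by
      have h4 : D.toQ ⟨(t * s⁻¹) • (b * c - c * b), Submodule.smul_mem _ _ hm⟩ =
        (t * s⁻¹) • D.toQ ⟨b * c - c * b, hm⟩ := by rw [← map_smul]; rfl
      rw [h4, ← hs, ← ht, smul_smul, mul_assoc, inv_mul_cancel₀ hs0, mul_one]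
    rw [toQ_eq] at h3
    have h5 : u = (t * s⁻¹) • (b * c - c * b) + (u - (t * s⁻¹) • (b * c - c * b)) := by abel
    rw [h5]
    exact Submodule.add_mem_sup (Submodule.smul_mem _ _ (Submodule.mem_span_singleton_self _)) h3
  obtain ⟨hfin, a0, ha0⟩ := H79.SymLocE.rank_two hfV B.fin_le μ H1 H2 H3 H5
  have nA : ∀ (b b' : V) (p : D.Q2), (∀ s t : F, s • b + t • b' = 0 → s = 0 ∧ t = 0) →
      (∀ v, μ v b ∈ span F {p}) → (∀ v, μ v b' ∈ span F {p}) → False := by
    intro b b' p hind h1 h2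
    obtain ⟨p', hp', rfl⟩ := toQ_surj p
    have conv : ∀ c : V, (∀ v, μ v c ∈ span F {D.toQ ⟨p', hp'⟩}) →
        ∀ v ∈ V, v * (c : A) ∈ span F {p'} ⊔ D.J ^ 3 := by
      intro c hc v hv
      obtain ⟨t, ht⟩ := Submodule.mem_span_singleton.1 (hc ⟨v, hv⟩)
      have h4 : D.toQ ⟨t • p', Submodule.smul_mem _ _ hp'⟩ = t • D.toQ ⟨p', hp'⟩ := by
        rw [← map_smul]; rfl
      rw [← h4, hμ, mu_apply, toQ_eq] at ht
      have h5 : v * (c : A) = t • p' + -(t • p' - v * (c : A)) := by abel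
      rw [h5]
      exact Submodule.add_mem_sup (Submodule.smul_mem _ _ (Submodule.mem_span_singleton_self _))
        (neg_mem ht)
    refine B.nA hfin b.2 b'.2 hp' ?_ (conv b h1) (conv b' h2)
    intro s t hst
    apply hind
    exact Subtype.ext hst
  obtain ⟨-, -, -, -, -, -, hrk⟩ := H79.SymLocE.sing_local hfV hfin μ H2 H3 H4 nA a0 ha0
  have hrk2 : ∀ v, v ≠ 0 → finrank F (LinearMap.range (μ v)) = 2 := by
    intro v hv
    have h1 := hrk v hv
    have h2 : finrank F (LinearMap.range (μ v)) < finrank F D.Q2 := Submodule.finrank_lt (H3 v)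
    omega
  -- the partner
  have hpart : ∀ v : V, v ≠ 0 → ∃ b : V, b ≠ 0 ∧ (v : A) * b ∈ D.J ^ 3 ∧
      (∀ u : V, ∃ c : V, (u : A) * b - v * c ∈ D.J ^ 3) := by
    intro v hv
    obtain ⟨b, hb0, hb1, -, h2, -, -⟩ :=
      H79.SymLocE.sing_local hfV hfin μ H2 H3 H4 nA v (hrk2 v hv)
    refine ⟨b, hb0, mu_eq_zero.1 hb1, fun u => ?_⟩
    obtain ⟨c, hc⟩ := h2 u
    refine ⟨c, ?_⟩
    rw [hμ, mu_apply, mu_apply, toQ_eq] at hc
    have := neg_mem hc
    rwa [neg_sub] at this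
  let R : V → Submodule F A := fun v => (D.J ^ 2).map (LinearMap.mulLeft F (v : A)) ⊔ D.J ^ 4
  have hR4 : ∀ v, D.J ^ 4 ≤ R v := fun v => le_sup_right
  have hRm : ∀ (v : V) (w : A), w ∈ D.J ^ 2 → (v : A) * w ∈ R v := fun v w hw =>
    Submodule.mem_sup_left (Submodule.mem_map.2 ⟨w, hw, rfl⟩)
  -- one dimensional modulo `J⁴`
  have E1 : ∀ v : V, v ≠ 0 → ∃ ρ : A, R v ≤ span F {ρ} ⊔ D.J ^ 4 := by
    intro v hv
    obtain ⟨b, hb0, hvb, -⟩ := hpart v hv
    obtain ⟨q, hq⟩ : ∃ q, q ∉ LinearMap.range (μ b) := by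
      by_contra h
      push Not at h
      exact H3 b (eq_top_iff.2 fun x _ => h x)
    obtain ⟨ζ, hζ, rfl⟩ := toQ_surj q
    have htop := sup_singleton_eq_top (F := F) (X := LinearMap.range (μ b)) (by
      rw [hrk2 b hb0, hfin]) hq
    refine ⟨v * ζ, sup_le ?_ le_sup_right⟩
    rintro _ ⟨w, hw, rfl⟩
    rw [LinearMap.mulLeft_apply]
    have h1 : D.toQ ⟨w, hw⟩ ∈ LinearMap.range (μ b) ⊔ span F {D.toQ ⟨ζ, hζ⟩} := by
      rw [htop]; trivial
    obtain ⟨_, ⟨u, rfl⟩, s, hs, hus⟩ := Submodule.mem_sup.1 h1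
    obtain ⟨t, rfl⟩ := Submodule.mem_span_singleton.1 hs
    have h2 : (b : A) * u + t • ζ - w ∈ D.J ^ 3 := by
      have h3 : D.toQ ⟨(b : A) * u + t • ζ, add_mem (D.m2 (hVJ b.2) (hVJ u.2))
          (Submodule.smul_mem _ _ hζ)⟩ = D.toQ ⟨w, hw⟩ := by
        rw [← hus, hμ, mu_apply, ← map_smul, ← map_add]
        rfl
      exact (toQ_eq _ _).1 h3
    have h4 : (v : A) * w = t • ((v : A) * ζ) + ((v : A) * b * u -
        v * ((b : A) * u + t • ζ - w)) := by
      rw [mul_sub, mul_add, mul_smul_comm, ← mul_assoc]; abel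
    rw [h4]
    refine Submodule.add_mem_sup (Submodule.smul_mem _ _ (Submodule.mem_span_singleton_self _))
      (sub_mem ?_ ?_)
    · exact D.pow_mul_mem (i := 3) (j := 1) hvb (mJ u.2)
    · exact D.pow_mul_mem (i := 1) (j := 3) (mJ v.2) h2
  have L : ∀ u v : V, u ≠ 0 → ∀ r, r ∈ R u → r ∈ R v → r ∉ D.J ^ 4 → R u ≤ R v := by
    intro u v hu r hru hrv hr4
    obtain ⟨ρ, hρ⟩ := E1 u hu
    obtain ⟨a, ha, j, hj, haj⟩ := Submodule.mem_sup.1 (hρ hru)
    obtain ⟨t, rfl⟩ := Submodule.mem_span_singleton.1 ha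
    have ht : t ≠ 0 := by
      rintro rfl
      rw [zero_smul, zero_add] at haj
      exact hr4 (haj ▸ hj)
    refine hρ.trans (sup_le ?_ (hR4 v))
    rw [Submodule.span_singleton_le_iff_mem]
    apply mem_of_smul ht
    have : t • ρ = r - j := by rw [← haj, add_sub_cancel_right]
    rw [this]
    exact sub_mem hrv (hR4 v hj)
  have E2 : ∀ v b : V, (∀ u : V, ∃ c : V, (u : A) * b - v * c ∈ D.J ^ 3) →
      ∀ u w : V, (u : A) * b * w ∈ R v := by
    intro v b h u w
    obtain ⟨c, hc⟩ := h u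
    have h1 : (u : A) * b * w = v * (c * w) + (u * b - v * c) * w := by
      rw [sub_mul, mul_assoc (v : A)]; abel
    rw [h1]
    exact add_mem (hRm v _ (D.m2 (hVJ c.2) (hVJ w.2)))
      (hR4 v (D.pow_mul_mem (i := 3) (j := 1) hc (mJ w.2)))
  -- `V b V ≤ J⁴` is impossible
  have C : ∀ b : V, b ≠ 0 → (∀ u w : V, (u : A) * b * w ∈ D.J ^ 4) → False := by
    intro b hb0 h
    have hJ : ∀ g ∈ D.J, ∀ m ∈ D.J, g * b * m ∈ D.J ^ 4 := by
      intro g hg m hm
      obtain ⟨u, hu, j, hj, rfl⟩ := B.T.J_dec hg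
      obtain ⟨w, hw, i, hi, rfl⟩ := B.T.J_dec hm
      have h1 : (u + j) * b * (w + i) = u * b * w + (u * b) * i + (j * b) * (w + i) := by
        noncomm_ring
      rw [h1]
      refine add_mem (add_mem (h ⟨u, hu⟩ ⟨w, hw⟩) ?_) ?_
      · exact D.pow_mul_mem (i := 2) (j := 2) (D.m2 (hVJ hu) (hVJ b.2)) hi
      · exact D.pow_mul_mem (i := 3) (j := 1)
          (D.pow_mul_mem (i := 2) (j := 1) hj (mJ b.2)) (D.mem_pow_one.2 hm)
    apply hb0
    apply Subtype.ext
    apply B.T.V_inf b.2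
    apply B.st
    rw [D.mem_perp']
    intro w hw
    have h1 : D.J ^ (k + 2) ≤ LinearMap.ker (D.lam ∘ₗ LinearMap.mulLeft F (b : A)) := by
      rw [show k + 2 = (k + 1) + 1 by ring, pow_succ', pow_succ, Submodule.mul_le]
      intro g hg m hm
      rw [LinearMap.mem_ker, LinearMap.comp_apply, LinearMap.mulLeft_apply]
      have h2 : D.J ^ k * D.J ≤ LinearMap.ker (D.lam ∘ₗ LinearMap.mulLeft F ((b : A) * g)) := by
        rw [Submodule.mul_le]
        intro m' hm' n' hn'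
        rw [LinearMap.mem_ker, LinearMap.comp_apply, LinearMap.mulLeft_apply]
        have h3 : (b : A) * g * (m' * n') = ((b : A) * g * m') * n' := by noncomm_ring
        rw [h3, D.sym]
        have h4 : n' * ((b : A) * g * m') = (n' * b * g) * m' := by noncomm_ring
        rw [h4, B.zero (i := 4 + k) (by omega) (D.pow_mul_mem (hJ n' hn' g hg) hm'), map_zero]
      have h5 := h2 hm
      rw [LinearMap.mem_ker, LinearMap.comp_apply, LinearMap.mulLeft_apply, mul_assoc] at h5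
      exact h5
    exact h1 hw
  -- all `R v` are equal
  have M : ∀ u v : V, u ≠ 0 → v ≠ 0 → R u ≤ R v := by
    intro u v hu hv
    by_contra hne
    obtain ⟨b, hb0, -, hb⟩ := hpart u hu
    obtain ⟨b', hb0', -, hb'⟩ := hpart v hv
    have hcov : ∀ t : V, (∀ w : V, (t : A) * b * w ∈ D.J ^ 4) ∨
        (∀ w : V, (t : A) * b' * w ∈ D.J ^ 4) := by
      intro t
      by_contra hcon
      push Not at hcon
      obtain ⟨⟨w, hw⟩, ⟨w', hw'⟩⟩ := hcon
      have ht : t ≠ 0 := by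
        rintro rfl
        apply hw
        have : ((0 : V) : A) * b * w = 0 := by
          rw [ZeroMemClass.coe_zero, zero_mul, zero_mul]
        rw [this]; exact zero_mem _
      apply hne
      refine (L u t hu _ (E2 u b hb t w) ?_ hw).trans (L t v ht _ ?_ (E2 v b' hb' t w') hw')
      · rw [mul_assoc]; exact hRm t _ (D.m2 (hVJ b.2) (hVJ w.2))
      · rw [mul_assoc]; exact hRm t _ (D.m2 (hVJ b'.2) (hVJ w'.2))
    -- one of the two subspaces is everything
    by_cases h1 : ∀ t w : V, (t : A) * b * w ∈ D.J ^ 4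
    · exact C b hb0 h1
    by_cases h2 : ∀ t w : V, (t : A) * b' * w ∈ D.J ^ 4
    · exact C b' hb0' h2
    push Not at h1 h2
    obtain ⟨t1, w1, h1⟩ := h1
    obtain ⟨t2, w2, h2⟩ := h2
    have e1 : ∀ w : V, (t1 : A) * b' * w ∈ D.J ^ 4 :=
      (hcov t1).resolve_left (fun h => h1 (h w1))
    have e2 : ∀ w : V, (t2 : A) * b * w ∈ D.J ^ 4 :=
      (hcov t2).resolve_right (fun h => h2 (h w2))
    rcases hcov (t1 + t2) with h | h
    · apply h1
      have h3 := sub_mem (h w1) (e2 w1)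
      have h4 : ((t1 + t2 : V) : A) * b * w1 - (t2 : A) * b * w1 = t1 * b * w1 := by
        push_cast; noncomm_ring
      rwa [h4] at h3
    · apply h2
      have h3 := sub_mem (h w2) (e1 w2)
      have h4 : ((t1 + t2 : V) : A) * b' * w2 - (t1 : A) * b' * w2 = t2 * b' * w2 := by
        push_cast; noncomm_ring
      rwa [h4] at h3
  haveI : Nontrivial V := Module.nontrivial_of_finrank_pos (R := F) (by omega)
  obtain ⟨v0, hv0⟩ := exists_ne (0 : V)
  have N : D.J ^ 3 ≤ R v0 := by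
    rw [pow_succ' D.J 2, Submodule.mul_le]
    intro g hg w hw
    obtain ⟨u, hu, j, hj, rfl⟩ := B.T.J_dec hg
    rw [add_mul]
    refine add_mem ?_ (hR4 v0 (D.pow_mul_mem (i := 2) (j := 2) hj hw))
    by_cases hu0 : (⟨u, hu⟩ : V) = 0
    · have : u = 0 := congrArg Subtype.val hu0
      rw [this, zero_mul]; exact zero_mem _
    · exact M ⟨u, hu⟩ v0 hu0 hv0 (hRm ⟨u, hu⟩ w hw)
  apply B.J4
  apply D.eq_bot_of_le
  rw [pow_succ' D.J 3, Submodule.mul_le]
  intro g hg r hr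
  obtain ⟨u, hu, j, hj, rfl⟩ := B.T.J_dec hg
  rw [add_mul]
  refine add_mem ?_ (D.pow_mul_mem (i := 2) (j := 3) hj hr)
  by_cases hu0 : (⟨u, hu⟩ : V) = 0
  · have : u = 0 := congrArg Subtype.val hu0
    rw [this, zero_mul]; exact zero_mem _
  · obtain ⟨b, hb0, hub, -⟩ := hpart ⟨u, hu⟩ hu0
    obtain ⟨s, hs, j4, hj4, rfl⟩ := Submodule.mem_sup.1 (M v0 b hv0 hb0 (N hr))
    obtain ⟨w, hw, rfl⟩ := Submodule.mem_map.1 hs
    rw [LinearMap.mulLeft_apply, mul_add, ← mul_assoc]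
    exact add_mem (D.pow_mul_mem (i := 3) (j := 2) hub hw)
      (D.pow_mul_mem (i := 1) (j := 4) (mJ hu) hj4)

end Dat

end H79.SymLoc
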