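import Mathlib
import Cfsg.Agent.Lib.H79.SymLocThreeD

/-! Symmetric local algebras with five dimensional center are commutative or of dimension eight
(Chlebowitz, Külshammer). -/

set_option autoImplicit false
set_option linter.unusedSectionVars false
set_option linter.unusedVariables false
set_option linter.style.haveILetI false

namespace H79.SymLoc

open Submodule Module

universe u v w

variable {F : Type u} [Field F] {A : Type v} [Ring A] [Algebra F A]

namespace Dat

variable {D : Dat F A} [FiniteDimensional F A]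

theorem exists_two (hd : finrank F D.J = finrank F (D.J ^ 2 : Submodule F A) + 2) :
    ∃ x y, D.Two x y := by
  have h21 : D.J ^ 2 ≤ D.J := D.pow_le_J (by norm_num)
  have h1 : ¬ D.J ≤ D.J ^ 2 := by
    intro h
    have := Submodule.finrank_mono h
    omega
  obtain ⟨x, hx, hx'⟩ := SetLike.not_le_iff_exists.1 h1
  have e2 := finrank_sup_singleton hx'
  have h2 : ¬ D.J ≤ D.J ^ 2 ⊔ span F {x} := by
    intro h
    have := Submodule.finrank_mono h
    omega
  obtain ⟨y, hy, hy'⟩ := SetLike.not_le_iff_exists.1 h2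
  have e3 := finrank_sup_singleton hy'
  have hle : D.J ^ 2 ⊔ span F {x} ⊔ span F {y} ≤ D.J :=
    sup_le (sup_le h21 ((Submodule.span_singleton_le_iff_mem _ _).2 hx))
      ((Submodule.span_singleton_le_iff_mem _ _).2 hy)
  have heq := Submodule.eq_of_le_of_finrank_le hle (by omega)
  refine ⟨x, y, hx, hy, ?_, ?_⟩
  · apply le_antisymm
    · rw [← heq]
      refine sup_le (sup_le ?_ ?_) ?_
      · rw [heq]; exact le_sup_right
      · refine le_trans ?_ le_sup_left
        exact Submodule.span_mono (by simp)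
      · refine le_trans ?_ le_sup_left
        exact Submodule.span_mono (by simp)
    · refine sup_le ?_ h21
      rw [Submodule.span_le]
      rintro z (rfl | rfl) <;> assumption
  · intro b c hbc
    have hc : c = 0 := by
      by_contra hc
      apply hy'
      apply mem_of_smul hc
      have : c • y = (b • x + c • y) - b • x := by abel
      rw [this]
      exact sub_mem (Submodule.mem_sup_left hbc) (Submodule.mem_sup_right
          (Submodule.smul_mem _ _ (Submodule.mem_span_singleton_self _)))
    rw [hc, zero_smul, add_zero] at hbc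
    refine ⟨?_, hc⟩
    by_contra hb
    exact hx' (mem_of_smul hb hbc)

theorem main_three [IsAlgClosed F]
    (hd : finrank F D.J = finrank F (D.J ^ 2 : Submodule F A) + 3)
    (hZ : finrank F (Subalgebra.center F A) = 5) (hK : D.K ≠ ⊥) : finrank F A = 8 := by
  classical
  have hJ3 := D.J3_ne hK
  have hS3 : D.S ≤ D.J ^ 3 := D.S_le_pow (by norm_num) hJ3
  have hJne : ¬ D.J ≤ D.J ^ 2 := by
    intro h
    have := Submodule.finrank_mono h
    omega
  obtain ⟨v, hv, hv2⟩ := SetLike.not_le_iff_exists.1 hJne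
  obtain ⟨x, y, T⟩ := exists_three hd hv hv2
  -- `J⁴ = 0`
  have hJ4 : D.J ^ 4 = ⊥ := by
    by_contra h4
    have hex : ∃ n, D.J ^ n = ⊥ := D.nil
    set n := Nat.find hex with hn
    have hn0 : D.J ^ n = ⊥ := Nat.find_spec hex
    have hn5 : 5 ≤ n := by
      by_contra hlt
      exact h4 (D.pow_eq_bot (by omega) hn0)
    obtain ⟨k, hk⟩ : ∃ k, n = k + 4 := ⟨n - 4, by omega⟩
    have h1 : D.J ^ (k + 3) ≠ ⊥ := Nat.find_min hex (by omega)
    have h0 : D.J ^ (k + 4) = ⊥ := hk ▸ hn0
    exact Big.false (k := k) ⟨T, hK, J2_le_three hd hZ hK, by omega, h1, h0,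
      star hd hZ hK (by omega) h1 h0⟩
  have hJ3S := D.pow_le_S (i := 3) hJ4
  have d3 := Submodule.finrank_mono hJ3S
  rw [D.finrank_S] at d3
  have d0 := D.finrank_J
  have d2 : finrank F (D.J ^ 2 : Submodule F A) ≤ 3 + finrank F (D.J ^ 3 : Submodule F A) := by
    have h1 : D.J ^ 2 ≤ span F {v * x - x * v, v * y - y * v, x * y - y * x} ⊔ D.J ^ 3 :=
      (J2_le_three hd hZ hK).trans (sup_le T.K_le (hS3.trans le_sup_right))
    exact (Submodule.finrank_mono h1).trans
      ((Submodule.finrank_add_le_finrank_add_finrank _ _).trans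
      (Nat.add_le_add_right (finrank_span_le_triple _ _ _) _))
  have hZJ : D.ZJ ≤ D.J ^ 2 := by
    by_contra hne
    obtain ⟨w, hw, hw2⟩ := SetLike.not_le_iff_exists.1 hne
    obtain ⟨hw1, hwJ⟩ := D.mem_ZJ.1 hw
    obtain ⟨x', y', T'⟩ := exists_three hd hwJ hw2
    apply hJ3
    apply D.one_dim_comm T'.hy T'.hz
    refine (J2_le_three hd hZ hK).trans (sup_le (T'.K_le.trans (sup_le ?_ le_sup_right))
      (hS3.trans le_sup_right))
    rw [Submodule.span_le]
    rintro t (rfl | rfl | rfl)
    · rw [hw1 x', sub_self]; exact zero_mem _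
    · rw [hw1 y', sub_self]; exact zero_mem _
    · exact Submodule.mem_sup_left (Submodule.mem_span_singleton_self _)
  have d4 := Submodule.finrank_mono hZJ
  have d5 := D.finrank_ZJ hZ
  omega

end Dat

/-- a symmetric local algebra with five dimensional center is commutative or has dimension 8. -/
theorem main [IsAlgClosed F] [FiniteDimensional F A] (D : Dat F A)
    (hZ : finrank F (Subalgebra.center F A) = 5) :
    (∀ a b : A, a * b = b * a) ∨ finrank F A = 8 := by
  classical
  by_cases hK : D.K = ⊥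
  · exact Or.inl (D.K_eq_bot_iff.1 hK)
  right
  have d0 := D.finrank_J
  have h3 := D.finrank_K
  have h4 : D.K ⊓ D.S = ⊥ := by
    rw [eq_bot_iff]
    rintro z ⟨hz, hz'⟩
    exact D.K_inf_S hz hz'
  have h5 := Submodule.finrank_sup_add_finrank_inf_eq D.K D.S
  rw [h4, finrank_bot, D.finrank_S] at h5
  have h6 : D.J ^ 2 ≠ ⊥ := fun h => D.J3_ne hK (D.pow_eq_bot (by norm_num) h)
  have h7 : D.K ⊔ D.S ≤ D.J ^ 2 := sup_le D.K_le (D.S_le_pow (by norm_num) h6)
  have h8 := Submodule.finrank_mono h7
  have h21 : D.J ^ 2 ≤ D.J := D.pow_le_J (by norm_num)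
  have h9 := Submodule.finrank_mono h21
  have hcases : finrank F D.J = finrank F (D.J ^ 2 : Submodule F A) ∨
    finrank F D.J = finrank F (D.J ^ 2 : Submodule F A) + 1 ∨
    finrank F D.J = finrank F (D.J ^ 2 : Submodule F A) + 2 ∨
    finrank F D.J = finrank F (D.J ^ 2 : Submodule F A) + 3 := by omega
  rcases hcases with h | h | h | h
  · exfalso
    have h10 := Submodule.eq_of_le_of_finrank_le h21 h.le
    have h11 : D.J ^ 1 ≤ D.J ^ (1 + 1) := by rw [pow_one]; exact h10.ge
    exact h6 (D.pow_eq_bot (by norm_num) (D.eq_bot_of_le h11))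
  · exfalso
    have h1 : ¬ D.J ≤ D.J ^ 2 := by
      intro h'
      have := Submodule.finrank_mono h'
      omega
    obtain ⟨x, hx, hx'⟩ := SetLike.not_le_iff_exists.1 h1
    have e2 := finrank_sup_singleton hx'
    have hle : D.J ^ 2 ⊔ span F {x} ≤ D.J :=
      sup_le h21 ((Submodule.span_singleton_le_iff_mem _ _).2 hx)
    have heq := Submodule.eq_of_le_of_finrank_le hle (by omega)
    apply hK
    rw [D.K_eq_bot_iff]
    refine D.comm_of_gen (V := span F {x}) (by rw [sup_comm]; exact heq.symm) ?_
    intro a ha b hb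
    obtain ⟨s, rfl⟩ := Submodule.mem_span_singleton.1 ha
    obtain ⟨t, rfl⟩ := Submodule.mem_span_singleton.1 hb
    rw [smul_mul_smul_comm, smul_mul_smul_comm, mul_comm s t]
  · obtain ⟨x, y, T⟩ := Dat.exists_two h
    exact T.main hZ hK
  · exact Dat.main_three h hZ hK

end H79.SymLoc
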