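import Mathlib
import Cfsg.Agent.Lib.H20.PC
import Cfsg.Agent.Lib.H20.Orth
import Cfsg.Agent.Lib.H20.NPC
import Cfsg.Agent.Lib.H1.Cores
import Cfsg.Agent.Lib.H77.RegGen
import Cfsg.Agent.Lib.H19.HallNC
import Cfsg.Agent.Lib.H78.BlkCount

/-! Quotients by central `p`-subgroups: principal blocks, regular parts, integrality (S4588). -/

set_option autoImplicit false
set_option linter.unusedSectionVars false
set_option linter.unusedVariables false
set_option linter.style.haveILetI false
open Cfsg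

namespace H79.CentQ

open H20.Loc H20.GA H20.Blk H20.NormQ H20.Orth H20.NPC H18.CharBasic H18.CharOrtho H78.BlkCount
open scoped ComplexConjugate

universe u

variable {G : Type u} [Group G] [Finite G] {p : ℕ} {M : Ideal AlgInt}

theorem pRegularPart_eq (θ : G → ℂ) : pRegularPart p θ = reg p θ := by
  funext g
  by_cases h : p ∣ orderOf g
  · rw [reg_not h, pRegularPart, if_neg (fun h' => h' h)]
  · rw [reg_of h, pRegularPart]
    exact if_pos (show IsPRegular p g from h)

/-- pull back of functions on the quotient, restricted to the regular elements -/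
noncomputable def L (Q : Subgroup G) [Q.Normal] (p : ℕ) : (G ⧸ Q → ℂ) →ₗ[ℂ] (G → ℂ) where
  toFun F := reg p (fun g => F (g : G ⧸ Q))
  map_add' F F' := by
    funext g
    by_cases h : p ∣ orderOf g
    · simp [reg_not h]
    · simp [reg_of h]
  map_smul' c F := by
    funext g
    by_cases h : p ∣ orderOf g
    · simp [reg_not h]
    · simp [reg_of h]

theorem L_apply (Q : Subgroup G) [Q.Normal] (F : G ⧸ Q → ℂ) :
    L Q p F = reg p (fun g : G => F (g : G ⧸ Q)) := rfl

theorem L_reg (Q : Subgroup G) [Q.Normal] (F : G ⧸ Q → ℂ) :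
    L Q p (reg p F) = reg p (fun g : G => F (g : G ⧸ Q)) := by
  funext g
  rw [L_apply]
  by_cases h : p ∣ orderOf g
  · rw [reg_not h, reg_not h]
  · rw [reg_of h, reg_of h, reg_of (H20.PC.regular_mk Q h)]

/-- descending a class function on the regular elements to the quotient -/
theorem exists_descend [Fact p.Prime] (Q : Subgroup G) [Q.Normal] (hQ : IsPGroup p Q)
    (hC : ∀ x : G, ¬ p ∣ orderOf x → x ∈ Subgroup.centralizer (Q : Set G)) {χ : G → ℂ}
    (hχ : IsClassFunction G χ) : ∃ F : G ⧸ Q → ℂ, IsClassFunction (G ⧸ Q) F ∧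
      (∀ x : G, ¬ p ∣ orderOf x → F (x : G ⧸ Q) = χ x) := by
  classical
  let F : G ⧸ Q → ℂ := fun q => if h : ∃ x : G, (x : G ⧸ Q) = q ∧ ¬ p ∣ orderOf x then
    χ h.choose else 0
  have hF : ∀ x : G, ¬ p ∣ orderOf x → F (x : G ⧸ Q) = χ x := by
    intro x hx
    have h : ∃ y : G, (y : G ⧸ Q) = (x : G ⧸ Q) ∧ ¬ p ∣ orderOf y := ⟨x, rfl, hx⟩
    have h1 : F (x : G ⧸ Q) = χ h.choose := dif_pos h
    rw [h1]
    exact congrArg χ (H20.PC.eq_of_mk_eq Q hQ hC h.choose_spec.2 hx h.choose_spec.1)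
  have hF0 : ∀ q : G ⧸ Q, (¬ ∃ x : G, (x : G ⧸ Q) = q ∧ ¬ p ∣ orderOf x) → F q = 0 :=
    fun q h => dif_neg h
  refine ⟨F, ?_, hF⟩
  intro q r
  obtain ⟨y, rfl⟩ := QuotientGroup.mk_surjective r
  by_cases h : ∃ x : G, (x : G ⧸ Q) = q ∧ ¬ p ∣ orderOf x
  · obtain ⟨x, rfl, hx⟩ := h
    have h1 : ((y : G ⧸ Q) * (x : G ⧸ Q) * (y : G ⧸ Q)⁻¹) = ((y * x * y⁻¹ : G) : G ⧸ Q) := rfl
    rw [h1, hF x hx, hF _ (by rwa [H20.Orth.orderOf_conj])]
    exact hχ x y
  · rw [hF0 _ h, hF0]
    rintro ⟨x, hx1, hx2⟩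
    apply h
    refine ⟨y⁻¹ * x * (y⁻¹)⁻¹, ?_, by rwa [H20.Orth.orderOf_conj]⟩
    rw [QuotientGroup.mk_mul, QuotientGroup.mk_mul, hx1, inv_inv, QuotientGroup.mk_inv]
    group

/-- the regular span of the principal block comes from the quotient -/
theorem rspn_principal (hM : IsPModular p M) (Q : Subgroup G) [Q.Normal] (hQ : IsPGroup p Q)
    (hC : ∀ x : G, ¬ p ∣ orderOf x → x ∈ Subgroup.centralizer (Q : Set G)) :
    rspn p (principalBlock M G) = (rspn p (principalBlock M (G ⧸ Q))).map (L Q p) := by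
  classical
  haveI := pm_isPrime hM
  haveI : Fact p.Prime := ⟨pm_prime hM⟩
  letI := Fintype.ofFinite G
  letI : Fintype (IrrCharacter G) := Fintype.ofFinite _
  letI := Fintype.ofFinite (G ⧸ Q)
  letI : Fintype (IrrCharacter (G ⧸ Q)) := Fintype.ofFinite _
  have hPB : IsPBlock M (principalBlock M G) := ⟨one G, principalBlock_eq⟩
  have hU : IsUnion M (principalBlock M G) := isUnion_of_isPBlock hPB
  have hone : infl Q (one (G ⧸ Q)) = one G := Subtype.ext rfl
  have hmem : ∀ ψ : IrrCharacter (G ⧸ Q), infl Q ψ ∈ principalBlock M G ↔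
      ψ ∈ principalBlock M (G ⧸ Q) := by
    intro ψ
    have h := H20.PC.sameBlock_infl_iff (P := Q) hM hQ hC (one (G ⧸ Q)) ψ
    rw [hone] at h
    exact h.symm
  unfold rspn
  set W := Submodule.span ℂ ((fun χ : IrrCharacter (G ⧸ Q) => pRegularPart p (χ : G ⧸ Q → ℂ)) ''
    principalBlock M (G ⧸ Q)) with hW
  set V := Submodule.span ℂ ((fun χ : IrrCharacter G => pRegularPart p (χ : G → ℂ)) ''
    principalBlock M G) with hV
  have hLinfl : ∀ ψ : IrrCharacter (G ⧸ Q), L Q p (pRegularPart p (ψ : G ⧸ Q → ℂ)) =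
      pRegularPart p (infl Q ψ : G → ℂ) := by
    intro ψ
    rw [pRegularPart_eq, pRegularPart_eq, L_reg]
    rfl
  have hVW : V = W.map (L Q p) := by
    apply le_antisymm
    · rw [hV, Submodule.span_le]
      rintro _ ⟨χ, hχ, rfl⟩
      -- the class function on the quotient
      let F : G ⧸ Q → ℂ := fun q => if h : ∃ x : G, (x : G ⧸ Q) = q ∧ ¬ p ∣ orderOf x then
        (χ : G → ℂ) h.choose else 0
      have hF : ∀ x : G, ¬ p ∣ orderOf x → F (x : G ⧸ Q) = (χ : G → ℂ) x := by
        intro x hx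
        have h : ∃ y : G, (y : G ⧸ Q) = (x : G ⧸ Q) ∧ ¬ p ∣ orderOf y := ⟨x, rfl, hx⟩
        have h1 : F (x : G ⧸ Q) = (χ : G → ℂ) h.choose := dif_pos h
        rw [h1]
        exact congrArg (χ : G → ℂ) (H20.PC.eq_of_mk_eq Q hQ hC h.choose_spec.2 hx h.choose_spec.1)
      have hF0 : ∀ q : G ⧸ Q, (¬ ∃ x : G, (x : G ⧸ Q) = q ∧ ¬ p ∣ orderOf x) → F q = 0 :=
        fun q h => dif_neg h
      have hFc : IsClassFunction (G ⧸ Q) F := by
        intro q r
        obtain ⟨y, rfl⟩ := QuotientGroup.mk_surjective r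
        by_cases h : ∃ x : G, (x : G ⧸ Q) = q ∧ ¬ p ∣ orderOf x
        · obtain ⟨x, rfl, hx⟩ := h
          have h1 : ((y : G ⧸ Q) * (x : G ⧸ Q) * (y : G ⧸ Q)⁻¹) = ((y * x * y⁻¹ : G) : G ⧸ Q) := rfl
          rw [h1, hF x hx, hF _ (by rwa [H20.Orth.orderOf_conj])]
          exact isClassFunction_of_isIrr χ.2 x y
        · rw [hF0 _ h, hF0]
          rintro ⟨x, hx1, hx2⟩
          apply h
          refine ⟨y⁻¹ * x * (y⁻¹)⁻¹, ?_, by rwa [H20.Orth.orderOf_conj]⟩
          rw [QuotientGroup.mk_mul, QuotientGroup.mk_mul, hx1, inv_inv, QuotientGroup.mk_inv]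
          group
      have h1 : reg p (χ : G → ℂ) = reg p (fun g : G => F (g : G ⧸ Q)) := by
        funext g
        by_cases h : p ∣ orderOf g
        · rw [reg_not h, reg_not h]
        · rw [reg_of h, reg_of h, hF g h]
      have hFG : IsClassFunction G (fun g : G => F (g : G ⧸ Q)) := fun g h => by
        have := hFc (g : G ⧸ Q) (h : G ⧸ Q)
        exact this
      have h2 : reg p (χ : G → ℂ) = reg p (proj (principalBlock M G) (fun g : G => F (g : G ⧸ Q))) := by
        rw [← proj_reg hM hU hFG, ← h1, proj_reg hM hU (isClassFunction_of_isIrr χ.2),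
          proj_irr _ _ hχ]
      have h3 : (fun g : G => F (g : G ⧸ Q)) = ∑ ψ : IrrCharacter (G ⧸ Q),
          classInner F (ψ : G ⧸ Q → ℂ) • (infl Q ψ : G → ℂ) := by
        funext g
        have := congrFun (mem_classFun_expand hFc) (g : G ⧸ Q)
        rw [this]
        simp only [Finset.sum_apply, Pi.smul_apply]
        rfl
      have h4 : reg p (proj (principalBlock M G) (fun g : G => F (g : G ⧸ Q))) =
          ∑ χ' : IrrCharacter G, (if χ' ∈ principalBlock M G then
            classInner (fun g : G => F (g : G ⧸ Q)) (χ' : G → ℂ) else 0) • reg p (χ' : G → ℂ) := by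
        funext g
        by_cases h : p ∣ orderOf g
        · rw [reg_not h, Finset.sum_apply, Finset.sum_eq_zero]
          intro χ' _
          rw [Pi.smul_apply, reg_not h, smul_zero]
        · rw [reg_of h, proj_eq_sum, Finset.sum_apply]
          refine Finset.sum_congr rfl fun χ' _ => ?_
          rw [Pi.smul_apply, reg_of h, smul_eq_mul]
          split_ifs
          · rfl
          · rw [zero_mul]
      show pRegularPart p (χ : G → ℂ) ∈ W.map (L Q p)
      rw [pRegularPart_eq, h2, h4]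
      refine Submodule.sum_mem _ fun χ' _ => ?_
      by_cases hχ' : χ' ∈ principalBlock M G
      · rw [if_pos hχ']
        by_cases h5 : classInner (fun g : G => F (g : G ⧸ Q)) (χ' : G → ℂ) = 0
        · rw [h5, zero_smul]; exact Submodule.zero_mem _
        · apply Submodule.smul_mem
          have h6 : ∃ ψ : IrrCharacter (G ⧸ Q), χ' = infl Q ψ := by
            by_contra hcon
            push Not at hcon
            apply h5
            rw [h3, H18.CharOrtho.inner_sum_left]
            refine Finset.sum_eq_zero fun ψ _ => ?_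
            rw [H18.CharOrtho.inner_smul_left, inner_irr_ne (infl Q ψ).2 χ'.2
              (fun h => hcon ψ (Subtype.ext h.symm)), mul_zero]
          obtain ⟨ψ, rfl⟩ := h6
          refine ⟨pRegularPart p (ψ : G ⧸ Q → ℂ), Submodule.subset_span ⟨ψ, (hmem ψ).1 hχ', rfl⟩, ?_⟩
          rw [hLinfl, pRegularPart_eq]
      · rw [if_neg hχ', zero_smul]; exact Submodule.zero_mem _
    · rw [hW, Submodule.map_span, Submodule.span_le]
      rintro _ ⟨_, ⟨ψ, hψ, rfl⟩, rfl⟩
      rw [hLinfl]
      exact Submodule.subset_span ⟨infl Q ψ, (hmem ψ).2 hψ, rfl⟩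
  exact hVW

section inner
variable [Fintype G]

/-- fibres of the quotient map over regular elements contain one regular element. -/
theorem sum_reg [hp : Fact p.Prime] (Q : Subgroup G) [Q.Normal] [Fintype (G ⧸ Q)]
    (hQ : IsPGroup p Q)
    (hC : ∀ x : G, ¬ p ∣ orderOf x → x ∈ Subgroup.centralizer (Q : Set G)) (f : G ⧸ Q → ℂ) :
    ∑ g : G, reg p (fun g : G => f (g : G ⧸ Q)) g = ∑ q : G ⧸ Q, reg p f q := by
  classical
  rw [← Finset.sum_fiberwise (s := Finset.univ) (g := fun g : G => (g : G ⧸ Q))]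
  refine Finset.sum_congr rfl fun q _ => ?_
  by_cases hq : p ∣ orderOf q
  · rw [reg_not hq]
    apply Finset.sum_eq_zero
    intro g hg
    rw [reg_not]
    by_contra hno
    have h1 := H20.PC.regular_mk Q hno
    rw [(Finset.mem_filter.1 hg).2] at h1
    exact h1 hq
  · obtain ⟨x, hx, hxr⟩ := H20.PC.exists_regular_lift Q q hq
    rw [reg_of hq, Finset.sum_eq_single x]
    · rw [reg_of hxr, hx]
    · intro y hy hyx
      rw [reg_not]
      by_contra hno
      exact hyx (H20.PC.eq_of_mk_eq Q hQ hC hno hxr ((Finset.mem_filter.1 hy).2.trans hx.symm))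
    · intro h
      exact absurd (by simp [hx]) h

theorem inner_L [hp : Fact p.Prime] (Q : Subgroup G) [Q.Normal] [Fintype (G ⧸ Q)]
    (hQ : IsPGroup p Q)
    (hC : ∀ x : G, ¬ p ∣ orderOf x → x ∈ Subgroup.centralizer (Q : Set G)) (f h : G ⧸ Q → ℂ) :
    (Nat.card Q : ℂ) * classInner (L Q p f) (fun g : G => h (g : G ⧸ Q)) =
      classInner (reg p f) h := by
  have h1 := sum_reg Q hQ hC (fun q => f q * conj (h q))
  have h2 : ∀ g : G, reg p (fun g : G => f (g : G ⧸ Q) * conj (h (g : G ⧸ Q))) g =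
      L Q p f g * conj (h (g : G ⧸ Q)) := by
    intro g
    rw [L_apply]
    by_cases hg : p ∣ orderOf g
    · rw [reg_not hg, reg_not hg, zero_mul]
    · rw [reg_of hg, reg_of hg]
  have h3 : ∀ q : G ⧸ Q, reg p (fun q => f q * conj (h q)) q = reg p f q * conj (h q) := by
    intro q
    by_cases hq : p ∣ orderOf q
    · rw [reg_not hq, reg_not hq, zero_mul]
    · rw [reg_of hq, reg_of hq]
  rw [Finset.sum_congr rfl (fun g _ => h2 g), Finset.sum_congr rfl (fun q _ => h3 q)] at h1
  unfold classInner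
  have h4 : (Nat.card G : ℂ) = Nat.card (G ⧸ Q) * Nat.card Q := by
    rw [Subgroup.card_eq_card_quotient_mul_card_subgroup Q]; push_cast; rfl
  have h5 : (Nat.card Q : ℂ) ≠ 0 := by exact_mod_cast (Nat.card_pos (α := Q)).ne'
  have h6 : (Nat.card (G ⧸ Q) : ℂ) ≠ 0 := by exact_mod_cast (Nat.card_pos (α := G ⧸ Q)).ne'
  rw [h1, h4]
  field_simp

theorem inner_infl (Q : Subgroup G) [Q.Normal] [Fintype (G ⧸ Q)] (f h : G ⧸ Q → ℂ) :
    classInner (fun g : G => f (g : G ⧸ Q)) (fun g : G => h (g : G ⧸ Q)) = classInner f h := by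
  classical
  unfold classInner
  have h1 : ∑ g : G, f (g : G ⧸ Q) * conj (h (g : G ⧸ Q)) =
      (Nat.card Q : ℂ) * ∑ q : G ⧸ Q, f q * conj (h q) := by
    rw [← Finset.sum_fiberwise (s := Finset.univ) (g := fun g : G => (g : G ⧸ Q)), Finset.mul_sum]
    refine Finset.sum_congr rfl fun q _ => ?_
    rw [Finset.sum_congr rfl (fun g hg => by rw [(Finset.mem_filter.1 hg).2])
      (g := fun _ => f q * conj (h q)), Finset.sum_const, nsmul_eq_mul]
    congr 1
    norm_cast
    rw [← Fintype.card_subtype, ← Nat.card_eq_fintype_card]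
    obtain ⟨x, rfl⟩ := QuotientGroup.mk_surjective q
    have e : Nat.card {y : G // (y : G ⧸ Q) = (x : G ⧸ Q)} = Nat.card (QuotientGroup.mk ⁻¹' {(x : G ⧸ Q)} : Set G) := rfl
    rw [e]
    have := Nat.card_congr (QuotientGroup.preimageMkEquivSubgroupProdSet Q {(x : G ⧸ Q)})
    rw [this, Nat.card_prod]
    simp
  have h4 : (Nat.card G : ℂ) = Nat.card (G ⧸ Q) * Nat.card Q := by
    rw [Subgroup.card_eq_card_quotient_mul_card_subgroup Q]; push_cast; rfl
  have h5 : (Nat.card Q : ℂ) ≠ 0 := by exact_mod_cast (Nat.card_pos (α := Q)).ne'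
  have h6 : (Nat.card (G ⧸ Q) : ℂ) ≠ 0 := by exact_mod_cast (Nat.card_pos (α := G ⧸ Q)).ne'
  rw [h1, h4]
  field_simp

/-- the exponent extracting the `p'`-part -/
theorem exists_exp (hp : p.Prime) (G : Type u) [Group G] [Finite G] : ∃ E : ℕ,
    p ^ (Nat.card G).factorization p ∣ E ∧
    E ≡ 1 [MOD Nat.card G / p ^ (Nat.card G).factorization p] ∧
    (p ^ (Nat.card G).factorization p).Coprime (Nat.card G / p ^ (Nat.card G).factorization p) ∧
    p ^ (Nat.card G).factorization p * (Nat.card G / p ^ (Nat.card G).factorization p) = Nat.card G := by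
  have h0 : (Nat.card G) ≠ 0 := Nat.card_pos.ne'
  have hcop : (p ^ (Nat.card G).factorization p).Coprime
      (Nat.card G / p ^ (Nat.card G).factorization p) := Nat.Coprime.pow_left _
        (Nat.coprime_ordCompl hp h0)
  obtain ⟨E, h1, h2⟩ := Nat.chineseRemainder hcop 0 1
  exact ⟨E, (Nat.modEq_zero_iff_dvd.1 h1), h2, hcop, Nat.ordProj_mul_ordCompl_eq_self _ _⟩

/-- `g ↦ χ(g ^ E)`, with `g ^ E` the `p'`-part of `g`, is a generalized character. -/
theorem isGen_pow (hp : p.Prime) {χ : G → ℂ} (hχ : IsCharacter G χ) {E : ℕ}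
    (h0 : p ^ (Nat.card G).factorization p ∣ E)
    (h1 : E ≡ 1 [MOD Nat.card G / p ^ (Nat.card G).factorization p])
    (hcop : (p ^ (Nat.card G).factorization p).Coprime
      (Nat.card G / p ^ (Nat.card G).factorization p))
    (hprod : p ^ (Nat.card G).factorization p * (Nat.card G / p ^ (Nat.card G).factorization p) =
      Nat.card G) : IsGeneralizedCharacter G (fun g => χ (g ^ E)) := by
  have hcl := isClassFunction_of_isCharacter hχ
  apply H77.RegGen.isGen_of_elementary
  · intro g h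
    show χ ((h * g * h⁻¹) ^ E) = χ (g ^ E)
    rw [conj_pow]
    exact hcl _ _
  · intro E0 q hq hE0
    haveI := H4.Brauer.isNilpotent_of_isElementary hq hE0
    have hcard : Nat.card E0 ∣ (Nat.card G / p ^ (Nat.card G).factorization p) *
        p ^ (Nat.card G).factorization p := by
      rw [mul_comm, hprod]; exact Subgroup.card_subgroup_dvd_card E0
    let ε : E0 →* E0 :=
      { toFun := fun x => x ^ E
        map_one' := one_pow E
        map_mul' := fun a b => H19.HallNC.pow_hom_of_nilpotent hcop.symm hcard h1 h0 a b }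
    have h2 : (fun x : E0 => χ ((x : G) ^ E)) = fun x => (fun y : E0 => χ (y : G)) (ε x) := by
      funext x
      rfl
    show IsGeneralizedCharacter E0 (fun x : E0 => χ ((x : G) ^ E))
    rw [h2]
    exact isGen_of_isCharacter (isCharacter_comp ε (isCharacter_restrict E0 hχ))

theorem inner_int [hp : Fact p.Prime] (Q : Subgroup G) [Q.Normal] [Fintype (G ⧸ Q)]
    (hQ : IsPGroup p Q) (hQc : Q ≤ Subgroup.center G) {η : G ⧸ Q → ℂ}
    (hη : IsGeneralizedCharacter (G ⧸ Q) η) (hη0 : reg p η = η) {ξ : G → ℂ}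
    (hξ : IsCharacter G ξ) :
    ∃ n : ℤ, (Nat.card Q : ℂ) * classInner (L Q p η) ξ = n := by
  classical
  have hC : ∀ x : G, ¬ p ∣ orderOf x → x ∈ Subgroup.centralizer (Q : Set G) := by
    intro x _
    rw [Subgroup.mem_centralizer_iff]
    intro z hz
    exact (Subgroup.mem_center_iff.1 (hQc hz) x).symm
  obtain ⟨E, h0, h1, hcop, hprod⟩ := exists_exp hp.out G
  have hgen := isGen_pow hp.out hξ h0 h1 hcop hprod
  obtain ⟨F, hF, hF1⟩ := exists_descend Q hQ hC (isClassFunction_of_isCharacter hξ)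
  -- both sides agree
  have e1 : classInner (L Q p η) ξ = classInner (L Q p η) (fun g : G => F (g : G ⧸ Q)) := by
    unfold classInner
    congr 1
    refine Finset.sum_congr rfl fun g _ => ?_
    rw [L_apply]
    by_cases hg : p ∣ orderOf g
    · rw [reg_not hg, zero_mul, zero_mul]
    · show _ = reg p (fun g : G => η (g : G ⧸ Q)) g * conj (F (g : G ⧸ Q))
      rw [hF1 g hg]
  have e2 : classInner (fun g : G => η (g : G ⧸ Q)) (fun g => ξ (g ^ E)) =
      classInner (fun g : G => η (g : G ⧸ Q)) (fun g : G => F (g : G ⧸ Q)) := by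
    unfold classInner
    congr 1
    refine Finset.sum_congr rfl fun g _ => ?_
    by_cases hg : p ∣ orderOf (g : G ⧸ Q)
    · show η (g : G ⧸ Q) * conj (ξ (g ^ E)) = η (g : G ⧸ Q) * conj (F (g : G ⧸ Q))
      rw [← hη0, reg_not hg, zero_mul, zero_mul]
    · obtain ⟨v, hv, hvr⟩ := H20.PC.exists_regular_lift Q _ hg
      have hz : v⁻¹ * g ∈ Q := QuotientGroup.eq.1 hv
      have hgv : g = v * (v⁻¹ * g) := by group
      have hzc : Commute v (v⁻¹ * g) := Subgroup.mem_center_iff.1 (hQc hz) v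
      have hz1 : (v⁻¹ * g) ^ E = 1 := by
        obtain ⟨t, ht⟩ := h0
        have h3 : orderOf (v⁻¹ * g) ∣ p ^ (Nat.card G).factorization p := by
          obtain ⟨k, hk⟩ := hQ ⟨_, hz⟩
          have h4 : orderOf (v⁻¹ * g) ∣ p ^ k := orderOf_dvd_of_pow_eq_one (congrArg Subtype.val hk)
          obtain ⟨l, -, hl⟩ := (Nat.dvd_prime_pow hp.out).1 h4
          rw [hl]
          apply pow_dvd_pow
          rw [← hp.out.pow_dvd_iff_le_factorization Nat.card_pos.ne', ← hl]
          exact orderOf_dvd_natCard _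
        rw [ht, pow_mul, orderOf_dvd_iff_pow_eq_one.1 h3, one_pow]
      have hv1 : v ^ E = v := by
        have h3 : orderOf v ∣ Nat.card G / p ^ (Nat.card G).factorization p := by
          have h4 : orderOf v ∣ p ^ (Nat.card G).factorization p *
              (Nat.card G / p ^ (Nat.card G).factorization p) := by
            rw [hprod]; exact orderOf_dvd_natCard v
          refine Nat.Coprime.dvd_of_dvd_mul_left ?_ h4
          exact Nat.Coprime.pow_right _ ((Nat.Prime.coprime_iff_not_dvd hp.out).2 hvr).symm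
        have h5 : E ≡ 1 [MOD orderOf v] := h1.of_dvd h3
        rw [pow_eq_pow_iff_modEq.2 h5, pow_one]
      have hgE : g ^ E = v := by
        rw [hgv, hzc.mul_pow, hz1, hv1, mul_one]
      show η (g : G ⧸ Q) * conj (ξ (g ^ E)) = η (g : G ⧸ Q) * conj (F (g : G ⧸ Q))
      rw [hgE, ← hF1 v hvr, hv]
  have hηi : IsGeneralizedCharacter G (fun g : G => η (g : G ⧸ Q)) := by
    obtain ⟨a, b, ha, hb, hab⟩ := hη
    refine ⟨fun g => a (g : G ⧸ Q), fun g => b (g : G ⧸ Q),
      isCharacter_comp (QuotientGroup.mk' Q) ha, isCharacter_comp (QuotientGroup.mk' Q) hb, ?_⟩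
    rw [hab]
    rfl
  obtain ⟨n, hn⟩ := inner_gen_intCast hηi hgen
  refine ⟨n, ?_⟩
  rw [← hn, e1, e2, inner_infl, inner_L Q hQ hC, hη0]

end inner

end H79.CentQ
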