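import Cfsg.Agent.Lib.H79.PiChar
import Cfsg.Agent.Lib.H83.Gallagher
import Cfsg.Agent.Lib.H31.Clifford
import Cfsg.Agent.Lib.H18.Primitive
import Cfsg.Agent.Lib.H12.NilpHall

/-! Dade's theorem: every finite solvable group embeds in an M-group; `A ≀ᵣ C_p` is an M-group
when `A` is. -/

set_option autoImplicit false
set_option linter.unusedSectionVars false
set_option linter.style.haveILetI false

namespace H79.Dade

open Cfsg H18.CharBasic H18.CharOrtho H18.CharInd H79.PiChar H4.Monomial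
open scoped ComplexConjugate

universe u v

section general

variable {G : Type u} [Group G]

/-- a character whose restriction to a subgroup is irreducible is irreducible -/
theorem irr_of_restrict [Finite G] (N : Subgroup G) {ψ : G → ℂ} (hψ : IsCharacter G ψ)
    (h : IsIrrCharacter N (fun n : N => ψ n)) : IsIrrCharacter G ψ := by
  letI := Fintype.ofFinite G
  letI := Fintype.ofFinite N
  have hψ0 : ψ ≠ 0 := by
    rintro rfl
    exact irr_one_ne_zero h rfl
  obtain ⟨η, hη, hne⟩ := exists_irr_inner_ne_zero (isClassFunction_of_isCharacter hψ) hψ0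
  have hδ := H18.CharQuot.isCharacter_sub_constituent hψ hη hne
  set δ := ψ - η with hδdef
  have hsum : (fun n : N => ψ n) = (fun n : N => η n) + (fun n : N => δ n) := by
    funext n
    rw [hδdef]
    simp
  have hηN := isCharacter_restrict N (isCharacter_of_isIrr hη)
  have hδN := isCharacter_restrict N hδ
  have h1 := inner_irr_self h
  rw [hsum, H18.CharOrtho.inner_add_left, H18.CharOrtho.inner_add_right,
    H18.CharOrtho.inner_add_right] at h1
  obtain ⟨a, ha⟩ := inner_char_natCast hηN hηN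
  obtain ⟨b, hb⟩ := inner_char_natCast hηN hδN
  obtain ⟨c, hc⟩ := inner_char_natCast hδN hηN
  obtain ⟨d, hd⟩ := inner_char_natCast hδN hδN
  rw [ha, hb, hc, hd] at h1
  have h2 : a + b + (c + d) = 1 := by exact_mod_cast h1
  have ha0 : a ≠ 0 := by
    rintro rfl
    rw [Nat.cast_zero, H18.CharOrtho.inner_self_eq_zero] at ha
    exact irr_one_ne_zero hη (congrFun ha 1)
  have hd0 : d = 0 := by omega
  rw [hd0, Nat.cast_zero, H18.CharOrtho.inner_self_eq_zero] at hd
  have hδ1 : δ 1 = 0 := congrFun hd 1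
  have hδ0 : δ = 0 := by
    funext g
    have := char_norm_le hδ g
    rw [hδ1] at this
    simpa using this
  have : ψ = η := by
    rw [hδdef, sub_eq_zero] at hδ0
    exact hδ0
  rw [this]
  exact hη

end general

section wreath

variable {A : Type u} {Q : Type v} [Group A] [Group Q]

open RegularWreathProduct

variable (A Q) in
/-- the base group -/
def base : Subgroup (A ≀ᵣ Q) := (rightHom : A ≀ᵣ Q →* Q).ker

instance : (base A Q).Normal := MonoidHom.normal_ker _

theorem mem_base {w : A ≀ᵣ Q} : w ∈ base A Q ↔ w.right = 1 := Iff.rfl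

variable (A Q) in
/-- the base group is a power of `A` -/
def eBase : (Q → A) ≃* base A Q where
  toFun f := ⟨⟨f, 1⟩, rfl⟩
  invFun w := w.1.left
  left_inv f := rfl
  right_inv w := Subtype.ext (RegularWreathProduct.ext rfl (mem_base.1 w.2).symm)
  map_mul' f g := by
    apply Subtype.ext
    apply RegularWreathProduct.ext
    · funext x
      simp
    · simp

theorem coe_eBase (f : Q → A) : ((eBase A Q f : base A Q) : A ≀ᵣ Q) = ⟨f, 1⟩ := rfl

/-- the subgroup `H ≀ Q` -/
def hat (H : Subgroup A) : Subgroup (A ≀ᵣ Q) where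
  carrier := {w | ∀ x, w.left x ∈ H}
  one_mem' := fun x => H.one_mem
  mul_mem' := fun {a b} ha hb x => H.mul_mem (ha x) (hb _)
  inv_mem' := fun {a} ha x => H.inv_mem (ha _)

theorem mem_hat {H : Subgroup A} {w : A ≀ᵣ Q} : w ∈ hat H ↔ ∀ x, w.left x ∈ H := Iff.rfl

/-- the linear character of `H ≀ Q` -/
def hatLam [Fintype Q] {H : Subgroup A} (lam : H →* ℂˣ) : (hat H : Subgroup (A ≀ᵣ Q)) →* ℂˣ where
  toFun w := ∏ x, lam ⟨w.1.left x, w.2 x⟩
  map_one' := Finset.prod_eq_one fun x _ => map_one lam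
  map_mul' a b := by
    have h1 : ∀ x, lam ⟨(a * b).1.left x, (a * b).2 x⟩ =
        lam ⟨a.1.left x, a.2 x⟩ * lam ⟨b.1.left (a.1.right⁻¹ * x), b.2 _⟩ := by
      intro x
      rw [← map_mul]
      rfl
    rw [Finset.prod_congr rfl (fun x _ => h1 x), Finset.prod_mul_distrib]
    congr 1
    exact Equiv.prod_comp (Equiv.mulLeft a.1.right⁻¹) (fun x => lam ⟨b.1.left x, b.2 x⟩)

theorem hatLam_apply [Fintype Q] {H : Subgroup A} (lam : H →* ℂˣ) (w : (hat H : Subgroup (A ≀ᵣ Q))) :
    (hatLam lam w : ℂ) = ∏ x, (lam ⟨w.1.left x, w.2 x⟩ : ℂ) := by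
  show ((∏ x, lam ⟨w.1.left x, w.2 x⟩ : ℂˣ) : ℂ) = _
  rw [Units.coe_prod]

theorem card_hat [Finite Q] [Finite A] (H : Subgroup A) :
    Nat.card (hat H : Subgroup (A ≀ᵣ Q)) = Nat.card H ^ Nat.card Q * Nat.card Q := by
  rw [← Nat.card_fun, ← Nat.card_prod]
  exact Nat.card_congr
    { toFun := fun w => (fun x => ⟨w.1.left x, w.2 x⟩, w.1.right)
      invFun := fun y => ⟨⟨fun x => y.1 x, y.2⟩, fun x => (y.1 x).2⟩
      left_inv := fun w => rfl
      right_inv := fun y => rfl }

theorem ext_hat [Fintype Q] {H : Subgroup A} (lam : H →* ℂˣ) (w : A ≀ᵣ Q) :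
    extendByZero (hat H : Subgroup (A ≀ᵣ Q)) (fun w => (hatLam lam w : ℂ)) w =
      ∏ x, extendByZero H (fun h => (lam h : ℂ)) (w.left x) := by
  by_cases hx : w ∈ (hat H : Subgroup (A ≀ᵣ Q))
  · rw [ext_mem _ _ hx, hatLam_apply]
    refine Finset.prod_congr rfl fun x _ => ?_
    rw [ext_mem _ _ (hx x)]
  · rw [ext_notMem _ _ hx]
    have : ∃ x, w.left x ∉ H := by
      by_contra hcon
      push Not at hcon
      exact hx hcon
    obtain ⟨x, hx⟩ := this
    exact (Finset.prod_eq_zero (Finset.mem_univ x)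
      (ext_notMem H (fun h => (lam h : ℂ)) hx)).symm

theorem ind_hat [Fintype Q] [Fintype A] [Fintype (A ≀ᵣ Q)] {H : Subgroup A} (lam : H →* ℂˣ)
    (f : Q → A) :
    indFun (hat H : Subgroup (A ≀ᵣ Q)) (fun w => (hatLam lam w : ℂ)) ⟨f, 1⟩ =
      ∏ x, indFun H (fun h => (lam h : ℂ)) (f x) := by
  classical
  rw [indFun_apply, card_hat]
  simp only [indFun_apply]
  rw [Finset.prod_mul_distrib, Finset.prod_const, Finset.prod_univ_sum, Fintype.piFinset_univ,
    Finset.card_univ, ← Nat.card_eq_fintype_card]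
  have h1 : ∑ w : A ≀ᵣ Q, extendByZero (hat H : Subgroup (A ≀ᵣ Q)) (fun w => (hatLam lam w : ℂ))
      (w⁻¹ * ⟨f, 1⟩ * w) =
      (Nat.card Q : ℂ) * ∑ a : Q → A, ∏ x, extendByZero H (fun h => (lam h : ℂ)) ((a x)⁻¹ * f x * a x) := by
    have h2 : ∀ y : (Q → A) × Q, extendByZero (hat H : Subgroup (A ≀ᵣ Q))
        (fun w => (hatLam lam w : ℂ))
        (((equivProd A Q).symm y)⁻¹ * ⟨f, 1⟩ * ((equivProd A Q).symm y)) =
        ∏ x, extendByZero H (fun h => (lam h : ℂ)) ((y.1 x)⁻¹ * f x * y.1 x) := by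
      rintro ⟨a, s⟩
      rw [ext_hat]
      have h3 : ∀ x, ((((equivProd A Q).symm (a, s))⁻¹ * ⟨f, 1⟩ *
          ((equivProd A Q).symm (a, s)) : A ≀ᵣ Q)).left x = (a (s * x))⁻¹ * f (s * x) * a (s * x) := by
        intro x
        show (((⟨a, s⟩ : A ≀ᵣ Q)⁻¹ * ⟨f, 1⟩ * ⟨a, s⟩ : A ≀ᵣ Q)).left x = _
        simp [mul_left, inv_left, inv_right]
      rw [Finset.prod_congr rfl (fun x _ => by rw [h3 x])]
      exact Equiv.prod_comp (Equiv.mulLeft s)
        (fun x => extendByZero H (fun h => (lam h : ℂ)) ((a x)⁻¹ * f x * a x))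
    rw [← Equiv.sum_comp (equivProd A Q).symm]
    rw [Finset.sum_congr rfl (fun y _ => h2 y), Fintype.sum_prod_type]
    simp only [Finset.sum_const, Finset.card_univ, nsmul_eq_mul]
    rw [← Finset.mul_sum, Nat.card_eq_fintype_card]
  rw [h1]
  have hq : (Nat.card Q : ℂ) ≠ 0 := by exact_mod_cast (Nat.card_pos (α := Q)).ne'
  have hh : (Nat.card H : ℂ) ≠ 0 := by exact_mod_cast (Nat.card_pos (α := H)).ne'
  push_cast
  rw [inv_pow]
  field_simp

/-- the functions of an invariant product character are equal -/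
theorem eq_of_invariant [Fintype Q] [Fintype A] [DecidableEq Q] {φ : Q → A → ℂ}
    (hφ : ∀ i, IsIrrCharacter A (φ i))
    (h : ∀ s : Q, pf (fun x => φ (s * x)) = pf φ) (x y : Q) : φ x = φ y := by
  have h1 : classInner (pf (fun z => φ ((y * x⁻¹) * z))) (pf φ) = 1 := by
    rw [h (y * x⁻¹)]
    exact inner_irr_self (irr_pf hφ)
  rw [inner_pf] at h1
  by_contra hne
  rw [Finset.prod_eq_zero (Finset.mem_univ x)] at h1
  · exact zero_ne_one h1
  · apply inner_irr_ne (hφ _) (hφ _)
    rw [inv_mul_cancel_right]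
    exact fun h => hne h.symm

theorem wreath_isM [Finite Q] [Fintype A] [Fintype (A ≀ᵣ Q)] (hQ : (Nat.card Q).Prime)
    (hA : ∀ χ : A → ℂ, IsIrrCharacter A χ → IsMon χ) :
    ∀ χ : (A ≀ᵣ Q) → ℂ, IsIrrCharacter (A ≀ᵣ Q) χ → IsMon χ := by
  classical
  letI := Fintype.ofFinite Q
  intro χ hχ
  set N := base A Q with hN
  letI : Fintype N := Fintype.ofFinite _
  -- a constituent of the restriction
  obtain ⟨θ, hθ, hover⟩ : ∃ θ : N → ℂ, IsIrrCharacter N θ ∧ classInner (fun n : N => χ n) θ ≠ 0 := by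
    apply exists_irr_inner_ne_zero (isClassFunction_restrict N (isClassFunction_of_isIrr hχ))
    intro h
    exact irr_one_ne_zero hχ (congrFun h 1)
  set T := H31.Clifford.inertia N θ with hT
  have hle : N ≤ T := H31.Clifford.le_inertia N (isClassFunction_of_isIrr hθ)
  have hidx : N.index = Nat.card Q := by
    have h1 : Function.Surjective (rightHom : A ≀ᵣ Q →* Q) := fun q => ⟨inl q, rfl⟩
    rw [hN, base, Subgroup.index_ker, MonoidHom.range_eq_top.2 h1, Subgroup.card_top]
  have hidx2 := Subgroup.relIndex_mul_index hle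
  rw [hidx] at hidx2
  have hcase : N.relIndex T = 1 ∨ T.index = 1 := by
    rcases (Nat.dvd_prime hQ).1 (Dvd.intro _ hidx2) with h | h
    · exact Or.inl h
    · right
      rw [h] at hidx2
      exact Nat.eq_of_mul_eq_mul_left hQ.pos (by rw [hidx2, mul_one])
  have hmon : IsMon θ := by
    have h1 : IsIrrCharacter (Q → A) (θ ∘ eBase A Q) :=
      isIrrCharacter_comp (eBase A Q).toMonoidHom (eBase A Q).surjective hθ
    have h2 := isMon_comp (eBase A Q).symm.toMonoidHom (eBase A Q).symm.surjective (isMon_pi hA h1)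
    have h3 : (θ ∘ eBase A Q) ∘ (eBase A Q).symm.toMonoidHom = θ := by
      funext n
      show θ (eBase A Q ((eBase A Q).symm n)) = θ n
      rw [MulEquiv.apply_symm_apply]
    rwa [h3] at h2
  rcases hcase with h1 | h1
  · -- the inertia group is the base
    have hTN : T = N := le_antisymm (Subgroup.relIndex_eq_one.1 h1) hle
    have h2 := H31.Clifford.norm_ind N hθ
    rw [← hT, hTN] at h2
    have hc : (Nat.card N : ℂ) ≠ 0 := by exact_mod_cast (Nat.card_pos (α := N)).ne'
    have h3 : classInner (indFun N θ) (indFun N θ) = 1 := mul_left_cancel₀ hc (h2.trans (mul_one _).symm)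
    have h4 : IsIrrCharacter (A ≀ᵣ Q) (indFun N θ) :=
      isIrr_of_norm_one (isCharacter_ind N (isCharacter_of_isIrr hθ)) h3
    have h5 : indFun N θ = χ := by
      by_contra hne
      have h6 := inner_irr_ne hχ h4 (fun h => hne h.symm)
      rw [frobenius' N θ (isClassFunction_of_isIrr hχ)] at h6
      exact hover h6
    rw [← h5]
    exact isMon_ind N hmon
  · -- invariant
    have hTt : T = ⊤ := Subgroup.index_eq_one.1 h1
    have h2 : IsIrrCharacter (Q → A) (θ ∘ eBase A Q) :=
      isIrrCharacter_comp (eBase A Q).toMonoidHom (eBase A Q).surjective hθ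
    obtain ⟨φ, hφ, hθφ⟩ := exists_pf h2
    have hinv : ∀ s : Q, pf (fun x => φ (s * x)) = pf φ := by
      intro s
      have hs : (⟨1, s⟩ : A ≀ᵣ Q) ∈ T := by rw [hTt]; exact Subgroup.mem_top _
      have hs' := (H31.Clifford.mem_inertia_iff N).1 hs
      funext f
      have h3 := hs' (eBase A Q f)
      have h4 : (⟨(⟨1, s⟩ : A ≀ᵣ Q) * (eBase A Q f) * (⟨1, s⟩ : A ≀ᵣ Q)⁻¹,
          (inferInstance : (base A Q).Normal).conj_mem _ (eBase A Q f).2 _⟩ : N) =
          eBase A Q (fun x => f (s⁻¹ * x)) := by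
        apply Subtype.ext
        show (⟨1, s⟩ : A ≀ᵣ Q) * (⟨f, 1⟩ : A ≀ᵣ Q) * (⟨1, s⟩ : A ≀ᵣ Q)⁻¹ =
          ⟨fun x => f (s⁻¹ * x), 1⟩
        apply RegularWreathProduct.ext
        · funext x
          simp
        · simp
      have h5 : θ (eBase A Q (fun x => f (s⁻¹ * x))) = θ (eBase A Q f) := by
        rw [← h4]
        exact h3
      have h6 := congrFun hθφ (fun x => f (s⁻¹ * x))
      have h7 := congrFun hθφ f
      rw [Function.comp_apply] at h6 h7
      rw [h6, h7] at h5
      rw [← h5, pf_apply, pf_apply]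
      rw [← Equiv.prod_comp (Equiv.mulLeft s) (fun x => φ x (f (s⁻¹ * x)))]
      refine Finset.prod_congr rfl fun x _ => ?_
      simp
    obtain ⟨H, lam, hlam⟩ := hA (φ 1) (hφ 1)
    set ψ : (A ≀ᵣ Q) → ℂ := indFun (hat H : Subgroup (A ≀ᵣ Q)) (fun w => (hatLam lam w : ℂ)) with hψ
    have hψN : (fun n : N => ψ n) = θ := by
      funext n
      obtain ⟨f, rfl⟩ := (eBase A Q).surjective n
      have h3 := congrFun hθφ f
      rw [Function.comp_apply] at h3
      rw [h3, coe_eBase, hψ, ind_hat, pf_apply]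
      refine Finset.prod_congr rfl fun x _ => ?_
      rw [eq_of_invariant hφ hinv x 1, hlam]
    have hψc : IsCharacter (A ≀ᵣ Q) ψ :=
      isCharacter_ind _ (isCharacter_of_isIrr (isIrrCharacter_of_hom (hatLam lam)))
    have hψi : IsIrrCharacter (A ≀ᵣ Q) ψ := irr_of_restrict N hψc (by rw [hψN]; exact hθ)
    obtain ⟨β, hβ, hβN, hχβ⟩ := H83.Gallagher.exists_eq_mul hψi N (by rw [hψN]; exact hθ) hχ
      (by rw [hψN]; exact hover)
    have hβ1 : β 1 = 1 := by
      apply H18.Primitive.degree_one_of_commutator hβ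
      intro a b
      apply hβN
      haveI : IsCyclic Q := by
        haveI := Fact.mk hQ
        exact isCyclic_of_prime_card rfl
      rw [hN, mem_base]
      show a.right * b.right * a.right⁻¹ * b.right⁻¹ = 1
      letI := IsCyclic.commGroup (α := Q)
      rw [mul_comm a.right b.right]
      group
    obtain ⟨μ, hμ⟩ := H18.CharQuot.exists_hom_of_degree_one (isCharacter_of_isIrr hβ) hβ1
    refine ⟨hat H, hatLam lam * μ.comp (hat H : Subgroup (A ≀ᵣ Q)).subtype, ?_⟩
    have h8 := indFun_mul_restrict (hat H : Subgroup (A ≀ᵣ Q)) (fun w => (hatLam lam w : ℂ))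
      (isClassFunction_of_isIrr hβ)
    have h9 : (fun w : (hat H : Subgroup (A ≀ᵣ Q)) => (((hatLam lam * μ.comp (hat H : Subgroup (A ≀ᵣ Q)).subtype :
        (hat H : Subgroup (A ≀ᵣ Q)) →* ℂˣ) w : ℂˣ) : ℂ)) =
        fun w => (hatLam lam w : ℂ) * β w := by
      funext w
      rw [hμ, MonoidHom.mul_apply, Units.val_mul]
      rfl
    rw [h9, h8, hχβ]
    funext w
    rw [Pi.mul_apply, mul_comm]

end wreath

end H79.Dade
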