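import Cfsg.Agent.Lib.H20.Kuls
import Cfsg.Agent.Lib.H20.PC
import Cfsg.Agent.Lib.H20.Orth
import Cfsg.Agent.Lib.H20.Defect
import Cfsg.Agent.Lib.H19.BrMap
import Cfsg.Agent.Lib.H19.Second3
import Cfsg.Agent.Lib.H78.PrincReal
import Cfsg.Agent.Lib.H78.Cover

/-! The coefficients of the principal block idempotent on the `p`-regular elements centralizing a
Sylow subgroup; the principal block part of an induced character. -/

set_option autoImplicit false
set_option linter.unusedSectionVars false
set_option linter.style.haveILetI false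

namespace H79.BlkExt

open Cfsg H20.Loc H20.GA H20.Blk H20.Orth H20.Defect H20.NPC H18.CharBasic H18.CharOrtho H18.CharInd
open scoped ComplexConjugate

universe u

variable {G : Type u} [Group G] [Finite G] {p : ℕ} {M : Ideal AlgInt}

/-- a `p`-element centralizing a Sylow `p`-subgroup lies in it -/
theorem pelt_mem [hp : Fact p.Prime] (P : Sylow p G) {x : G} (hx : ∃ k : ℕ, orderOf x = p ^ k)
    (hc : x ∈ Subgroup.centralizer ((P : Subgroup G) : Set G)) : x ∈ (P : Subgroup G) := by
  have h1 : IsPGroup p (Subgroup.zpowers x) := by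
    rw [IsPGroup.iff_card]
    obtain ⟨k, hk⟩ := hx
    exact ⟨k, by rw [Nat.card_zpowers, hk]⟩
  have h2 : Subgroup.zpowers x ≤ Subgroup.normalizer ((P : Subgroup G) : Set G) := by
    rw [Subgroup.zpowers_le]
    exact Subgroup.centralizer_le_normalizer _ hc
  have h3 := IsPGroup.to_sup_of_normal_right' h1 P.2 h2
  have h4 := P.3 h3 le_sup_right
  rw [← h4]
  exact (le_sup_left : Subgroup.zpowers x ≤ _) (Subgroup.mem_zpowers x)

/-- the only `p`-element `x` centralizing `P` with `x⁻¹ * g` regular, for a regular `g` centralizing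
`P`, is `1` -/
theorem eq_one_of_centralizes [hp : Fact p.Prime] (P : Sylow p G) {g x : G} (hg : ¬ p ∣ orderOf g)
    (hgc : g ∈ Subgroup.centralizer ((P : Subgroup G) : Set G))
    (hx : ∃ k : ℕ, orderOf x = p ^ k) (hxc : x ∈ Subgroup.centralizer ((P : Subgroup G) : Set G))
    (h : ¬ p ∣ orderOf (x⁻¹ * g)) : x = 1 := by
  have hxP := pelt_mem P hx hxc
  have hcomm : Commute x g := (Subgroup.mem_centralizer_iff.1 hgc x hxP)
  apply H20.PC.eq_one_of_regular _ hx
  have h1 : x = g * (x⁻¹ * g)⁻¹ := by group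
  rw [h1]
  apply H20.PC.not_dvd_orderOf_mul hp.out _ hg (by rwa [orderOf_inv])
  have h2 : Commute g (x⁻¹ * g) := (hcomm.symm.inv_right).mul_right (Commute.refl g)
  exact h2.inv_right

/-- the number of factorizations in Külshammer's formula is `1` mod `p` at regular elements
centralizing a Sylow subgroup -/
theorem card_pairs_congr [hp : Fact p.Prime] (hM : IsPModular p M) (P : Sylow p G) {g : G}
    (hg : ¬ p ∣ orderOf g) (hgc : g ∈ Subgroup.centralizer ((P : Subgroup G) : Set G)) :
    MemLocalIdeal M ((Nat.card {xy : G × G // (∃ k : ℕ, orderOf xy.1 = p ^ k) ∧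
      ¬ p ∣ orderOf xy.2 ∧ xy.1 * xy.2 = g} : ℂ) - 1) := by
  classical
  haveI := pm_isPrime hM
  letI := Fintype.ofFinite G
  let f : G → ℂ := fun x => if (∃ k : ℕ, orderOf x = p ^ k) ∧ ¬ p ∣ orderOf (x⁻¹ * g) then 1 else 0
  have h1 : (Nat.card {xy : G × G // (∃ k : ℕ, orderOf xy.1 = p ^ k) ∧
      ¬ p ∣ orderOf xy.2 ∧ xy.1 * xy.2 = g} : ℂ) = ∑ x : G, f x := by
    have e : {xy : G × G // (∃ k : ℕ, orderOf xy.1 = p ^ k) ∧
        ¬ p ∣ orderOf xy.2 ∧ xy.1 * xy.2 = g} ≃
        {x : G // (∃ k : ℕ, orderOf x = p ^ k) ∧ ¬ p ∣ orderOf (x⁻¹ * g)} :=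
      { toFun := fun z => ⟨z.1.1, z.2.1, by
          have h := z.2.2.2
          have h' : z.1.1⁻¹ * g = z.1.2 := inv_mul_eq_iff_eq_mul.2 h.symm
          rw [h']; exact z.2.2.1⟩
        invFun := fun x => ⟨(x.1, x.1⁻¹ * g), x.2.1, x.2.2, by rw [mul_inv_cancel_left]⟩
        left_inv := fun z => by
          apply Subtype.ext
          apply Prod.ext
          · rfl
          · exact inv_mul_eq_iff_eq_mul.2 z.2.2.2.symm
        right_inv := fun x => rfl }
    rw [Nat.card_congr e, Nat.card_eq_fintype_card, Fintype.card_subtype, Finset.card_eq_sum_ones,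
      Finset.sum_filter]
    push_cast
    rfl
  have h2 : ∑ x : G, (if x ∈ Subgroup.centralizer ((P : Subgroup G) : Set G) then f x else 0) = 1 := by
    rw [Finset.sum_eq_single 1]
    · rw [if_pos (Subgroup.one_mem _)]
      apply if_pos
      refine ⟨⟨0, by simp⟩, ?_⟩
      rwa [inv_one, one_mul]
    · intro x _ hx
      split_ifs with hxc
      · apply if_neg
        rintro ⟨h3, h4⟩
        exact hx (eq_one_of_centralizes P hg hgc h3 hxc h4)
      · rfl
    · intro h; exact absurd (Finset.mem_univ _) h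
  have h3 := H19.BrMap.sum_centralizer_congr hM P.2 f (fun x => by
    show MemLocalRing M (if _ then (1:ℂ) else 0)
    split_ifs
    · exact locR_one
    · exact locR_zero) (fun q hq x => by
    have hqg : q * g = g * q := Subgroup.mem_centralizer_iff.1 hgc q hq
    have h5 : (q * x * q⁻¹)⁻¹ * g = q * (x⁻¹ * g) * q⁻¹ := by
      have : q * (x⁻¹ * g) * q⁻¹ = q * x⁻¹ * q⁻¹ * (q * g * q⁻¹) := by group
      rw [this, hqg]
      group
    show (if _ then (1:ℂ) else 0) = (if _ then (1:ℂ) else 0)
    rw [h5, H20.Orth.orderOf_conj, H20.Orth.orderOf_conj])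
  rw [h2] at h3
  rw [h1]
  exact h3

/-- The coefficient of the principal block idempotent at a regular element centralizing a Sylow
subgroup. -/
theorem blockCoeff_congr [hp : Fact p.Prime] (hM : IsPModular p M) (P : Sylow p G) {g : G}
    (hg : ¬ p ∣ orderOf g) (hgc : g ∈ Subgroup.centralizer ((P : Subgroup G) : Set G)) :
    MemLocalIdeal M (blockCoeff (principalBlock M G) g -
      ((Nat.card {y : G // ¬ p ∣ orderOf y} : ℂ))⁻¹) := by
  haveI := pm_isPrime hM
  have h1 := H20.Kuls.kulshammer hM hg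
  have h2 := card_pairs_congr hM P hg hgc
  refine locI_trans h1 ?_
  have h3 : ∀ a b : ℂ, a / b - b⁻¹ = b⁻¹ * (a - 1) := by
    intro a b
    rw [div_eq_mul_inv]; ring
  rw [h3]
  refine locI_mul_left (locR_inv (locR_natCast _) (H20.Kuls.not_dvd_card_regular hM)) h2

/-- The sum of the coefficients of the principal block idempotent over a subgroup normalized by a
Sylow subgroup is a unit. -/
theorem sum_blockCoeff_unit [hp : Fact p.Prime] (hM : IsPModular p M) (P : Sylow p G) (N : Subgroup G)
    [Fintype N] (hPN : (P : Subgroup G) ≤ Subgroup.normalizer (N : Set G)) :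
    ¬ MemLocalIdeal M (∑ n : N, blockCoeff (principalBlock M G) n) := by
  classical
  haveI := pm_isPrime hM
  letI := Fintype.ofFinite G
  let f : G → ℂ := fun x => if x ∈ N then blockCoeff (principalBlock M G) x else 0
  have h1 : ∑ n : N, blockCoeff (principalBlock M G) n = ∑ x : G, f x := by
    rw [← Finset.sum_filter, Finset.sum_subtype (p := fun g : G => g ∈ N) _ (by simp)]
  have h3 := H19.BrMap.sum_centralizer_congr hM P.2 f (fun x => by
    show MemLocalRing M (if _ then _ else 0)
    split_ifs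
    · exact blockCoeff_memR H78.PrincReal.isPBlock_principal _
    · exact locR_zero) (fun q hq x => by
    have h5 : q * x * q⁻¹ ∈ N ↔ x ∈ N := (Subgroup.mem_normalizer_iff.1 (hPN hq) x).symm
    exact if_congr h5 (blockCoeff_class _ x q) rfl)
  set K := N ⊓ Subgroup.centralizer ((P : Subgroup G) : Set G) with hK
  set c : ℂ := ((Nat.card {y : G // ¬ p ∣ orderOf y} : ℂ))⁻¹ with hc
  have h4 : MemLocalIdeal M ((∑ x : G, if x ∈ Subgroup.centralizer ((P : Subgroup G) : Set G) then
      f x else 0) - ∑ x : G, if x ∈ K ∧ ¬ p ∣ orderOf x then c else 0) := by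
    apply locI_sum_congr
    intro x _
    by_cases hxc : x ∈ Subgroup.centralizer ((P : Subgroup G) : Set G)
    · rw [if_pos hxc]
      by_cases hxN : x ∈ N
      · have h6 : f x = blockCoeff (principalBlock M G) x := if_pos hxN
        rw [h6]
        by_cases hx : p ∣ orderOf x
        · rw [blockCoeff_eq_zero hM (isUnion_of_isPBlock H78.PrincReal.isPBlock_principal) hx,
            if_neg (fun h => h.2 hx)]
          exact locI_refl _
        · rw [if_pos ⟨⟨hxN, hxc⟩, hx⟩]
          exact blockCoeff_congr hM P hx hxc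
      · have h6 : f x = 0 := if_neg hxN
        rw [h6, if_neg (fun h => hxN h.1.1)]
        exact locI_refl _
    · rw [if_neg hxc, if_neg (fun h => hxc h.1.2)]
      exact locI_refl _
  have h5 : (∑ x : G, if x ∈ K ∧ ¬ p ∣ orderOf x then c else 0) =
      (Nat.card {y : K // ¬ p ∣ orderOf y} : ℂ) * c := by
    have e : {y : K // ¬ p ∣ orderOf y} ≃ {x : G // x ∈ K ∧ ¬ p ∣ orderOf x} :=
      { toFun := fun y => ⟨y.1.1, y.1.2, by rw [Subgroup.orderOf_coe]; exact y.2⟩
        invFun := fun x => ⟨⟨x.1, x.2.1⟩, by rw [← Subgroup.orderOf_coe]; exact x.2.2⟩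
        left_inv := fun y => rfl
        right_inv := fun x => rfl }
    rw [Nat.card_congr e, Nat.card_eq_fintype_card, Fintype.card_subtype, Finset.card_eq_sum_ones,
      Finset.sum_filter]
    push_cast
    rw [Finset.sum_mul]
    refine Finset.sum_congr rfl fun x _ => ?_
    split_ifs
    · rw [one_mul]
    · rw [zero_mul]
  rw [h5] at h4
  have h6 : MemLocalIdeal M ((∑ n : N, blockCoeff (principalBlock M G) n) -
      (Nat.card {y : K // ¬ p ∣ orderOf y} : ℂ) * c) := by
    rw [h1]
    exact locI_trans h3 h4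
  intro h7
  have h8 : MemLocalIdeal M ((Nat.card {y : K // ¬ p ∣ orderOf y} : ℂ) * c) := (locI_congr h6).1 h7
  have hcR : MemLocalRing M c := locR_inv (locR_natCast _) (H20.Kuls.not_dvd_card_regular hM)
  rcases locI_or_locI (locR_natCast _) hcR h8 with h9 | h9
  · exact H20.Kuls.not_dvd_card_regular hM h9
  · have h10 : MemLocalIdeal M (c * (Nat.card {y : G // ¬ p ∣ orderOf y} : ℂ)) :=
      locI_mul_right h9 (locR_natCast _)
    rw [hc, inv_mul_cancel₀] at h10
    · have h12 := (locI_natCast_iff hM (n := 1)).1 (by rwa [Nat.cast_one])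
      exact hp.out.one_lt.ne' (Nat.dvd_one.1 h12)
    · intro h11
      apply H20.Kuls.not_dvd_card_regular (G := G) hM
      rw [h11]
      exact locI_zero

/-- Let `P ≤ H`, `N ≤ H` normalized by `P`, containing the `p`-regular elements of `H`, and let
`η ∈ Irr H` restrict to `θ` of `p'`-degree in the principal block of `N`. Then some `χ` of
`p'`-degree in the principal block of `G` lies over `η`. -/
theorem exists_over [hp : Fact p.Prime] (hM : IsPModular p M) (P : Sylow p G) (H N : Subgroup G)
    (hPH : (P : Subgroup G) ≤ H) (hPN : (P : Subgroup G) ≤ Subgroup.normalizer (N : Set G))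
    (hNH : N ≤ H) (hreg : ∀ h ∈ H, ¬ p ∣ orderOf h → h ∈ N) [Fintype H] {η : H → ℂ}
    (hη : IsIrrCharacter H η) (θ : IrrCharacter N) (hθ : θ ∈ principalBlock M N)
    (hres : ∀ n : N, η ⟨n, hNH n.2⟩ = (θ : N → ℂ) n) (hdeg : ¬ p ∣ charDegree (θ : N → ℂ)) :
    ∃ χ : IrrCharacter G, χ ∈ principalBlock M G ∧ ¬ p ∣ charDegree (χ : G → ℂ) ∧
      classInner (fun h : H => (χ : G → ℂ) h) η ≠ 0 := by
  classical
  haveI := pm_isPrime hM
  letI := Fintype.ofFinite G
  letI := Fintype.ofFinite N
  letI : Fintype (IrrCharacter G) := Fintype.ofFinite _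
  by_contra hcon
  push Not at hcon
  set B := principalBlock M G with hB
  have hPB : IsPBlock M B := H78.PrincReal.isPBlock_principal
  set S : ℂ := ∑ χ : IrrCharacter G, if χ ∈ B then
    classInner η (fun h : H => (χ : G → ℂ) h) * (χ : G → ℂ) 1 else 0 with hS
  have h1 : MemLocalIdeal M S := by
    apply locI_sum
    intro χ _
    by_cases hχ : χ ∈ B
    · rw [if_pos hχ]
      obtain ⟨m, hm⟩ := inner_char_natCast (isCharacter_of_isIrr hη)
        (isCharacter_restrict H (isCharacter_of_isIrr χ.2))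
      rw [hm, ← charDegree_irr χ]
      by_cases hm0 : m = 0
      · rw [hm0, Nat.cast_zero, zero_mul]; exact locI_zero
      · apply locI_mul_left (locR_natCast m)
        rw [locI_natCast_iff hM]
        by_contra hpd
        have h2 := hcon χ hχ hpd
        rw [← H18.CharOrtho.inner_conj_symm, hm, Complex.conj_natCast] at h2
        exact hm0 (by exact_mod_cast h2)
    · rw [if_neg hχ]; exact locI_zero
  have h2 : ∑ h : H, η h * blockCoeff B h = (Nat.card G : ℂ)⁻¹ * ((Nat.card H : ℂ) * S) := by
    have h3 : ∀ h : H, η h * blockCoeff B h = (Nat.card G : ℂ)⁻¹ * ∑ χ : IrrCharacter G,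
        if χ ∈ B then (χ : G → ℂ) 1 * (η h * conj ((χ : G → ℂ) h)) else 0 := by
      intro h
      rw [blockCoeff_eq_sum, mul_left_comm, Finset.mul_sum]
      congr 1
      refine Finset.sum_congr rfl fun χ _ => ?_
      split_ifs
      · ring
      · rw [mul_zero]
    rw [Finset.sum_congr rfl (fun h _ => h3 h), ← Finset.mul_sum, Finset.sum_comm]
    congr 1
    rw [hS, Finset.mul_sum]
    refine Finset.sum_congr rfl fun χ _ => ?_
    by_cases hχ : χ ∈ B
    · simp only [if_pos hχ]
      rw [← Finset.mul_sum, classInner]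
      have hc : (Nat.card H : ℂ) ≠ 0 := card_ne_zero'
      field_simp
    · simp only [if_neg hχ]
      rw [Finset.sum_const_zero, mul_zero]
  have h3 : ∑ h : H, η h * blockCoeff B h = ∑ n : N, (θ : N → ℂ) n * blockCoeff B n := by
    symm
    apply Fintype.sum_of_injective (fun n : N => (⟨n, hNH n.2⟩ : H))
    · intro a b hab
      exact Subtype.ext (congrArg (fun z : H => (z : G)) hab)
    · intro h hh
      have h4 : (h : G) ∉ N := fun h' => hh ⟨⟨h, h'⟩, rfl⟩
      have h5 : p ∣ orderOf (h : G) := by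
        by_contra h6
        exact h4 (hreg _ h.2 h6)
      rw [blockCoeff_eq_zero hM (isUnion_of_isPBlock hPB) h5, mul_zero]
    · intro n
      rw [hres]
  have hθ1 : (θ : N → ℂ) 1 ≠ 0 := irr_one_ne_zero θ.2
  have h4 : ∑ n : N, (θ : N → ℂ) n * blockCoeff B n =
      (θ : N → ℂ) 1 * omega θ (H19.Second3.trunc N (eB B)) := by
    rw [omega_eq_sum, mul_div_cancel₀ _ hθ1]
    refine Finset.sum_congr rfl fun n _ => ?_
    rw [mul_comm]
    rfl
  have h5 : omega (one N) (H19.Second3.trunc N (eB B)) = ∑ n : N, blockCoeff B n := by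
    rw [omega_eq_sum]
    show (∑ n : N, blockCoeff B n * 1) / 1 = _
    rw [div_one]
    exact Finset.sum_congr rfl fun n _ => mul_one _
  have h6 : ¬ MemLocalIdeal M (omega θ (H19.Second3.trunc N (eB B))) := by
    have h7 : SameBlock M (one N : N → ℂ) (θ : N → ℂ) := hθ
    have h8 := sameBlock_iff.1 h7 _ (H19.Second3.trunc_mem N (eB_mem hPB))
    rw [← locI_congr h8, h5]
    exact sum_blockCoeff_unit hM P N hPN
  have hcG : (Nat.card G : ℂ) ≠ 0 := card_ne_zero'
  have hcH : (Nat.card H : ℂ) ≠ 0 := card_ne_zero'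
  have h7 : S = (H.index : ℂ) * ((θ : N → ℂ) 1 * omega θ (H19.Second3.trunc N (eB B))) := by
    rw [← h4, ← h3, h2]
    have h8 : (Nat.card G : ℂ) = Nat.card H * H.index := by
      rw [← H.card_mul_index]; push_cast; rfl
    rw [h8] at hcG ⊢
    have hI : (H.index : ℂ) ≠ 0 := right_ne_zero_of_mul hcG
    field_simp
  rw [h7] at h1
  have hdvd : ¬ p ∣ H.index := by
    intro h
    exact P.not_dvd_index (h.trans (Subgroup.index_dvd_of_le hPH))
  have h8 : MemLocalRing M (omega θ (H19.Second3.trunc N (eB B))) :=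
    omega_mem θ (H19.Second3.trunc_mem N (eB_mem hPB))
  rcases locI_or_locI (locR_natCast _) (locR_mul (by rw [← charDegree_irr θ]; exact locR_natCast _) h8) h1 with h9 | h9
  · exact hdvd ((locI_natCast_iff hM).1 h9)
  · rcases locI_or_locI (by rw [← charDegree_irr θ]; exact locR_natCast _) h8 h9 with h10 | h10
    · rw [← charDegree_irr θ] at h10
      exact hdeg ((locI_natCast_iff hM).1 h10)
    · exact h6 h10

end H79.BlkExt
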