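import Mathlib

/-! Sylow 2-subgroups of dihedral groups of order divisible by 8. -/

set_option autoImplicit false
set_option linter.unusedSectionVars false
set_option linter.style.haveILetI false

namespace H79.DihTwo

open Subgroup DihedralGroup
open scoped commutatorElement

/-- generators of a Sylow 2-subgroup -/
structure Dih {G : Type*} [Group G] (D : Subgroup G) (ρ s : G) : Prop where
  hρ : ρ ∈ D
  hs : s ∈ D
  hss : s * s = 1
  hsρ : s * ρ * s⁻¹ = ρ⁻¹
  all : ∀ x ∈ D, ∃ k : ℤ, x = ρ ^ k ∨ x = s * ρ ^ k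

theorem dih_exists {N : ℕ} (hN0 : N ≠ 0) (D : Sylow 2 (DihedralGroup N)) :
    ∃ ρ s, Dih (D : Subgroup (DihedralGroup N)) ρ s := by
  haveI : Fact (Nat.Prime 2) := ⟨Nat.prime_two⟩
  haveI : NeZero N := ⟨hN0⟩
  -- a reflection in `D`
  have h1 : ∃ i, (sr i : DihedralGroup N) ∈ (D : Subgroup (DihedralGroup N)) := by
    by_contra hcon
    push Not at hcon
    have hle : (D : Subgroup (DihedralGroup N)) ≤ zpowers (r 1 : DihedralGroup N) := by
      intro x hx
      rcases x with i | i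
      · rw [mem_zpowers_iff]
        refine ⟨(i.val : ℤ), ?_⟩
        rw [zpow_natCast, DihedralGroup.r_one_pow]
        simp
      · exact absurd hx (hcon i)
    have h2 := Subgroup.card_dvd_of_le hle
    rw [Nat.card_zpowers, DihedralGroup.orderOf_r_one] at h2
    have h3 : Nat.card (D : Subgroup (DihedralGroup N)) = 2 ^ (Nat.card (DihedralGroup N)).factorization 2 :=
      D.card_eq_multiplicity
    rw [h3, DihedralGroup.nat_card, Nat.factorization_mul (by norm_num) hN0] at h2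
    simp only [Finsupp.coe_add, Pi.add_apply, Nat.Prime.factorization_self Nat.prime_two] at h2
    have h4 := (Nat.Prime.pow_dvd_iff_le_factorization Nat.prime_two hN0).1 h2
    omega
  obtain ⟨i₀, hi₀⟩ := h1
  -- the rotations in `D`
  haveI : IsCyclic (zpowers (r 1 : DihedralGroup N)) := inferInstance
  obtain ⟨⟨ρ, hρz⟩, hρ⟩ := IsCyclic.exists_generator (α := (D : Subgroup (DihedralGroup N)).subgroupOf (zpowers (r 1 : DihedralGroup N)))
  have hρD : (ρ : DihedralGroup N) ∈ (D : Subgroup (DihedralGroup N)) := hρz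
  have hrot : ∀ i, (r i : DihedralGroup N) ∈ (D : Subgroup (DihedralGroup N)) →
      ∃ k : ℤ, (r i : DihedralGroup N) = (ρ : DihedralGroup N) ^ k := by
    intro i hi
    have h2 : (r i : DihedralGroup N) ∈ zpowers (r 1 : DihedralGroup N) := by
      rw [mem_zpowers_iff]
      refine ⟨(i.val : ℤ), ?_⟩
      rw [zpow_natCast, DihedralGroup.r_one_pow]
      simp
    obtain ⟨k, hk⟩ := mem_zpowers_iff.1 (hρ ⟨⟨r i, h2⟩, hi⟩)
    refine ⟨k, ?_⟩
    have h3 := congrArg (fun x : (D : Subgroup (DihedralGroup N)).subgroupOf (zpowers (r 1 : DihedralGroup N)) =>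
      ((x : zpowers (r 1 : DihedralGroup N)) : DihedralGroup N)) hk
    simpa using h3.symm
  obtain ⟨j, hj⟩ : ∃ j, (ρ : DihedralGroup N) = r j := by
    obtain ⟨k, hk⟩ := mem_zpowers_iff.1 ρ.2
    refine ⟨(k : ZMod N), ?_⟩
    rw [← hk, DihedralGroup.r_one_zpow]
  refine ⟨(ρ : DihedralGroup N), sr i₀, hρD, hi₀, ?_, ?_, ?_⟩
  · rw [DihedralGroup.sr_mul_self]
  · rw [hj, mul_inv_eq_iff_eq_mul, DihedralGroup.sr_mul_r, DihedralGroup.inv_r, DihedralGroup.r_mul_sr]
    congr 1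
    ring
  · intro x hx
    rcases x with i | i
    · obtain ⟨k, hk⟩ := hrot i hx
      exact ⟨k, Or.inl hk⟩
    · have h2 : (sr i₀ : DihedralGroup N) * sr i ∈ (D : Subgroup (DihedralGroup N)) := mul_mem hi₀ hx
      rw [DihedralGroup.sr_mul_sr] at h2
      obtain ⟨k, hk⟩ := hrot _ h2
      refine ⟨k, Or.inr ?_⟩
      rw [← hk, ← DihedralGroup.sr_mul_sr, ← mul_assoc, DihedralGroup.sr_mul_self, one_mul]

theorem dih_of_equiv {G : Type*} [Group G] [Finite G] {N : ℕ} (hN0 : N ≠ 0) (e : G ≃* DihedralGroup N)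
    (D : Sylow 2 G) : ∃ ρ s, Dih (D : Subgroup G) ρ s := by
  haveI : Fact (Nat.Prime 2) := ⟨Nat.prime_two⟩
  haveI : NeZero N := ⟨hN0⟩
  obtain ⟨ρ, s, h⟩ := dih_exists hN0 (D.mapSurjective (f := e.toMonoidHom) e.surjective)
  have hmem : ∀ x, x ∈ ((D.mapSurjective (f := e.toMonoidHom) e.surjective : Sylow 2 (DihedralGroup N)) : Subgroup (DihedralGroup N)) ↔
      e.symm x ∈ (D : Subgroup G) := by
    intro x
    constructor
    · rintro ⟨y, hy, rfl⟩
      have h1 : e.symm (e.toMonoidHom y) = y := e.symm_apply_apply y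
      rw [h1]
      exact hy
    · intro hx
      exact ⟨e.symm x, hx, e.apply_symm_apply x⟩
  refine ⟨e.symm ρ, e.symm s, (hmem ρ).1 h.hρ, (hmem s).1 h.hs, ?_, ?_, ?_⟩
  · rw [← map_mul, h.hss, map_one]
  · rw [← map_inv, ← map_mul, ← map_mul, h.hsρ, map_inv]
  · intro x hx
    obtain ⟨k, hk⟩ := h.all (e x) ((hmem _).2 (by rw [e.symm_apply_apply]; exact hx))
    refine ⟨k, ?_⟩
    rcases hk with hk | hk
    · left; rw [← map_zpow, ← hk, e.symm_apply_apply]
    · right; rw [← map_zpow, ← map_mul, ← hk, e.symm_apply_apply]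

variable {G : Type*} [Group G] {D : Subgroup G} {ρ s : G}

theorem Dih.inv_zpow (h : Dih D ρ s) (k : ℤ) : s * ρ ^ k * s⁻¹ = (ρ ^ k)⁻¹ := by
  rw [← conj_zpow, h.hsρ, _root_.inv_zpow]

theorem Dih.sq (h : Dih D ρ s) (k : ℤ) : (s * ρ ^ k) ^ 2 = 1 := by
  have hs' : s⁻¹ = s := inv_eq_of_mul_eq_one_left h.hss
  have h1 := h.inv_zpow k
  rw [pow_two]
  calc s * ρ ^ k * (s * ρ ^ k) = (s * ρ ^ k * s⁻¹) * ρ ^ k := by rw [hs']; group
    _ = 1 := by rw [h1, inv_mul_cancel]

theorem Dih.le_closure (h : Dih D ρ s) : D ≤ closure {x | x ∈ D ∧ x ^ 2 = 1} := by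
  have hs1 : s ∈ closure {x | x ∈ D ∧ x ^ 2 = 1} := subset_closure ⟨h.hs, by rw [pow_two, h.hss]⟩
  intro x hx
  obtain ⟨k, hk | hk⟩ := h.all x hx
  · have h1 : s * ρ ^ k ∈ closure {x | x ∈ D ∧ x ^ 2 = 1} :=
      subset_closure ⟨mul_mem h.hs (zpow_mem h.hρ k), h.sq k⟩
    have h2 : x = s⁻¹ * (s * ρ ^ k) := by rw [hk]; group
    rw [h2]
    exact mul_mem (inv_mem hs1) h1
  · exact subset_closure ⟨hx, by rw [hk]; exact h.sq k⟩

/-- elements killed by a map onto a four-group are commutators in a strong sense -/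
theorem Dih.comm (h : Dih D ρ s) {K : Type*} [CommGroup K] (hK : ∀ k : K, k * k = 1) (θ : G →* K)
    (hc : Nat.card (D.map θ) = 4) (n : G) (hn : n ∈ D) (hn1 : θ n = 1) :
    ∃ a ∈ D, ∃ g ∈ D, ⁅a, g⁆ = n ∧ ⁅a, g⁻¹⁆ = n⁻¹ := by
  have hz : ∀ k : ℤ, θ (ρ ^ k) = 1 ∨ θ (ρ ^ k) = θ ρ := by
    intro k
    rcases Int.even_or_odd k with ⟨j, hj⟩ | ⟨j, hj⟩
    · left
      rw [hj, zpow_add, map_mul, hK]
    · right
      rw [hj, zpow_add, zpow_one, map_mul, two_mul, zpow_add, map_mul, hK, one_mul]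
  have hodd : ∀ j : ℤ, θ (ρ ^ (2 * j + 1)) = θ ρ := by
    intro j
    rw [zpow_add, zpow_one, map_mul, two_mul, zpow_add, map_mul, hK, one_mul]
  have hcard : ∀ u v : K, ¬ Nat.card ({1, u, v, v * u} : Set K) < 4 →
      u ≠ 1 ∧ v ≠ 1 ∧ v * u ≠ 1 := by
    intro u v hlt
    refine ⟨?_, ?_, ?_⟩
    · rintro rfl
      apply hlt
      have h1 : ({1, 1, v, v * 1} : Set K) = {1, v} := by ext x; simp
      rw [h1, Nat.card_coe_set_eq]
      exact lt_of_le_of_lt (Set.ncard_insert_le _ _) (by rw [Set.ncard_singleton]; norm_num)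
    · rintro rfl
      apply hlt
      have h1 : ({1, u, 1, 1 * u} : Set K) = {1, u} := by ext x; simp
      rw [h1, Nat.card_coe_set_eq]
      exact lt_of_le_of_lt (Set.ncard_insert_le _ _) (by rw [Set.ncard_singleton]; norm_num)
    · intro h0
      apply hlt
      have h1 : ({1, u, v, v * u} : Set K) = {1, u, v} := by rw [h0]; ext x; simp; tauto
      rw [h1, Nat.card_coe_set_eq]
      refine lt_of_le_of_lt (Set.ncard_insert_le _ _) ?_
      have := Set.ncard_insert_le u ({v} : Set K)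
      rw [Set.ncard_singleton] at this
      omega
  have hsub : ((D.map θ : Subgroup K) : Set K) ⊆ ({1, θ ρ, θ s, θ s * θ ρ} : Set K) := by
    rintro _ ⟨x, hx, rfl⟩
    obtain ⟨k, hk | hk⟩ := h.all x hx
    · rw [hk]
      rcases hz k with h1 | h1
      · rw [h1]; simp
      · rw [h1]; simp
    · rw [hk, map_mul]
      rcases hz k with h1 | h1
      · rw [h1]; simp
      · rw [h1]; simp
  have hnlt : ¬ Nat.card ({1, θ ρ, θ s, θ s * θ ρ} : Set K) < 4 := by
    have h1 : Nat.card (D.map θ) ≤ Nat.card ({1, θ ρ, θ s, θ s * θ ρ} : Set K) := by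
      haveI : Finite ({1, θ ρ, θ s, θ s * θ ρ} : Set K) := (Set.toFinite _).to_subtype
      exact Nat.card_mono (Set.toFinite _) hsub
    omega
  obtain ⟨hu, hv, hvu⟩ := hcard _ _ hnlt
  obtain ⟨k, hk | hk⟩ := h.all n hn
  · rcases Int.even_or_odd k with ⟨j, hj⟩ | ⟨j, hj⟩
    · refine ⟨s, h.hs, ρ ^ (-j), zpow_mem h.hρ _, ?_, ?_⟩
      · rw [commutatorElement_def, h.inv_zpow, hk, hj]
        group
      · rw [commutatorElement_def, ← zpow_neg, h.inv_zpow, hk, hj]
        group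
    · exfalso
      rw [hk, hj, hodd] at hn1
      exact hu hn1
  · exfalso
    rw [hk, map_mul] at hn1
    rcases hz k with h1 | h1
    · rw [h1, mul_one] at hn1; exact hv hn1
    · rw [h1] at hn1; exact hvu hn1

end H79.DihTwo
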