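import Mathlib
import Cfsg.Prelude.Def_G2
import Cfsg.Agent.Lib.H17.OrthTrans

/-! The split octonions as `M₂(F) ⊕ M₂(F)` (Cayley–Dickson), their automorphism group, and the
centralizer of an involution. -/

set_option autoImplicit false
set_option linter.unusedSectionVars false
set_option linter.style.haveILetI false

namespace H79.G2CD

open Matrix
open scoped MatrixGroups

variable {F : Type*} [Field F]

/-- 2×2 matrices -/
abbrev M2 (F : Type*) : Type _ := Matrix (Fin 2) (Fin 2) F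

/-- the space -/
abbrev O8 (F : Type*) : Type _ := M2 F × M2 F

/-- Cayley–Dickson product -/
def cd (x y : O8 F) : O8 F :=
  (x.1 * y.1 + y.2.adjugate * x.2, y.2 * x.1 + x.2 * y.1.adjugate)

theorem cd_apply (x y : O8 F) :
    cd x y = (x.1 * y.1 + y.2.adjugate * x.2, y.2 * x.1 + x.2 * y.1.adjugate) := rfl

theorem adj_eq (X : M2 F) : X.adjugate = X.trace • (1 : M2 F) - X := by
  ext i j
  fin_cases i <;> fin_cases j <;> simp [Matrix.adjugate_fin_two, Matrix.trace_fin_two]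

theorem adj_conj (c : GL (Fin 2) F) (X : M2 F) :
    ((c : M2 F) * X * ((c⁻¹ : GL (Fin 2) F) : M2 F)).adjugate =
      (c : M2 F) * X.adjugate * ((c⁻¹ : GL (Fin 2) F) : M2 F) := by
  have h1 : (c : M2 F) * ((c⁻¹ : GL (Fin 2) F) : M2 F) = 1 := by
    rw [← Units.val_mul, mul_inv_cancel, Units.val_one]
  have h2 : ((c⁻¹ : GL (Fin 2) F) : M2 F) * (c : M2 F) = 1 := by
    rw [← Units.val_mul, inv_mul_cancel, Units.val_one]
  rw [adj_eq, adj_eq, Matrix.trace_mul_cycle, h2, Matrix.one_mul, Matrix.mul_sub, Matrix.sub_mul,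
    Matrix.mul_smul, Matrix.smul_mul, Matrix.mul_one, h1]

/-- the automorphism group -/
def A (F : Type*) [Field F] : Subgroup (O8 F ≃ₗ[F] O8 F) where
  carrier := {g | ∀ x y, g (cd x y) = cd (g x) (g y)}
  mul_mem' := by
    intro a b ha hb x y
    rw [LinearEquiv.mul_apply, hb, ha]; rfl
  one_mem' := fun x y => rfl
  inv_mem' := by
    intro a ha x y
    have h := ha (a⁻¹ x) (a⁻¹ y)
    have e : ∀ z, a (a⁻¹ z) = z := fun z => by
      rw [← LinearEquiv.mul_apply, mul_inv_cancel]; rfl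
    rw [e, e] at h
    rw [← h, ← LinearEquiv.mul_apply, inv_mul_cancel]; rfl

theorem mem_A {g : O8 F ≃ₗ[F] O8 F} : g ∈ A F ↔ ∀ x y, g (cd x y) = cd (g x) (g y) := Iff.rfl

/-- conjugation by `c` -/
def kapL (c : GL (Fin 2) F) : O8 F ≃ₗ[F] O8 F where
  toFun x := ((c : M2 F) * x.1 * ((c⁻¹ : GL (Fin 2) F) : M2 F), (c : M2 F) * x.2 * ((c⁻¹ : GL (Fin 2) F) : M2 F))
  map_add' x y := by
    simp only [Prod.fst_add, Prod.snd_add, Matrix.mul_add, Matrix.add_mul]; rfl
  map_smul' r x := by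
    simp only [Prod.smul_fst, Prod.smul_snd, Matrix.mul_smul, Matrix.smul_mul]; rfl
  invFun x := (((c⁻¹ : GL (Fin 2) F) : M2 F) * x.1 * (c : M2 F), ((c⁻¹ : GL (Fin 2) F) : M2 F) * x.2 * (c : M2 F))
  left_inv x := by
    have h2 : ((c⁻¹ : GL (Fin 2) F) : M2 F) * (c : M2 F) = 1 := by
      rw [← Units.val_mul, inv_mul_cancel, Units.val_one]
    refine Prod.ext ?_ ?_
    · show ((c⁻¹ : GL (Fin 2) F) : M2 F) * ((c : M2 F) * x.1 * ((c⁻¹ : GL (Fin 2) F) : M2 F)) * (c : M2 F) = x.1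
      rw [← Matrix.mul_assoc, ← Matrix.mul_assoc, h2, Matrix.one_mul, Matrix.mul_assoc, h2, Matrix.mul_one]
    · show ((c⁻¹ : GL (Fin 2) F) : M2 F) * ((c : M2 F) * x.2 * ((c⁻¹ : GL (Fin 2) F) : M2 F)) * (c : M2 F) = x.2
      rw [← Matrix.mul_assoc, ← Matrix.mul_assoc, h2, Matrix.one_mul, Matrix.mul_assoc, h2, Matrix.mul_one]
  right_inv x := by
    have h1 : (c : M2 F) * ((c⁻¹ : GL (Fin 2) F) : M2 F) = 1 := by
      rw [← Units.val_mul, mul_inv_cancel, Units.val_one]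
    refine Prod.ext ?_ ?_
    · show (c : M2 F) * (((c⁻¹ : GL (Fin 2) F) : M2 F) * x.1 * (c : M2 F)) * ((c⁻¹ : GL (Fin 2) F) : M2 F) = x.1
      rw [← Matrix.mul_assoc, ← Matrix.mul_assoc, h1, Matrix.one_mul, Matrix.mul_assoc, h1, Matrix.mul_one]
    · show (c : M2 F) * (((c⁻¹ : GL (Fin 2) F) : M2 F) * x.2 * (c : M2 F)) * ((c⁻¹ : GL (Fin 2) F) : M2 F) = x.2
      rw [← Matrix.mul_assoc, ← Matrix.mul_assoc, h1, Matrix.one_mul, Matrix.mul_assoc, h1, Matrix.mul_one]

theorem kapL_apply (c : GL (Fin 2) F) (x : O8 F) : kapL c x =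
    ((c : M2 F) * x.1 * ((c⁻¹ : GL (Fin 2) F) : M2 F), (c : M2 F) * x.2 * ((c⁻¹ : GL (Fin 2) F) : M2 F)) := rfl

theorem conj_mul' (c : GL (Fin 2) F) (X Y : M2 F) :
    (c : M2 F) * (X * Y) * ((c⁻¹ : GL (Fin 2) F) : M2 F) =
      ((c : M2 F) * X * ((c⁻¹ : GL (Fin 2) F) : M2 F)) * ((c : M2 F) * Y * ((c⁻¹ : GL (Fin 2) F) : M2 F)) := by
  have h2 : ((c⁻¹ : GL (Fin 2) F) : M2 F) * (c : M2 F) = 1 := by
    rw [← Units.val_mul, inv_mul_cancel, Units.val_one]
  calc (c : M2 F) * (X * Y) * ((c⁻¹ : GL (Fin 2) F) : M2 F)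
      = (c : M2 F) * X * (1 : M2 F) * Y * ((c⁻¹ : GL (Fin 2) F) : M2 F) := by
        rw [Matrix.mul_one, Matrix.mul_assoc (c : M2 F) X Y]
    _ = _ := by
        rw [← h2]
        simp only [Matrix.mul_assoc]

/-- conjugations as automorphisms -/
def kap : GL (Fin 2) F →* A F where
  toFun c := ⟨kapL c, by
    intro x y
    rw [cd_apply, cd_apply, kapL_apply, kapL_apply, kapL_apply]
    refine Prod.ext ?_ ?_
    · simp only
      rw [adj_conj, Matrix.mul_add, Matrix.add_mul, conj_mul', conj_mul']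
    · simp only
      rw [adj_conj, Matrix.mul_add, Matrix.add_mul, conj_mul', conj_mul']⟩
  map_one' := by
    apply Subtype.ext
    apply LinearEquiv.ext
    intro x
    show kapL 1 x = x
    rw [kapL_apply]
    simp
  map_mul' c d := by
    apply Subtype.ext
    apply LinearEquiv.ext
    intro x
    show kapL (c * d) x = kapL c (kapL d x)
    rw [kapL_apply, kapL_apply, kapL_apply, _root_.mul_inv_rev, Units.val_mul, Units.val_mul]
    simp only [Matrix.mul_assoc]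

theorem kap_apply (c : GL (Fin 2) F) (x : O8 F) : (kap c : O8 F ≃ₗ[F] O8 F) x =
    ((c : M2 F) * x.1 * ((c⁻¹ : GL (Fin 2) F) : M2 F), (c : M2 F) * x.2 * ((c⁻¹ : GL (Fin 2) F) : M2 F)) := rfl

theorem sl_mul_inv (p : SL(2, F)) : p.1 * (p⁻¹).1 = (1 : M2 F) := congrArg Subtype.val (mul_inv_cancel p)

theorem sl_inv_mul (p : SL(2, F)) : (p⁻¹).1 * p.1 = (1 : M2 F) := congrArg Subtype.val (inv_mul_cancel p)

/-- left multiplications on the second component -/
def lam : SL(2, F) →* A F where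
  toFun p := ⟨{ toFun := fun x => (x.1, p.1 * x.2)
                map_add' := fun x y => by simp only [Prod.fst_add, Prod.snd_add, Matrix.mul_add]; rfl
                map_smul' := fun r x => by simp only [Prod.smul_fst, Prod.smul_snd, Matrix.mul_smul]; rfl
                invFun := fun x => (x.1, (p⁻¹).1 * x.2)
                left_inv := fun x => by
                  refine Prod.ext rfl ?_
                  show (p⁻¹).1 * (p.1 * x.2) = x.2
                  rw [← Matrix.mul_assoc, sl_inv_mul, Matrix.one_mul]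
                right_inv := fun x => by
                  refine Prod.ext rfl ?_
                  show p.1 * ((p⁻¹).1 * x.2) = x.2
                  rw [← Matrix.mul_assoc, sl_mul_inv, Matrix.one_mul] }, by
    intro x y
    show ((cd x y).1, p.1 * (cd x y).2) = cd (x.1, p.1 * x.2) (y.1, p.1 * y.2)
    rw [cd_apply, cd_apply]
    refine Prod.ext ?_ ?_
    · simp only
      rw [Matrix.adjugate_mul_distrib, Matrix.mul_assoc, ← Matrix.mul_assoc p.1.adjugate, Matrix.adjugate_mul,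
        p.2, one_smul, Matrix.one_mul]
    · simp only
      rw [Matrix.mul_add, Matrix.mul_assoc, Matrix.mul_assoc]⟩
  map_one' := by
    apply Subtype.ext
    apply LinearEquiv.ext
    intro x
    refine Prod.ext rfl ?_
    show (1 : M2 F) * x.2 = x.2
    rw [Matrix.one_mul]
  map_mul' p q := by
    apply Subtype.ext
    apply LinearEquiv.ext
    intro x
    refine Prod.ext rfl ?_
    show (p.1 * q.1) * x.2 = p.1 * (q.1 * x.2)
    rw [Matrix.mul_assoc]

theorem lam_apply (p : SL(2, F)) (x : O8 F) : (lam p : O8 F ≃ₗ[F] O8 F) x = (x.1, p.1 * x.2) := rfl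

/-- `c p c⁻¹` in `SL_2` -/
def cj (c : GL (Fin 2) F) (p : SL(2, F)) : SL(2, F) :=
  ⟨(c : M2 F) * p.1 * ((c⁻¹ : GL (Fin 2) F) : M2 F), by
    have h1 : (c : M2 F) * ((c⁻¹ : GL (Fin 2) F) : M2 F) = 1 := by
      rw [← Units.val_mul, mul_inv_cancel, Units.val_one]
    have h3 := congrArg Matrix.det h1
    rw [Matrix.det_mul, Matrix.det_one] at h3
    rw [Matrix.det_mul, Matrix.det_mul, p.2, mul_one, h3]⟩

theorem cj_val (c : GL (Fin 2) F) (p : SL(2, F)) :
    (cj c p).1 = (c : M2 F) * p.1 * ((c⁻¹ : GL (Fin 2) F) : M2 F) := rfl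

theorem toGL_cj (c : GL (Fin 2) F) (p : SL(2, F)) :
    (SpecialLinearGroup.toGL (cj c p) : GL (Fin 2) F) = c * SpecialLinearGroup.toGL p * c⁻¹ := by
  apply Units.ext
  rfl

theorem kap_lam (c : GL (Fin 2) F) (p : SL(2, F)) : kap c * lam p * (kap c)⁻¹ = lam (cj c p) := by
  rw [mul_inv_eq_iff_eq_mul]
  apply Subtype.ext
  apply LinearEquiv.ext
  intro x
  show (kap c : O8 F ≃ₗ[F] O8 F) ((lam p : O8 F ≃ₗ[F] O8 F) x) =
    (lam (cj c p) : O8 F ≃ₗ[F] O8 F) ((kap c : O8 F ≃ₗ[F] O8 F) x)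
  have h2 : ((c⁻¹ : GL (Fin 2) F) : M2 F) * (c : M2 F) = 1 := by
    rw [← Units.val_mul, inv_mul_cancel, Units.val_one]
  rw [lam_apply, kap_apply, kap_apply, lam_apply]
  refine Prod.ext rfl ?_
  show (c : M2 F) * (p.1 * x.2) * ((c⁻¹ : GL (Fin 2) F) : M2 F) =
    ((c : M2 F) * p.1 * ((c⁻¹ : GL (Fin 2) F) : M2 F)) * ((c : M2 F) * x.2 * ((c⁻¹ : GL (Fin 2) F) : M2 F))
  rw [← conj_mul']

/-- the involution -/
def tt (F : Type*) [Field F] : A F := lam (-1)

theorem tt_apply (x : O8 F) : (tt F : O8 F ≃ₗ[F] O8 F) x = (x.1, -x.2) := by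
  rw [tt, lam_apply]
  refine Prod.ext rfl ?_
  show (-(1 : M2 F)) * x.2 = -x.2
  rw [Matrix.neg_mul, Matrix.one_mul]

end H79.G2CD
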