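import Cfsg.Agent.Lib.H79.G2Iso
import Cfsg.Agent.Lib.H79.GLWr

/-! The centralizer of the involution in `G₂(F)`. -/

set_option autoImplicit false
set_option linter.unusedSectionVars false
set_option linter.style.haveILetI false

namespace H79.G2Cent

open Matrix H79.G2CD H79.G2Iso
open scoped MatrixGroups

variable {F : Type*} [Field F]

theorem cd_zero_right (X Y : M2 F) : cd (X, 0) (Y, 0) = (X * Y, (0 : M2 F)) := by
  rw [cd_apply]; simp

theorem cd_left (X Y : M2 F) : cd (X, 0) (0, Y) = ((0 : M2 F), Y * X) := by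
  rw [cd_apply]; simp

theorem cd_right (X Y : M2 F) : cd (0, X) (0, Y) = (Y.adjugate * X, (0 : M2 F)) := by
  rw [cd_apply]; simp

/-- elements commuting with `tt` respect the decomposition -/
theorem comm_fst (h2 : (2 : F) ≠ 0) {g : A F} (hg : g * tt F = tt F * g) (X : M2 F) :
    ((g : O8 F ≃ₗ[F] O8 F) (X, 0)).2 = 0 := by
  have h1 : (g : O8 F ≃ₗ[F] O8 F) ((tt F : O8 F ≃ₗ[F] O8 F) (X, 0)) =
      (tt F : O8 F ≃ₗ[F] O8 F) ((g : O8 F ≃ₗ[F] O8 F) (X, 0)) :=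
    congrArg (fun a : A F => (a : O8 F ≃ₗ[F] O8 F) (X, 0)) hg
  rw [tt_apply, tt_apply, neg_zero] at h1
  have h3 : ((g : O8 F ≃ₗ[F] O8 F) (X, 0)).2 = -((g : O8 F ≃ₗ[F] O8 F) (X, 0)).2 := congrArg Prod.snd h1
  have h4 : (2 : F) • ((g : O8 F ≃ₗ[F] O8 F) (X, 0)).2 = 0 := by
    rw [two_smul]
    nth_rewrite 2 [h3]
    rw [add_neg_cancel]
  exact (smul_eq_zero.1 h4).resolve_left h2

theorem comm_snd (h2 : (2 : F) ≠ 0) {g : A F} (hg : g * tt F = tt F * g) (Y : M2 F) :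
    ((g : O8 F ≃ₗ[F] O8 F) (0, Y)).1 = 0 := by
  have h1 : (g : O8 F ≃ₗ[F] O8 F) ((tt F : O8 F ≃ₗ[F] O8 F) (0, Y)) =
      (tt F : O8 F ≃ₗ[F] O8 F) ((g : O8 F ≃ₗ[F] O8 F) (0, Y)) :=
    congrArg (fun a : A F => (a : O8 F ≃ₗ[F] O8 F) (0, Y)) hg
  rw [tt_apply, tt_apply] at h1
  have h0 : ((0 : M2 F), -Y) = -((0 : M2 F), Y) := Prod.ext (by simp) rfl
  simp only at h1
  rw [h0, map_neg] at h1
  have h3 : -((g : O8 F ≃ₗ[F] O8 F) (0, Y)).1 = ((g : O8 F ≃ₗ[F] O8 F) (0, Y)).1 := congrArg Prod.fst h1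
  have h4 : (2 : F) • ((g : O8 F ≃ₗ[F] O8 F) (0, Y)).1 = 0 := by
    rw [two_smul]
    nth_rewrite 1 [← h3]
    rw [neg_add_cancel]
  exact (smul_eq_zero.1 h4).resolve_left h2

theorem lam_comm_tt (p : SL(2, F)) : lam p * tt F = tt F * lam p := by
  rw [tt, ← map_mul, ← map_mul]
  congr 1
  rw [mul_neg, neg_mul, mul_one, one_mul]

theorem kap_comm_tt (c : GL (Fin 2) F) : kap c * tt F = tt F * kap c := by
  apply Subtype.ext
  apply LinearEquiv.ext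
  intro x
  show (kap c : O8 F ≃ₗ[F] O8 F) ((tt F : O8 F ≃ₗ[F] O8 F) x) = (tt F : O8 F ≃ₗ[F] O8 F) ((kap c : O8 F ≃ₗ[F] O8 F) x)
  rw [tt_apply, tt_apply, kap_apply, kap_apply]
  refine Prod.ext rfl ?_
  simp only
  rw [Matrix.mul_neg, Matrix.neg_mul]

/-- the centralizer of `tt` -/
theorem centralizer_eq (h2 : (2 : F) ≠ 0) {g : A F} (hg : g * tt F = tt F * g) :
    ∃ (c : GL (Fin 2) F) (p : SL(2, F)), g = kap c * lam p := by
  -- the automorphism of `M₂(F)`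
  have hinv : g⁻¹ * tt F = tt F * g⁻¹ := by
    rw [inv_mul_eq_iff_eq_mul, ← mul_assoc, hg, mul_assoc, mul_inv_cancel, mul_one]
  have hX : ∀ X : M2 F, (g : O8 F ≃ₗ[F] O8 F) (X, 0) = (((g : O8 F ≃ₗ[F] O8 F) (X, 0)).1, 0) := fun X =>
    Prod.ext rfl (comm_fst h2 hg X)
  have hXi : ∀ X : M2 F, ((g⁻¹ : A F) : O8 F ≃ₗ[F] O8 F) (X, 0) = ((((g⁻¹ : A F) : O8 F ≃ₗ[F] O8 F) (X, 0)).1, 0) := fun X =>
    Prod.ext rfl (comm_fst h2 hinv X)
  have hgi : ∀ x, ((g⁻¹ : A F) : O8 F ≃ₗ[F] O8 F) ((g : O8 F ≃ₗ[F] O8 F) x) = x := fun x => by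
    show ((g⁻¹ * g : A F) : O8 F ≃ₗ[F] O8 F) x = x
    rw [inv_mul_cancel]; rfl
  have hig : ∀ x, (g : O8 F ≃ₗ[F] O8 F) (((g⁻¹ : A F) : O8 F ≃ₗ[F] O8 F) x) = x := fun x => by
    show ((g * g⁻¹ : A F) : O8 F ≃ₗ[F] O8 F) x = x
    rw [mul_inv_cancel]; rfl
  let αl : M2 F ≃ₗ[F] M2 F :=
    { toFun := fun X => ((g : O8 F ≃ₗ[F] O8 F) (X, 0)).1
      map_add' := fun X Y => by
        have h0 : ((X + Y, 0) : O8 F) = (X, 0) + (Y, 0) := Prod.ext rfl (by simp)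
        rw [h0, map_add]; rfl
      map_smul' := fun r X => by
        have h0 : ((r • X, 0) : O8 F) = r • (X, 0) := Prod.ext rfl (by simp)
        rw [h0, map_smul]; rfl
      invFun := fun X => (((g⁻¹ : A F) : O8 F ≃ₗ[F] O8 F) (X, 0)).1
      left_inv := fun X => by
        show (((g⁻¹ : A F) : O8 F ≃ₗ[F] O8 F) (((g : O8 F ≃ₗ[F] O8 F) (X, 0)).1, 0)).1 = X
        rw [← hX, hgi]
      right_inv := fun X => by
        show ((g : O8 F ≃ₗ[F] O8 F) ((((g⁻¹ : A F) : O8 F ≃ₗ[F] O8 F) (X, 0)).1, 0)).1 = X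
        rw [← hXi, hig] }
  have hαl : ∀ X, (g : O8 F ≃ₗ[F] O8 F) (X, 0) = (αl X, 0) := hX
  have hmul : ∀ X Y, αl (X * Y) = αl X * αl Y := by
    intro X Y
    have h1 := g.2 (X, 0) (Y, 0)
    rw [cd_zero_right, hαl, hαl, hαl, cd_zero_right] at h1
    exact congrArg Prod.fst h1
  have hone : αl 1 = 1 := by
    obtain ⟨Z, hZ⟩ := αl.surjective 1
    have h1 := hmul 1 Z
    rw [one_mul, hZ, mul_one] at h1
    exact h1.symm
  let α : M2 F ≃ₐ[F] M2 F := AlgEquiv.ofLinearEquiv αl hone hmul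
  obtain ⟨c, hc⟩ := matrix_aut α
  have hc' : ∀ X, αl X = (c : M2 F) * X * ((c⁻¹ : GL (Fin 2) F) : M2 F) := hc
  -- reduce to the identity on the first component
  set h := (kap c)⁻¹ * g with hh
  have hht : h * tt F = tt F * h := by
    have h3 : (kap c)⁻¹ * tt F = tt F * (kap c)⁻¹ := by rw [← map_inv]; exact kap_comm_tt _
    rw [hh, mul_assoc, hg, ← mul_assoc, h3, mul_assoc]
  have hhX : ∀ X : M2 F, (h : O8 F ≃ₗ[F] O8 F) (X, 0) = (X, 0) := by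
    intro X
    have h4 : (kap c : O8 F ≃ₗ[F] O8 F) ((h : O8 F ≃ₗ[F] O8 F) (X, 0)) = (kap c : O8 F ≃ₗ[F] O8 F) (X, 0) := by
      show ((kap c * h : A F) : O8 F ≃ₗ[F] O8 F) (X, 0) = _
      rw [hh, ← mul_assoc, mul_inv_cancel, one_mul, hαl, hc', kap_apply]
      refine Prod.ext rfl ?_
      simp
    exact (kap c : O8 F ≃ₗ[F] O8 F).injective h4
  have hhY : ∀ Y : M2 F, (h : O8 F ≃ₗ[F] O8 F) (0, Y) = (0, ((h : O8 F ≃ₗ[F] O8 F) (0, Y)).2) := fun Y =>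
    Prod.ext (comm_snd h2 hht Y) rfl
  set p₀ : M2 F := ((h : O8 F ≃ₗ[F] O8 F) (0, 1)).2 with hp₀
  have hp1 : (h : O8 F ≃ₗ[F] O8 F) (0, 1) = (0, p₀) := hhY 1
  have hβ : ∀ X : M2 F, (h : O8 F ≃ₗ[F] O8 F) (0, X) = (0, p₀ * X) := by
    intro X
    have h3 := h.2 (X, 0) (0, 1)
    rw [cd_left, one_mul, hhX, hp1, cd_left] at h3
    exact h3
  have hdet : p₀.det = 1 := by
    have h3 := h.2 (0, 1) (0, 1)
    rw [cd_right, hp1, cd_right, Matrix.adjugate_one, one_mul, hhX, Matrix.adjugate_mul] at h3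
    have h4 : (1 : M2 F) = p₀.det • (1 : M2 F) := congrArg Prod.fst h3
    have h5 := congrFun (congrFun h4 0) 0
    simpa using h5.symm
  let p : SL(2, F) := ⟨p₀, hdet⟩
  have hpv : p.1 = p₀ := rfl
  refine ⟨c, p, ?_⟩
  have h6 : h = lam p := by
    apply Subtype.ext
    apply LinearEquiv.ext
    intro x
    rw [lam_apply, hpv]
    have h7 : x = (x.1, 0) + (0, x.2) := Prod.ext (by simp) (by simp)
    conv_lhs => rw [h7, map_add, hhX, hβ]
    refine Prod.ext ?_ ?_ <;> simp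
  rw [← h6, hh, ← mul_assoc, mul_inv_cancel, one_mul]

/-! ### kernels -/

theorem lam_injective : Function.Injective (lam (F := F)) := by
  intro p q h
  have h1 := congrArg (fun a : A F => (a : O8 F ≃ₗ[F] O8 F) (0, 1)) h
  simp only [lam_apply] at h1
  have h3 := congrArg Prod.snd h1
  simp only at h3
  rw [Matrix.mul_one, Matrix.mul_one] at h3
  exact Subtype.ext h3

/-- `kap c` fixes the first component iff `c` is central -/
theorem comm_of_fix {c : GL (Fin 2) F} (h : ∀ X : M2 F, ((kap c : O8 F ≃ₗ[F] O8 F) (X, 0)).1 = X) (X : M2 F) :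
    (c : M2 F) * X = X * (c : M2 F) := by
  have h1 := h X
  rw [kap_apply] at h1
  simp only at h1
  have h2 : ((c⁻¹ : GL (Fin 2) F) : M2 F) * (c : M2 F) = 1 := by
    rw [← Units.val_mul, inv_mul_cancel, Units.val_one]
  calc (c : M2 F) * X = (c : M2 F) * X * (((c⁻¹ : GL (Fin 2) F) : M2 F) * (c : M2 F)) := by rw [h2, mul_one]
    _ = ((c : M2 F) * X * ((c⁻¹ : GL (Fin 2) F) : M2 F)) * (c : M2 F) := by simp only [Matrix.mul_assoc]
    _ = X * (c : M2 F) := by rw [h1]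

theorem kap_eq_one_of_comm {c : GL (Fin 2) F} (h : ∀ X : M2 F, (c : M2 F) * X = X * (c : M2 F)) : kap c = 1 := by
  have h1 : (c : M2 F) * ((c⁻¹ : GL (Fin 2) F) : M2 F) = 1 := by
    rw [← Units.val_mul, mul_inv_cancel, Units.val_one]
  apply Subtype.ext
  apply LinearEquiv.ext
  intro x
  rw [kap_apply, h, h, Matrix.mul_assoc, Matrix.mul_assoc, h1, Matrix.mul_one, Matrix.mul_one]
  rfl

theorem ker_kap : (kap (F := F)).ker = Subgroup.center (GL (Fin 2) F) := by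
  ext c
  rw [MonoidHom.mem_ker]
  constructor
  · intro h
    rw [Subgroup.mem_center_iff]
    intro d
    apply Units.ext
    have h1 : ∀ X : M2 F, ((kap c : O8 F ≃ₗ[F] O8 F) (X, 0)).1 = X := fun X => by rw [h]; rfl
    exact (comm_of_fix h1 (d : M2 F)).symm
  · intro h
    rw [GeneralLinearGroup.center_eq_range_scalar] at h
    obtain ⟨a, rfl⟩ := h
    apply kap_eq_one_of_comm
    intro X
    show Matrix.scalar (Fin 2) (a : F) * X = X * Matrix.scalar (Fin 2) (a : F)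
    rw [Matrix.scalar_apply, ← Matrix.smul_one_eq_diagonal, Matrix.smul_mul, Matrix.mul_smul, Matrix.one_mul,
      Matrix.mul_one]

/-- the two subgroups meet trivially -/
theorem kap_eq_lam {c : GL (Fin 2) F} {p : SL(2, F)} (h : kap c = lam p) : kap c = 1 ∧ p = 1 := by
  have h1 : ∀ X : M2 F, ((kap c : O8 F ≃ₗ[F] O8 F) (X, 0)).1 = X := fun X => by rw [h, lam_apply]
  have h3 := kap_eq_one_of_comm (comm_of_fix h1)
  refine ⟨h3, ?_⟩
  rw [h3] at h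
  exact lam_injective (by rw [← h, map_one])

end H79.G2Cent
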