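import Cfsg.Agent.Lib.H79.OrWr

/-! Sylow 2-subgroups of `Ω` for `k ≥ 2` copies of `x² + y²` plus a small form. -/

set_option autoImplicit false
set_option linter.unusedSectionVars false
set_option linter.style.haveILetI false

namespace H79.OrMain

open Subgroup H79.SylElem H79.WrGd H79.WrSyl H79.OrWr H79.DihTwo Equiv QuadraticMap H17.OrthAbs
  H17.OrthTheta H17.OrthOmega H48.QuadStd H48.QuadSplit
open scoped commutatorElement

theorem finite_O {F V : Type*} [Field F] [AddCommGroup V] [Module F V] [Finite V] (Q : QuadraticForm F V) :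
    Finite (O Q) := by
  haveI : Finite (V ≃ₗ[F] V) := Finite.of_injective (fun g => (g : V → V)) DFunLike.coe_injective
  infer_instance

/-- functions supported on two places -/
def prH {ι A : Type*} [DecidableEq ι] [Group A] (i j : ι) : A × A →* (ι → A) where
  toFun x := fun l => if l = i then x.1 else if l = j then x.2 else 1
  map_one' := by
    funext l
    simp
  map_mul' x y := by
    funext l
    simp only [Pi.mul_apply]
    split_ifs <;> simp

theorem prH_apply {ι A : Type*} [DecidableEq ι] [Group A] (i j : ι) (x : A × A) (l : ι) :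
    prH i j x l = if l = i then x.1 else if l = j then x.2 else 1 := rfl

theorem card_map_full_four {A K : Type*} [Group A] [Finite A] [Group K] [Finite K]
    (hK : Nat.card K = 4) (θ : A →* K) (hθ : Function.Surjective θ) (D : Sylow 2 A) :
    (D : Subgroup A).map θ = ⊤ := by
  haveI : Fact (Nat.Prime 2) := ⟨Nat.prime_two⟩
  apply Subgroup.eq_top_of_card_eq
  have h1 : Nat.card (D.mapSurjective hθ : Subgroup K) = 2 ^ (Nat.card K).factorization 2 :=
    (D.mapSurjective hθ).card_eq_multiplicity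
  rw [hK, ValQ.pow_fact (k := 2) (by rw [show (4 : ℕ) = 2 ^ 2 from rfl, padicValNat.prime_pow])] at h1
  rw [hK]
  exact h1

/-- an involution is conjugate into any Sylow 2-subgroup -/
theorem exists_conj_mem {A : Type*} [Group A] [Finite A] (D : Sylow 2 A) (g : A) (hg : g ^ 2 = 1) :
    ∃ h : A, h * g * h⁻¹ ∈ (D : Subgroup A) := by
  haveI : Fact (Nat.Prime 2) := ⟨Nat.prime_two⟩
  have hpg : IsPGroup 2 (zpowers g) := by
    intro x
    refine ⟨1, ?_⟩
    obtain ⟨k, hk⟩ := mem_zpowers_iff.1 x.2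
    apply Subtype.ext
    rw [SubmonoidClass.coe_pow, ← hk, pow_one, ← zpow_natCast, ← zpow_mul, mul_comm, zpow_mul]
    simp [hg]
  obtain ⟨D₁, hD₁⟩ := hpg.exists_le_sylow
  obtain ⟨h, hh⟩ := MulAction.exists_smul_eq A D₁ D
  refine ⟨h, ?_⟩
  rw [← hh, Sylow.coe_subgroup_smul]
  exact Subgroup.smul_mem_pointwise_smul _ (MulAut.conj h) _ (hD₁ (mem_zpowers g))

section main

variable {F : Type*} [Field F] [Fintype F] {W : Type*} [AddCommGroup W] [Module F W] [Finite W]
  {k : ℕ} (QW : QuadraticForm F W)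

theorem main (h2 : (2 : F) ≠ 0) (hk : 2 ≤ k) {N : ℕ} (hN : N ≠ 0) (e₂ : O (q2 F) ≃* DihedralGroup N)
    {s : ℕ} (hs : padicValNat 2 (Nat.card (O (q2 F))) = s) (hW : ND QW)
    (C : Subgroup (O QW)) (Y : Set (O QW)) (hY : Y ⊆ C) (hgenY : C ≤ closure Y)
    (hYr : ∀ y ∈ Y, ∃ (w : W) (hw : QW w ≠ 0), y = rf QW w hw) (c : ℕ) (hC : Nat.card C = 2 ^ c)
    (hcard : padicValNat 2 (Nat.card (O (QQ (q2 F) QW k))) = k * s + padicValNat 2 k.factorial + c)
    (P : Sylow 2 (commutator (O (QQ (q2 F) QW k)))) :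
    ∀ x : (P : Subgroup (commutator (O (QQ (q2 F) QW k)))),
      x ^ 2 ∈ commutator (P : Subgroup (commutator (O (QQ (q2 F) QW k)))) := by
  classical
  haveI : Fact (Nat.Prime 2) := ⟨Nat.prime_two⟩
  haveI : FiniteDimensional F W := Module.Finite.of_finite
  haveI := finite_O (q2 F)
  haveI := finite_O QW
  haveI := finite_O (QQ (q2 F) QW k)
  haveI : FiniteDimensional F ((Fin k → F × F) × W) := Module.Finite.of_finite
  obtain ⟨R, -⟩ := exists_reps (F := F) h2 1 one_ne_zero
  have hq := nd_q2 (F := F) h2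
  have hQQ : ND (QQ (q2 F) QW k) := nd_QQ _ _ hq hW
  have hfin : 2 ≤ Module.finrank F ((Fin k → F × F) × W) := by
    rw [Module.finrank_prod, Module.finrank_pi_fintype, Finset.sum_const, Finset.card_univ, Fintype.card_fin,
      Module.finrank_prod, Module.finrank_self]
    simp only [smul_eq_mul]
    omega
  have hfin2 : 2 ≤ Module.finrank F (F × F) := by
    rw [Module.finrank_prod, Module.finrank_self]
  set θ := Th R (q2 F) with hθ
  set θ' := Th R QW with hθ'
  have hK : ∀ x : ℤˣ × ℤˣ, x * x = 1 := fun x => Prod.ext (Int.units_mul_self _) (Int.units_mul_self _)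
  have hKc : Nat.card (ℤˣ × ℤˣ) = 4 := by
    rw [Nat.card_eq_fintype_card]; decide
  have hΩ : ∀ g : O (QQ (q2 F) QW k), g ∈ commutator (O (QQ (q2 F) QW k)) ↔ Th R (QQ (q2 F) QW k) g = 1 := by
    intro g
    rw [mem_commutator_iff h2 _ R (nd_iff.1 hQQ) hfin, Th_apply, Prod.mk_eq_one]
  -- surjectivity
  have hθs : Function.Surjective θ := by
    obtain ⟨u, w, hu, hw, -, -, a1, a2, b1, b2⟩ := exists_pair_theta h2 (q2 F) R (nd_iff.1 hq) hfin2
    have e1 : θ (rf (q2 F) u hu) = (-1, 1) := by rw [hθ, Th_apply, a1, a2]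
    have e2 : θ (rf (q2 F) w hw) = (1, -1) := by rw [hθ, Th_apply, b1, b2]
    rintro ⟨x, y⟩
    rcases Int.units_eq_one_or x with rfl | rfl <;> rcases Int.units_eq_one_or y with rfl | rfl
    · exact ⟨1, map_one _⟩
    · exact ⟨_, e2⟩
    · exact ⟨_, e1⟩
    · refine ⟨rf (q2 F) u hu * rf (q2 F) w hw, ?_⟩
      rw [map_mul, e1, e2]
      rfl
  obtain ⟨D⟩ : Nonempty (Sylow 2 (O (q2 F))) := inferInstance
  obtain ⟨ρ, σ, hD⟩ := dih_of_equiv hN e₂ D
  have hDm : (D : Subgroup (O (q2 F))).map θ = ⊤ := card_map_full_four hKc θ hθs D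
  have hDc : Nat.card ((D : Subgroup (O (q2 F))).map θ) = 4 := by
    rw [hDm, Subgroup.card_top, hKc]
  have hcD : Nat.card (D : Subgroup (O (q2 F))) = 2 ^ s := by
    have h1 : Nat.card (D : Subgroup (O (q2 F))) = 2 ^ (Nat.card (O (q2 F))).factorization 2 :=
      D.card_eq_multiplicity
    rw [h1, ValQ.pow_fact hs]
  let i₀ : Fin k := ⟨0, by omega⟩
  let i₁ : Fin k := ⟨1, by omega⟩
  have hi : i₁ ≠ i₀ := by
    intro h
    have := congrArg Fin.val h
    simp [i₀, i₁] at this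
  have hmapF : (full (ι := Fin k) (D : Subgroup (O (q2 F))) C).map (chi θ θ') = ⊤ := by
    rw [eq_top_iff, ← hDm]
    rintro _ ⟨d, hd, rfl⟩
    exact ⟨_, single_mem_full _ _ i₀ hd (one_mem _), by rw [chi_single, map_one, mul_one]⟩
  have hE := card_E0 (ι := Fin k) θ θ' (D : Subgroup (O (q2 F))) C 4 (by
    rw [hmapF, Subgroup.card_top, hKc])
  rw [hcD, hC, Fintype.card_fin, ← pow_mul, ← pow_add] at hE
  -- the order of Ω
  have hidx := (commutator (O (QQ (q2 F) QW k))).card_mul_index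
  rw [index_commutator h2 _ (nd_iff.1 hQQ) hfin] at hidx
  have hv : padicValNat 2 (Nat.card (commutator (O (QQ (q2 F) QW k)))) + 2 =
      k * s + padicValNat 2 k.factorial + c := by
    rw [← hcard, ← hidx, padicValNat.mul Nat.card_pos.ne' (by norm_num),
      show (4 : ℕ) = 2 ^ 2 from rfl, padicValNat.prime_pow]
  have hE' : 2 ^ 2 * (Nat.card (E0 (ι := Fin k) θ θ' (D : Subgroup (O (q2 F))) C) * 2 ^ padicValNat 2 k.factorial) =
      2 ^ 2 * 2 ^ padicValNat 2 (Nat.card (commutator (O (QQ (q2 F) QW k)))) := by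
    rw [← mul_assoc, show (2 ^ 2 : ℕ) = 4 from rfl, hE, show (4 : ℕ) = 2 ^ 2 from rfl, ← pow_add, ← pow_add]
    congr 1
    rw [mul_comm s k]
    omega
  have hE'' := Nat.eq_of_mul_eq_mul_left (by norm_num) hE'
  -- Gd
  have hG : Gd 2 (E0 (ι := Fin k) θ θ' (D : Subgroup (O (q2 F))) C) := by
    apply gd_E0 θ θ' (D : Subgroup (O (q2 F))) C i₀ {x | x ∈ (D : Subgroup (O (q2 F))) ∧ x ^ 2 = 1}
      (fun x hx => hx.1) hD.le_closure Y hY hgenY
    · intro n hn hn1
      obtain ⟨a, ha, g, hg, hag, hag'⟩ := hD.comm hK θ hDc n hn hn1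
      have hmem : ∀ x y : O (q2 F), x ∈ (D : Subgroup (O (q2 F))) → y ∈ (D : Subgroup (O (q2 F))) →
          θ x * θ y = 1 → ((prH i₀ i₁ (x, y), 1) : (Fin k → O (q2 F)) × O QW) ∈
            E0 (ι := Fin k) θ θ' (D : Subgroup (O (q2 F))) C := by
        intro x y hx hy hxy
        have h1 : ((prH i₀ i₁ (x, y), 1) : (Fin k → O (q2 F)) × O QW) =
            ((Pi.mulSingle i₀ x : Fin k → O (q2 F)), (1 : O QW)) *
            ((Pi.mulSingle i₁ y : Fin k → O (q2 F)), (1 : O QW)) := by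
          refine Prod.ext (funext fun l => ?_) (by simp)
          show prH i₀ i₁ (x, y) l = (Pi.mulSingle i₀ x : Fin k → O (q2 F)) l * (Pi.mulSingle i₁ y : Fin k → O (q2 F)) l
          rw [prH_apply]
          by_cases h1 : l = i₀
          · subst h1
            rw [if_pos rfl, Pi.mulSingle_eq_same, Pi.mulSingle_eq_of_ne hi.symm, mul_one]
          · rw [if_neg h1, Pi.mulSingle_eq_of_ne h1, one_mul]
            by_cases h3 : l = i₁
            · subst h3
              rw [if_pos rfl, Pi.mulSingle_eq_same]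
            · rw [if_neg h3, Pi.mulSingle_eq_of_ne h3]
        rw [h1]
        refine ⟨mul_mem (single_mem_full _ _ i₀ hx (one_mem _)) (single_mem_full _ _ i₁ hy (one_mem _)), ?_⟩
        show _ ∈ (chi θ θ').ker
        rw [MonoidHom.mem_ker, map_mul, chi_single, chi_single, map_one, mul_one, mul_one]
        exact hxy
      have c1 := commutator_mem_commutator (hmem a a ha ha (hK _)) (hmem g g hg hg (hK _))
      have c2 := commutator_mem_commutator (hmem a a ha ha (hK _)) (hmem g g⁻¹ hg (inv_mem hg)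
        (by rw [map_inv, mul_inv_cancel]))
      have c3 := mul_mem c1 c2
      let Ψ : O (q2 F) × O (q2 F) →* (Fin k → O (q2 F)) × O QW :=
        (MonoidHom.inl (Fin k → O (q2 F)) (O QW)).comp (prH i₀ i₁)
      have hΨ : ∀ z, Ψ z = ((prH i₀ i₁ z, 1) : (Fin k → O (q2 F)) × O QW) := fun z => rfl
      rw [← hΨ, ← hΨ, ← hΨ, ← map_commutatorElement, ← map_commutatorElement, ← map_mul] at c3
      have h5 : ⁅((a, a) : O (q2 F) × O (q2 F)), (g, g)⁆ * ⁅((a, a) : O (q2 F) × O (q2 F)), (g, g⁻¹)⁆ =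
          (n ^ 2, 1) := by
        refine Prod.ext ?_ ?_
        · show ⁅a, g⁆ * ⁅a, g⁆ = n ^ 2
          rw [hag, pow_two]
        · show ⁅a, g⁆ * ⁅a, g⁻¹⁆ = 1
          rw [hag, hag', mul_inv_cancel]
      rw [h5, hΨ] at c3
      have h6 : (prH i₀ i₁ (n ^ 2, 1) : Fin k → O (q2 F)) = Pi.mulSingle i₀ (n ^ 2) := by
        funext l
        rw [prH_apply]
        by_cases h1 : l = i₀
        · subst h1
          rw [if_pos rfl, Pi.mulSingle_eq_same]
        · rw [if_neg h1, Pi.mulSingle_eq_of_ne h1, ite_self]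
      rw [h6] at c3
      exact c3
    · intro g hg i _
      have h1 : g ^ 2 = 1 := hg.2
      rw [h1, inv_one, Pi.mulSingle_one, Pi.mulSingle_one, one_mul]
      exact one_mem _
    · intro y hy
      obtain ⟨w, hw, rfl⟩ := hYr y hy
      obtain ⟨v, hv⟩ := exists_eq hq hfin2 hw
      have hv0 : q2 F v ≠ 0 := by rw [hv]; exact hw
      have hsq : (rf (q2 F) v hv0) ^ 2 = 1 := by rw [pow_two, rf_sq]
      obtain ⟨h, hh⟩ := exists_conj_mem D _ hsq
      refine ⟨_, hh, ?_, ?_⟩
      · rw [map_mul, map_mul, map_inv, mul_comm (θ h), mul_inv_cancel_right, hθ, hθ',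
          Th_rf_eq h2 R (q2 F) QW v w hv0 hw hv]
        exact hK _
      · have h3 : (h * rf (q2 F) v hv0 * h⁻¹) ^ 2 = 1 := by
          rw [conj_pow, hsq, mul_one, mul_inv_cancel]
        have h4 : (rf QW w hw) ^ 2 = 1 := by rw [pow_two, rf_sq]
        rw [h3, h4, Pi.mulSingle_one]
        exact one_mem _
  refine wreath θ θ' (D : Subgroup (O (q2 F))) C (r := 2) (eHom (q2 F) QW) (pHom (q2 F) QW)
    (eHom_injective _ _) (pHom_injective _ _) (fun σ f x => conj_rel _ _ σ f x) (fun f σ h => meet _ _ f σ h)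
    _ ?_ ?_ ?_ hG P
  · rintro _ ⟨f, hf, rfl⟩
    rw [hΩ, Th_eHom (q2 F) QW h2 R hq hW]
    exact ((mem_E0 _ _ _ _ f).1 hf).2
  · intro σ
    rw [hΩ, Th_pHom]
  · rw [ValQ.pow_fact rfl, ValQ.pow_fact rfl]
    exact hE''

end main

end H79.OrMain
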