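import Cfsg.Agent.Lib.H79.G2Main
import Cfsg.Agent.Lib.H79.OrMain

/-! Sylow 2-subgroups of `G₂(q)`, `q` odd: the end. -/

set_option autoImplicit false
set_option linter.unusedSectionVars false
set_option linter.style.haveILetI false

namespace H79.G2End

open Subgroup Matrix H79.G2CD H79.G2Iso H79.G2Cent H79.G2Syl H79.G2Main H79.SylElem H79.WrSyl H79.WrKer
  H79.GLWr
open scoped MatrixGroups commutatorElement Pointwise

variable {F : Type*} [Field F] [Fintype F]

theorem finite_A : Finite (A F) := by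
  haveI : Finite (O8 F ≃ₗ[F] O8 F) := Finite.of_injective (fun g => (g : O8 F → O8 F)) DFunLike.coe_injective
  infer_instance

theorem map_normalizes (D : Subgroup (GL (Fin 2) F)) (Q : Subgroup (SL(2, F)))
    (h : ∀ c ∈ D, ∀ p ∈ Q, cj c p ∈ Q) : D.map kap ≤ normalizer ((Q.map lam : Subgroup (A F)) : Set (A F)) := by
  have hcon : ∀ c ∈ D, ∀ x ∈ Q.map lam, kap c * x * (kap c)⁻¹ ∈ Q.map lam := by
    rintro c hc _ ⟨p, hp, rfl⟩
    rw [kap_lam]
    exact ⟨_, h c hc p hp, rfl⟩
  rintro _ ⟨c, hc, rfl⟩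
  rw [mem_normalizer_iff]
  intro x
  refine ⟨hcon c hc x, fun h1 => ?_⟩
  have h2 := hcon c⁻¹ (inv_mem hc) _ h1
  rw [map_inv, inv_inv] at h2
  have h3 : (kap c)⁻¹ * (kap c * x * (kap c)⁻¹) * kap c = x := by group
  rwa [h3] at h2

theorem map_disjoint (D : Subgroup (GL (Fin 2) F)) (Q : Subgroup (SL(2, F))) :
    (D.map kap) ⊓ (Q.map lam) = ⊥ := by
  rw [eq_bot_iff]
  rintro x ⟨⟨c, _, hc⟩, ⟨p, _, hp⟩⟩
  have h1 := kap_eq_lam (hc.trans hp.symm)
  rw [mem_bot, ← hc, h1.1]

theorem card_sup_map (D : Subgroup (GL (Fin 2) F)) (Q : Subgroup (SL(2, F)))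
    (h : ∀ c ∈ D, ∀ p ∈ Q, cj c p ∈ Q) :
    Nat.card ((D.map kap) ⊔ (Q.map lam) : Subgroup (A F)) = Nat.card (D.map kap) * Nat.card Q := by
  haveI : Finite (A F) := finite_A
  have h1 := H3.CardSup.card_sup_mul_card_inf (D.map kap) (Q.map lam) (map_normalizes D Q h)
  rw [map_disjoint, card_bot, mul_one] at h1
  rw [h1, ← Nat.card_congr (equivMapOfInjective Q lam lam_injective).toEquiv]

theorem card_kap_range : Nat.card ((⊤ : Subgroup (GL (Fin 2) F)).map kap) = Nat.card (SL(2, F)) := by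
  have hq1 : 1 < Fintype.card F := Fintype.one_lt_card
  have h1 := card_inf_ker (kap (F := F)) ⊤
  rw [top_inf_eq, ker_kap, H6.SLCard.card_center_gl, Subgroup.card_top, ← H6.SLCard.card_units_mul_card_sl,
    H6.SLCard.card_units', mul_comm] at h1
  exact Nat.eq_of_mul_eq_mul_left (by omega) h1

theorem main (hF : Odd (Fintype.card F)) :
    ∃ P : Subgroup (A F), Nat.card P = 2 ^ (Nat.card (A F)).factorization 2 ∧ Gd 2 P := by
  haveI : Fact (Nat.Prime 2) := ⟨Nat.prime_two⟩
  haveI : Finite (A F) := finite_A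
  have hq1 : 1 < Fintype.card F := Fintype.one_lt_card
  have h2 : (2 : F) ≠ 0 := H6.SL2Tor.two_ne_zero_of_odd hF
  obtain ⟨D, hGD⟩ := exists_D hF
  set s := padicValNat 2 (Fintype.card F ^ 2 - 1) with hs
  set Q := QQs D with hQ
  have hQD : ∀ c ∈ (D : Subgroup (GL (Fin 2) F)), ∀ p ∈ Q, cj c p ∈ Q := by
    intro c hc p hp
    show SpecialLinearGroup.toGL (cj c p) ∈ (D : Subgroup (GL (Fin 2) F))
    rw [toGL_cj]
    exact mul_mem (mul_mem hc hp) (inv_mem hc)
  have hcQ : Nat.card Q = 2 ^ s := card_QQs hF D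
  -- order of the image of `D`
  have hcD : Nat.card (D : Subgroup (GL (Fin 2) F)) = 2 ^ (s + padicValNat 2 (Fintype.card F - 1)) := by
    have h1 : Nat.card (D : Subgroup (GL (Fin 2) F)) = 2 ^ (Nat.card (GL (Fin 2) F)).factorization 2 :=
      D.card_eq_multiplicity
    rw [h1, ValQ.pow_fact (val_gl2 hF)]
  have hkD := card_inf_ker (kap (F := F)) (D : Subgroup (GL (Fin 2) F))
  have hcKD : Nat.card ((D : Subgroup (GL (Fin 2) F)).map kap) = 2 ^ s := by
    -- kernel part
    have hk1 : Nat.card ((D : Subgroup (GL (Fin 2) F)) ⊓ (kap (F := F)).ker : Subgroup (GL (Fin 2) F)) ∣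
        Fintype.card F - 1 := by
      rw [← H6.SLCard.card_center_gl (F := F) (ι := Fin 2), ← ker_kap]
      exact Subgroup.card_dvd_of_le inf_le_right
    obtain ⟨n, hn⟩ := IsPGroup.iff_card.1 (D.2.to_le (inf_le_left :
      (D : Subgroup (GL (Fin 2) F)) ⊓ (kap (F := F)).ker ≤ (D : Subgroup (GL (Fin 2) F))))
    rw [hn] at hk1
    have hn1 : n ≤ padicValNat 2 (Fintype.card F - 1) := by
      rw [padicValNat_dvd_iff_le (by omega)] at hk1
      exact hk1
    -- image part
    obtain ⟨m, hm⟩ := IsPGroup.iff_card.1 (D.2.map (kap (F := F)))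
    have hm1 : 2 ^ m ∣ Nat.card (SL(2, F)) := by
      rw [← hm, ← card_kap_range]
      exact Subgroup.card_dvd_of_le (map_mono le_top)
    have hm2 : m ≤ s := by
      rw [padicValNat_dvd_iff_le Nat.card_pos.ne', val_sl2 hF] at hm1
      exact hm1
    rw [hm, hn, hcD, ← pow_add] at hkD
    have h3 : m + n = s + padicValNat 2 (Fintype.card F - 1) := Nat.pow_right_injective (le_refl 2) hkD
    rw [hm]
    congr 1
    omega
  set P : Subgroup (A F) := ((D : Subgroup (GL (Fin 2) F)).map kap) ⊔ (Q.map lam) with hP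
  have hcP : Nat.card P = 2 ^ s * 2 ^ s := by
    rw [hP, card_sup_map _ _ hQD, hcKD, hcQ]
  set C : Subgroup (A F) := ((⊤ : Subgroup (GL (Fin 2) F)).map kap) ⊔ ((⊤ : Subgroup (SL(2, F))).map lam) with hC
  have hcC : Nat.card C = Nat.card (SL(2, F)) * Nat.card (SL(2, F)) := by
    rw [hC, card_sup_map _ _ (fun _ _ _ _ => mem_top _), card_kap_range, Subgroup.card_top]
  have hPC : P ≤ C := sup_le_sup (map_mono le_top) (map_mono le_top)
  have hcPC : Nat.card P = 2 ^ (Nat.card C).factorization 2 := by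
    rw [hcP, hcC, ValQ.pow_fact (k := s + s), pow_add]
    rw [padicValNat.mul Nat.card_pos.ne' Nat.card_pos.ne', val_sl2 hF]
  -- elements of `P`
  have hmemP : ∀ z ∈ P, ∃ p ∈ Q, ∃ c ∈ (D : Subgroup (GL (Fin 2) F)), z = lam p * kap c := by
    intro z hz
    rw [hP, sup_comm] at hz
    have h3 := coe_mul_of_right_le_normalizer_left (Q.map lam) ((D : Subgroup (GL (Fin 2) F)).map kap)
      (map_normalizes _ _ hQD)
    have h4 : z ∈ ((Q.map lam : Subgroup (A F)) : Set (A F)) * (((D : Subgroup (GL (Fin 2) F)).map kap : Subgroup (A F)) : Set (A F)) := by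
      rw [← h3]; exact hz
    obtain ⟨_, ⟨p, hp, rfl⟩, _, ⟨c, hc, rfl⟩, rfl⟩ := Set.mem_mul.1 h4
    exact ⟨p, hp, c, hc, rfl⟩
  have hlamP : ∀ p ∈ Q, lam p ∈ P := fun p hp => mem_sup_right ⟨p, hp, rfl⟩
  have hkapP : ∀ c ∈ (D : Subgroup (GL (Fin 2) F)), kap c ∈ P := fun c hc => mem_sup_left ⟨c, hc, rfl⟩
  -- noncommuting elements of `Q`
  obtain ⟨Q', hQ'⟩ := QQs_sylow hF D
  obtain ⟨a, ha, b, hb, hab⟩ := exists_noncomm hF Q'
  rw [hQ'] at ha hb
  have hscal : ∀ m : M2 F, m * a.1 = a.1 * m → m * b.1 = b.1 * m → ∀ X : M2 F, m * X = X * m := by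
    intro m h3 h4
    by_cases hm : m 0 1 = 0 ∧ m 1 0 = 0 ∧ m 0 0 = m 1 1
    · exact comm_all_of_scalar hm
    · exfalso
      exact hab (Subtype.ext (comm_of_nonscalar hm h3 h4))
  -- `-1 ∈ Q`
  have htP : tt F ∈ P := by
    apply hlamP
    show SpecialLinearGroup.toGL (-1 : SL(2, F)) ∈ (D : Subgroup (GL (Fin 2) F))
    -- a central element of order two lies in every Sylow subgroup
    have hc2 : (SpecialLinearGroup.toGL (-1 : SL(2, F)) : GL (Fin 2) F) ^ 2 = 1 := by
      rw [← map_pow]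
      have : (-1 : SL(2, F)) ^ 2 = 1 := by rw [pow_two, neg_mul_neg, one_mul]
      rw [this, map_one]
    have hcen : ∀ g : GL (Fin 2) F, g * SpecialLinearGroup.toGL (-1 : SL(2, F)) = SpecialLinearGroup.toGL (-1 : SL(2, F)) * g := by
      intro g
      apply Units.ext
      show (g : M2 F) * (-1 : M2 F) = (-1 : M2 F) * (g : M2 F)
      rw [Matrix.mul_neg, Matrix.neg_mul, Matrix.one_mul, Matrix.mul_one]
    obtain ⟨h, hh⟩ := OrMain.exists_conj_mem D _ hc2
    rw [hcen h, mul_inv_cancel_right] at hh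
    exact hh
  have ht1 : tt F ≠ 1 := by
    intro h
    have h3 := lam_injective (h.trans (map_one lam).symm)
    have h4 := congrArg (fun x : SL(2, F) => x.1 0 0) h3
    have h5 : (-1 : F) = 1 := by
      have e1 : (-1 : SL(2, F)).1 0 0 = (-1 : F) := by
        show (-1 : M2 F) 0 0 = -1
        simp
      have e2 : (1 : SL(2, F)).1 0 0 = (1 : F) := by
        show (1 : M2 F) 0 0 = 1
        simp
      exact e1.symm.trans (h4.trans e2)
    apply h2
    linear_combination -h5
  have hcomm : ∀ x ∈ P, x * tt F = tt F * x := by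
    intro x hx
    obtain ⟨p, _, c, _, rfl⟩ := hmemP x hx
    rw [mul_assoc, kap_comm_tt, ← mul_assoc, lam_comm_tt, mul_assoc]
  have hcent : ∀ z ∈ P, (∀ x ∈ P, x * z = z * x) → z = 1 ∨ z = tt F := by
    intro z hz hzc
    obtain ⟨p, hp, c, hc, rfl⟩ := hmemP z hz
    -- `p c` is scalar
    have h3 : ∀ p' ∈ Q, p * cj c p' = p' * p := by
      intro p' hp'
      have h4 := hzc (lam p') (hlamP p' hp')
      have h5 : kap c * lam p' = lam (cj c p') * kap c := by rw [← kap_lam]; group
      rw [mul_assoc, h5, ← mul_assoc, ← mul_assoc, ← map_mul, ← map_mul] at h4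
      exact (lam_injective (mul_right_cancel h4)).symm
    have h6 : ∀ p' ∈ Q, (p.1 * (c : M2 F)) * p'.1 = p'.1 * (p.1 * (c : M2 F)) := by
      intro p' hp'
      have h7 := congrArg Subtype.val (h3 p' hp')
      have h8 : p.1 * ((c : M2 F) * p'.1 * ((c⁻¹ : GL (Fin 2) F) : M2 F)) = p'.1 * p.1 := h7
      have h9 : ((c⁻¹ : GL (Fin 2) F) : M2 F) * (c : M2 F) = 1 := by
        rw [← Units.val_mul, inv_mul_cancel, Units.val_one]
      calc (p.1 * (c : M2 F)) * p'.1 = (p.1 * (c : M2 F)) * p'.1 * (((c⁻¹ : GL (Fin 2) F) : M2 F) * (c : M2 F)) := by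
            rw [h9, Matrix.mul_one]
        _ = (p.1 * ((c : M2 F) * p'.1 * ((c⁻¹ : GL (Fin 2) F) : M2 F))) * (c : M2 F) := by
            simp only [Matrix.mul_assoc]
        _ = p'.1 * (p.1 * (c : M2 F)) := by rw [h8, Matrix.mul_assoc]
    have h10 := hscal _ (h6 a ha) (h6 b hb)
    -- so `kap c = kap p⁻¹`
    have h11 : kap (SpecialLinearGroup.toGL p * c) = 1 := kap_eq_one_of_comm h10
    have h12 : kap c = (kap (SpecialLinearGroup.toGL p))⁻¹ := by
      rw [map_mul] at h11
      exact eq_inv_of_mul_eq_one_right h11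
    -- `p` commutes with `Q`
    have h13 : ∀ p' ∈ Q, cj (SpecialLinearGroup.toGL p') p = p := by
      intro p' hp'
      set d : GL (Fin 2) F := SpecialLinearGroup.toGL p' with hd
      have hdD : d ∈ (D : Subgroup (GL (Fin 2) F)) := hp'
      have h14 := hzc (kap d) (hkapP d hdD)
      have h15 : kap d * lam p = lam (cj d p) * kap d := by rw [← kap_lam]; group
      rw [← mul_assoc, h15, mul_assoc, mul_assoc] at h14
      -- lam (cj d p) * (kap d * kap c) = lam p * (kap c * kap d)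
      have h16 : lam (p⁻¹ * cj d p) = kap (c * d * c⁻¹ * d⁻¹) := by
        rw [map_mul, map_inv, map_mul, map_mul, map_mul, map_inv, map_inv]
        rw [inv_mul_eq_iff_eq_mul]
        calc lam (cj d p) = (lam (cj d p) * (kap d * kap c)) * (kap c)⁻¹ * (kap d)⁻¹ := by group
          _ = (lam p * (kap c * kap d)) * (kap c)⁻¹ * (kap d)⁻¹ := by rw [h14]
          _ = lam p * (kap c * kap d * (kap c)⁻¹ * (kap d)⁻¹) := by group
      have h17 := (kap_eq_lam h16.symm).2
      exact (inv_mul_eq_one.1 h17).symm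
    have h18 : ∀ p' ∈ Q, p.1 * p'.1 = p'.1 * p.1 := by
      intro p' hp'
      have h19 := congrArg Subtype.val (h13 p' hp')
      have h20 : p'.1 * p.1 * (p'⁻¹).1 = p.1 := h19
      calc p.1 * p'.1 = p'.1 * p.1 * (p'⁻¹).1 * p'.1 := by rw [h20]
        _ = p'.1 * p.1 := by rw [Matrix.mul_assoc (p'.1 * p.1), sl_inv_mul, Matrix.mul_one]
    have h21 := hscal p.1 (h18 a ha) (h18 b hb)
    -- `kap p = 1`
    have h22 : kap (SpecialLinearGroup.toGL p) = 1 := kap_eq_one_of_comm h21
    rw [h22, inv_one] at h12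
    rw [h12, mul_one]
    -- `p` is scalar of determinant one
    have e01 : p.1 0 1 = 0 := by
      have := congrFun (congrFun (h21 !![0, 0; 1, 0]) 0) 0
      simpa [Matrix.mul_apply, Fin.sum_univ_two] using this
    have e10 : p.1 1 0 = 0 := by
      have := congrFun (congrFun (h21 !![0, 1; 0, 0]) 1) 1
      simpa [Matrix.mul_apply, Fin.sum_univ_two] using this
    have e00 : p.1 0 0 = p.1 1 1 := by
      have := congrFun (congrFun (h21 !![0, 1; 0, 0]) 0) 1
      simpa [Matrix.mul_apply, Fin.sum_univ_two] using this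
    have hdet := p.2
    rw [Matrix.det_fin_two, e01, e10, ← e00, mul_zero, sub_zero] at hdet
    rcases mul_self_eq_one_iff.1 hdet with h | h
    · left
      have : p = 1 := by
        apply Subtype.ext
        show p.1 = (1 : M2 F)
        ext i j
        fin_cases i <;> fin_cases j
        · simpa using h
        · simpa using e01
        · simpa using e10
        · show p.1 1 1 = _
          rw [← e00, h]; simp
      rw [this, map_one]
    · right
      have : p = -1 := by
        apply Subtype.ext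
        show p.1 = (-1 : M2 F)
        ext i j
        fin_cases i <;> fin_cases j
        · simpa using h
        · simpa using e01
        · simpa using e10
        · show p.1 1 1 = _
          rw [← e00, h]; simp
      rw [this, tt]
  have hcentr : ∀ g : A F, g * tt F = tt F * g → g ∈ C := by
    intro g hg
    obtain ⟨c, p, rfl⟩ := centralizer_eq h2 hg
    exact mul_mem (mem_sup_left ⟨c, mem_top _, rfl⟩) (mem_sup_right ⟨p, mem_top _, rfl⟩)
  refine ⟨P, sylow_of_center P C (tt F) hPC hcPC htP ht1 hcomm hcent hcentr, ?_⟩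
  exact gd_sup hGD (gd_map lam (gd_QQs hF D))

end H79.G2End
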