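import Cfsg.Agent.Lib.H79.G2CD

/-! The isomorphism of `G₂(F)` with the automorphism group of the Cayley–Dickson model, and the
centralizer of the involution. -/

set_option autoImplicit false
set_option linter.unusedSectionVars false
set_option linter.style.haveILetI false

namespace H79.G2Iso

open Matrix H79.G2CD
open scoped MatrixGroups

variable {F : Type*} [Field F]

/-- coordinates -/
def psi (F : Type*) [Field F] : (Fin 8 → F) ≃ₗ[F] O8 F where
  toFun x := (!![x 0, x 1; x 4, x 7], !![x 2, x 6; -x 3, x 5])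
  map_add' x y := by
    refine Prod.ext ?_ ?_
    · ext i j; fin_cases i <;> fin_cases j <;> simp
    · ext i j; fin_cases i <;> fin_cases j <;> simp [add_comm]
  map_smul' c x := by
    refine Prod.ext ?_ ?_
    · ext i j; fin_cases i <;> fin_cases j <;> simp
    · ext i j; fin_cases i <;> fin_cases j <;> simp
  invFun y := ![y.1 0 0, y.1 0 1, y.2 0 0, -y.2 1 0, y.1 1 0, y.2 1 1, y.2 0 1, y.1 1 1]
  left_inv x := by
    ext i; fin_cases i <;> simp
  right_inv y := by
    refine Prod.ext ?_ ?_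
    · ext i j; fin_cases i <;> fin_cases j <;> simp
    · ext i j; fin_cases i <;> fin_cases j <;> simp

theorem psi_apply (x : Fin 8 → F) : psi F x = (!![x 0, x 1; x 4, x 7], !![x 2, x 6; -x 3, x 5]) := rfl

theorem psi_mul (x y : Fin 8 → F) : psi F (Cfsg.Lie.zornMul x y) = cd (psi F x) (psi F y) := by
  rw [psi_apply, psi_apply, psi_apply, cd_apply]
  refine Prod.ext ?_ ?_
  · ext i j
    fin_cases i <;> fin_cases j <;>
      simp [Cfsg.Lie.zornMul, Cfsg.Lie.dot3, Cfsg.Lie.cross3, Matrix.mul_apply, Fin.sum_univ_two,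
        Matrix.adjugate_fin_two] <;> ring
  · ext i j
    fin_cases i <;> fin_cases j <;>
      simp [Cfsg.Lie.zornMul, Cfsg.Lie.dot3, Cfsg.Lie.cross3, Matrix.mul_apply, Fin.sum_univ_two,
        Matrix.adjugate_fin_two] <;> ring

theorem mem_G2 (g : GL (Fin 8) F) : g ∈ Cfsg.Lie.G2 F ↔
    ∀ x y, (g : Matrix (Fin 8) (Fin 8) F) *ᵥ Cfsg.Lie.zornMul x y =
      Cfsg.Lie.zornMul ((g : Matrix (Fin 8) (Fin 8) F) *ᵥ x) ((g : Matrix (Fin 8) (Fin 8) F) *ᵥ y) := Iff.rfl

/-- transport of linear maps -/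
noncomputable def tr : GL (Fin 8) F ≃* (O8 F ≃ₗ[F] O8 F) :=
  (H17.OrthTrans.phi (Fin 8) F).trans
    { toFun := fun g => ((psi F).symm.trans g).trans (psi F)
      invFun := fun g => ((psi F).trans g).trans (psi F).symm
      left_inv := fun g => by
        apply LinearEquiv.ext
        intro x
        simp
      right_inv := fun g => by
        apply LinearEquiv.ext
        intro x
        simp
      map_mul' := fun g h => by
        apply LinearEquiv.ext
        intro x
        simp [LinearEquiv.mul_apply] }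

theorem tr_apply (g : GL (Fin 8) F) (x : Fin 8 → F) :
    tr g (psi F x) = psi F ((g : Matrix (Fin 8) (Fin 8) F) *ᵥ x) := by
  show psi F (H17.OrthTrans.phi (Fin 8) F g ((psi F).symm (psi F x))) = _
  rw [LinearEquiv.symm_apply_apply, H17.OrthTrans.phi_apply]

theorem tr_mem (g : GL (Fin 8) F) : tr g ∈ A F ↔ g ∈ Cfsg.Lie.G2 F := by
  rw [mem_G2, mem_A]
  constructor
  · intro h x y
    have h1 := h (psi F x) (psi F y)
    rw [← psi_mul, tr_apply, tr_apply, tr_apply, ← psi_mul] at h1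
    exact (psi F).injective h1
  · intro h x y
    obtain ⟨x, rfl⟩ := (psi F).surjective x
    obtain ⟨y, rfl⟩ := (psi F).surjective y
    rw [← psi_mul, tr_apply, tr_apply, tr_apply, ← psi_mul, h]

/-- the isomorphism -/
noncomputable def g2Equiv : Cfsg.Lie.G2 F ≃* A F where
  toFun g := ⟨tr g, (tr_mem _).2 g.2⟩
  invFun g := ⟨tr.symm g, (tr_mem _).1 (by rw [MulEquiv.apply_symm_apply]; exact g.2)⟩
  left_inv g := Subtype.ext (MulEquiv.symm_apply_apply _ _)
  right_inv g := Subtype.ext (MulEquiv.apply_symm_apply _ _)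
  map_mul' a b := Subtype.ext (map_mul _ _ _)

/-! ### the centralizer of `tt` -/

theorem matrix_aut (α : M2 F ≃ₐ[F] M2 F) : ∃ c : GL (Fin 2) F, ∀ X, α X =
    (c : M2 F) * X * ((c⁻¹ : GL (Fin 2) F) : M2 F) := by
  let e : M2 F ≃ₐ[F] Module.End F (Fin 2 → F) := Matrix.toLinAlgEquiv'
  obtain ⟨T, hT⟩ := AlgEquiv.eq_linearEquivConjAlgEquiv ((e.symm.trans α).trans e)
  let c : GL (Fin 2) F := (H17.OrthTrans.phi (Fin 2) F).symm T
  have hc : H17.OrthTrans.phi (Fin 2) F c = T := MulEquiv.apply_symm_apply _ _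
  have hcv : ∀ v, T v = (c : M2 F) *ᵥ v := fun v => by
    rw [← hc, H17.OrthTrans.phi_apply]
  refine ⟨c, fun X => ?_⟩
  have h1 : ∀ X : M2 F, ∀ v, (α X) *ᵥ (T v) = T (X *ᵥ v) := by
    intro X v
    have h2 := congrArg (fun f : Module.End F (Fin 2 → F) ≃ₐ[F] Module.End F (Fin 2 → F) => f (e X) (T v)) hT
    simp only [AlgEquiv.trans_apply, AlgEquiv.symm_apply_apply, LinearEquiv.conjAlgEquiv_apply] at h2
    have h3 : (e (α X)) (T v) = (α X) *ᵥ (T v) := rfl
    rw [h3] at h2
    rw [h2]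
    simp only [LinearMap.comp_apply, LinearEquiv.coe_coe, LinearEquiv.symm_apply_apply]
    rfl
  have h4 : α X * (c : M2 F) = (c : M2 F) * X := by
    apply Matrix.ext_of_mulVec_single
    intro i
    rw [← Matrix.mulVec_mulVec, ← hcv, h1, ← Matrix.mulVec_mulVec, hcv]
  have h5 : (c : M2 F) * ((c⁻¹ : GL (Fin 2) F) : M2 F) = 1 := by
    rw [← Units.val_mul, mul_inv_cancel, Units.val_one]
  rw [← h4, Matrix.mul_assoc, h5, Matrix.mul_one]

end H79.G2Iso
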