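import Cfsg.Agent.Lib.H79.G2Syl

/-! Sylow 2-subgroups of `G₂(q)`, `q` odd: final assembly. -/

set_option autoImplicit false
set_option linter.unusedSectionVars false
set_option linter.style.haveILetI false

namespace H79.G2Main

open Subgroup Matrix H79.G2CD H79.G2Iso H79.G2Cent H79.G2Syl H79.SylElem H79.WrSyl H79.WrKer H79.GLWr
open scoped MatrixGroups commutatorElement

variable {F : Type*} [Field F] [Fintype F]

theorem val_gl2 (hF : Odd (Fintype.card F)) : padicValNat 2 (Nat.card (GL (Fin 2) F)) =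
    padicValNat 2 (Fintype.card F ^ 2 - 1) + padicValNat 2 (Fintype.card F - 1) := by
  have hq1 : 1 < Fintype.card F := Fintype.one_lt_card
  rw [card_gl, Fintype.card_fin, val_gl hF hq1, Finset.sum_range_succ, Finset.sum_range_one, zero_add, pow_one,
    add_comm]

/-- order of the determinant kernel in a Sylow subgroup -/
theorem card_det_ker (hF : Odd (Fintype.card F)) (D : Sylow 2 (GL (Fin 2) F)) :
    Nat.card ((D : Subgroup (GL (Fin 2) F)) ⊓ (GeneralLinearGroup.det : GL (Fin 2) F →* Fˣ).ker :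
      Subgroup (GL (Fin 2) F)) = 2 ^ padicValNat 2 (Fintype.card F ^ 2 - 1) := by
  haveI : Fact (Nat.Prime 2) := ⟨Nat.prime_two⟩
  have hsurj : Function.Surjective (GeneralLinearGroup.det : GL (Fin 2) F →* Fˣ) :=
    GeneralLinearGroup.det_surjective
  have hcM : Nat.card ((D : Subgroup (GL (Fin 2) F)).map (GeneralLinearGroup.det : GL (Fin 2) F →* Fˣ)) =
      2 ^ padicValNat 2 (Fintype.card F - 1) := by
    have h1 : Nat.card (D.mapSurjective hsurj : Subgroup Fˣ) = 2 ^ (Nat.card Fˣ).factorization 2 :=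
      (D.mapSurjective hsurj).card_eq_multiplicity
    rw [H6.SLCard.card_units', ValQ.pow_fact rfl] at h1
    exact h1
  have hcD : Nat.card (D : Subgroup (GL (Fin 2) F)) =
      2 ^ (padicValNat 2 (Fintype.card F ^ 2 - 1) + padicValNat 2 (Fintype.card F - 1)) := by
    have h1 : Nat.card (D : Subgroup (GL (Fin 2) F)) = 2 ^ (Nat.card (GL (Fin 2) F)).factorization 2 :=
      D.card_eq_multiplicity
    rw [h1, ValQ.pow_fact (val_gl2 hF)]
  have h3 := card_inf_ker (GeneralLinearGroup.det : GL (Fin 2) F →* Fˣ) (D : Subgroup (GL (Fin 2) F))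
  rw [hcM, hcD, pow_add, mul_comm] at h3
  exact Nat.eq_of_mul_eq_mul_right (by positivity) h3

/-- the intersection with `SL_2` -/
def QQs (D : Sylow 2 (GL (Fin 2) F)) : Subgroup (SL(2, F)) :=
  (D : Subgroup (GL (Fin 2) F)).comap SpecialLinearGroup.toGL

theorem QQs_map (D : Sylow 2 (GL (Fin 2) F)) : (QQs D).map SpecialLinearGroup.toGL =
    (D : Subgroup (GL (Fin 2) F)) ⊓ (GeneralLinearGroup.det : GL (Fin 2) F →* Fˣ).ker := by
  rw [QQs, Subgroup.map_comap_eq, H6.SLCard.range_toGL, inf_comm]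

theorem card_QQs (hF : Odd (Fintype.card F)) (D : Sylow 2 (GL (Fin 2) F)) :
    Nat.card (QQs D) = 2 ^ padicValNat 2 (Fintype.card F ^ 2 - 1) := by
  rw [← card_det_ker hF D, ← QQs_map]
  exact Nat.card_congr (equivMapOfInjective _ _ SpecialLinearGroup.toGL_injective).toEquiv

/-- the intersection with `SL_2`, as a Sylow subgroup -/
theorem QQs_sylow (hF : Odd (Fintype.card F)) (D : Sylow 2 (GL (Fin 2) F)) :
    ∃ Q : Sylow 2 (SL(2, F)), (Q : Subgroup (SL(2, F))) = QQs D := by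
  haveI : Fact (Nat.Prime 2) := ⟨Nat.prime_two⟩
  exact ⟨Sylow.ofCard (QQs D) (by rw [card_QQs hF, ValQ.pow_fact (val_sl2 hF)]), rfl⟩

theorem gd_QQs (hF : Odd (Fintype.card F)) (D : Sylow 2 (GL (Fin 2) F)) : Gd 2 (QQs D) := by
  obtain ⟨Q, hQ⟩ := QQs_sylow hF D
  rw [← hQ]
  exact gd_sl2 hF Q

/-! ### the Sylow subgroup of `PGL_2` -/

theorem exists_D_three (hq : Fintype.card F % 4 = 3) :
    ∃ D : Sylow 2 (GL (Fin 2) F), Gd 2 (D : Subgroup (GL (Fin 2) F)) := by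
  haveI : Fact (Nat.Prime 2) := ⟨Nat.prime_two⟩
  have hq1 : 1 < Fintype.card F := Fintype.one_lt_card
  have hF : Odd (Fintype.card F) := Nat.odd_iff.2 (by omega)
  let g₀ : GL (Fin 2) F := ⟨!![1, 0; 0, -1], !![1, 0; 0, -1], by simp [Matrix.one_fin_two], by simp [Matrix.one_fin_two]⟩
  have hg₀2 : g₀ ^ 2 = 1 := by
    rw [pow_two]
    exact Units.ext (by simp [g₀, Matrix.one_fin_two])
  have hg₀d : GeneralLinearGroup.det g₀ = -1 := by
    apply Units.ext
    simp [g₀, Matrix.det_fin_two]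
  have hpg : IsPGroup 2 (zpowers g₀) := by
    intro x
    refine ⟨1, ?_⟩
    obtain ⟨k, hk⟩ := mem_zpowers_iff.1 x.2
    apply Subtype.ext
    rw [SubmonoidClass.coe_pow, ← hk, pow_one, ← zpow_natCast, ← _root_.zpow_mul, mul_comm, _root_.zpow_mul]
    simp [hg₀2]
  obtain ⟨D, hD⟩ := hpg.exists_le_sylow
  have hg₀D : g₀ ∈ (D : Subgroup (GL (Fin 2) F)) := hD (mem_zpowers g₀)
  have hdetD : ∀ d ∈ (D : Subgroup (GL (Fin 2) F)), GeneralLinearGroup.det d = 1 ∨ GeneralLinearGroup.det d = -1 := by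
    intro d hd
    obtain ⟨k, hk⟩ := D.2 ⟨d, hd⟩
    have hk' : d ^ 2 ^ k = 1 := congrArg Subtype.val hk
    have h3 : orderOf (GeneralLinearGroup.det d) ∣ 2 ^ k :=
      orderOf_dvd_of_pow_eq_one (by rw [← map_pow, hk', map_one])
    have h4 : orderOf (GeneralLinearGroup.det d) ∣ Fintype.card F - 1 := by
      rw [← H6.SLCard.card_units']
      exact orderOf_dvd_natCard _
    obtain ⟨j, _, hj⟩ := (Nat.dvd_prime_pow Nat.prime_two).1 h3
    have h5 : j ≤ 1 := by
      by_contra hlt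
      have h6 : 4 ∣ Fintype.card F - 1 := by
        refine Dvd.dvd.trans ?_ h4
        rw [hj]
        exact pow_dvd_pow 2 (show 2 ≤ j by omega)
      omega
    have h6 : (GeneralLinearGroup.det d) ^ 2 = 1 := by
      rw [← orderOf_dvd_iff_pow_eq_one, hj]
      exact pow_dvd_pow 2 h5
    have h7 : ((GeneralLinearGroup.det d : Fˣ) : F) ^ 2 = 1 := by
      have := congrArg Units.val h6
      simpa using this
    rw [pow_two] at h7
    rcases mul_self_eq_one_iff.1 h7 with h8 | h8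
    · left; exact Units.ext h8
    · right; exact Units.ext (by simpa using h8)
  have hN := gd_map (SpecialLinearGroup.toGL : SL(2, F) →* GL (Fin 2) F) (gd_QQs hF D)
  rw [QQs_map] at hN
  refine ⟨D, ?_⟩
  refine gd_of_gen ((((D : Subgroup (GL (Fin 2) F)) ⊓ (GeneralLinearGroup.det : GL (Fin 2) F →* Fˣ).ker :
    Subgroup (GL (Fin 2) F)) : Set (GL (Fin 2) F)) ∪ {g₀}) ?_ ?_ ?_
  · rintro s (hs | hs)
    · exact hs.1
    · rw [Set.mem_singleton_iff.1 hs]; exact hg₀D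
  · intro d hd
    rcases hdetD d hd with h | h
    · exact subset_closure (Or.inl ⟨hd, h⟩)
    · have h3 : d * g₀ ∈ ((D : Subgroup (GL (Fin 2) F)) ⊓ (GeneralLinearGroup.det : GL (Fin 2) F →* Fˣ).ker :
        Subgroup (GL (Fin 2) F)) := ⟨mul_mem hd hg₀D, by
          show _ ∈ (GeneralLinearGroup.det : GL (Fin 2) F →* Fˣ).ker
          rw [MonoidHom.mem_ker, map_mul, h, hg₀d]; simp⟩
      have h4 : d = d * g₀ * g₀⁻¹ := by group
      rw [h4]
      exact mul_mem (subset_closure (Or.inl h3)) (inv_mem (subset_closure (Or.inr rfl)))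
  · rintro s (hs | hs)
    · exact commutator_mono inf_le_left inf_le_left (hN s hs)
    · rw [Set.mem_singleton_iff.1 hs, hg₀2]; exact one_mem _

/-- diagonal matrices -/
def dHom : Fˣ × Fˣ →* GL (Fin 2) F where
  toFun x := ⟨!![(x.1 : F), 0; 0, (x.2 : F)], !![((x.1⁻¹ : Fˣ) : F), 0; 0, ((x.2⁻¹ : Fˣ) : F)],
    by simp [Matrix.one_fin_two], by simp [Matrix.one_fin_two]⟩
  map_one' := Units.ext (by simp [Matrix.one_fin_two])
  map_mul' x y := Units.ext (by simp)

theorem dHom_val (x : Fˣ × Fˣ) : ((dHom x : GL (Fin 2) F) : M2 F) = !![(x.1 : F), 0; 0, (x.2 : F)] := rfl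

/-- the transposition matrix -/
def w0 : GL (Fin 2) F := ⟨!![0, 1; 1, 0], !![0, 1; 1, 0], by simp [Matrix.one_fin_two], by simp [Matrix.one_fin_two]⟩

theorem w0_val : ((w0 : GL (Fin 2) F) : M2 F) = !![0, 1; 1, 0] := rfl

theorem w0_sq : (w0 : GL (Fin 2) F) * w0 = 1 := Units.ext (by
  rw [Units.val_mul, w0_val]; simp [Matrix.one_fin_two])

theorem w0_dHom (x : Fˣ × Fˣ) : (w0 : GL (Fin 2) F) * dHom x = dHom (x.2, x.1) * w0 := Units.ext (by
  rw [Units.val_mul, Units.val_mul, w0_val, dHom_val, dHom_val]; simp)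

/-- `diag(a, 1) w₀` -/
def uu (a : Fˣ) : GL (Fin 2) F := dHom (a, 1) * w0

theorem dHom_eq (a b : Fˣ) : (dHom (a, b) : GL (Fin 2) F) = (uu a * w0⁻¹) * (w0⁻¹ * uu b) := by
  have e1 : uu a * w0⁻¹ = dHom (a, 1) := by
    rw [uu, mul_inv_cancel_right]
  have e2 : w0⁻¹ * uu b = dHom (1, b) := by
    have h3 := w0_dHom (F := F) (1, b)
    simp only at h3
    rw [uu, ← h3, ← mul_assoc, inv_mul_cancel, one_mul]
  rw [e1, e2, ← map_mul]
  congr 1
  exact Prod.ext (by simp) (by simp)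

theorem kap_dHom (a b : Fˣ) : kap (dHom (a, b) : GL (Fin 2) F) =
    (kap (uu a) * (kap w0)⁻¹) * ((kap w0)⁻¹ * kap (uu b)) := by
  rw [dHom_eq, map_mul, map_mul, map_mul, map_inv]

theorem kap_uu (a : Fˣ) : (kap (uu a)) ^ 2 = 1 := by
  rw [← map_pow]
  apply kap_eq_one_of_comm
  intro X
  have h1 : ((uu a ^ 2 : GL (Fin 2) F) : M2 F) = !![(a : F), 0; 0, (a : F)] := by
    rw [pow_two, Units.val_mul]
    show (!![(a : F), 0; 0, ((1 : Fˣ) : F)] * !![0, 1; 1, 0]) * (!![(a : F), 0; 0, ((1 : Fˣ) : F)] * !![0, 1; 1, 0]) = _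
    simp
  rw [h1]
  exact comm_all_of_scalar (by simp) X

theorem dHom_injective : Function.Injective (dHom (F := F)) := by
  intro x y h
  have h1 := congrArg (fun g : GL (Fin 2) F => (g : M2 F)) h
  simp only [dHom_val] at h1
  have h2 := congrFun (congrFun h1 0) 0
  have h3 := congrFun (congrFun h1 1) 1
  exact Prod.ext (Units.ext (by simpa using h2)) (Units.ext (by simpa using h3))

theorem w0_ne_one : (w0 : GL (Fin 2) F) ≠ 1 := by
  intro h
  have h1 := congrArg (fun g : GL (Fin 2) F => (g : M2 F) 0 0) h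
  simp [w0_val] at h1

theorem w0_zpow_even (j : ℤ) : (w0 : GL (Fin 2) F) ^ (j + j) = 1 := by
  have h1 : (w0 : GL (Fin 2) F) ^ (2 : ℤ) = 1 := by
    show (w0 : GL (Fin 2) F) ^ ((2 : ℕ) : ℤ) = 1
    rw [zpow_natCast, pow_two, w0_sq]
  rw [← two_mul, _root_.zpow_mul, h1, _root_.one_zpow]

theorem exists_D_sup (hq : Fintype.card F % 4 = 1) :
    ∃ (D : Sylow 2 (GL (Fin 2) F)) (S : Subgroup Fˣ),
      (D : Subgroup (GL (Fin 2) F)) = (S.prod S).map dHom ⊔ zpowers w0 := by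
  haveI : Fact (Nat.Prime 2) := ⟨Nat.prime_two⟩
  have hq1 : 1 < Fintype.card F := Fintype.one_lt_card
  have hF : Odd (Fintype.card F) := Nat.odd_iff.2 (by omega)
  obtain ⟨S⟩ : Nonempty (Sylow 2 Fˣ) := inferInstance
  have hcS : Nat.card (S : Subgroup Fˣ) = 2 ^ padicValNat 2 (Fintype.card F - 1) := by
    have h1 : Nat.card (S : Subgroup Fˣ) = 2 ^ (Nat.card Fˣ).factorization 2 := S.card_eq_multiplicity
    rw [H6.SLCard.card_units', ValQ.pow_fact rfl] at h1
    exact h1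
  set E : Subgroup (GL (Fin 2) F) := ((S : Subgroup Fˣ).prod (S : Subgroup Fˣ)).map dHom with hE
  have hcE : Nat.card E = 2 ^ (padicValNat 2 (Fintype.card F - 1) + padicValNat 2 (Fintype.card F - 1)) := by
    rw [hE, ← Nat.card_congr (equivMapOfInjective _ dHom dHom_injective).toEquiv,
      Nat.card_congr ((S : Subgroup Fˣ).prodEquiv (S : Subgroup Fˣ)).toEquiv, Nat.card_prod, hcS, pow_add]
  have hcT : Nat.card (zpowers (w0 : GL (Fin 2) F)) = 2 := by
    rw [Nat.card_zpowers]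
    exact orderOf_eq_prime (by rw [pow_two, w0_sq]) w0_ne_one
  have hcon : ∀ x ∈ E, (w0 : GL (Fin 2) F) * x * w0⁻¹ ∈ E := by
    rintro _ ⟨x, hx, rfl⟩
    rw [w0_dHom, mul_inv_cancel_right]
    exact ⟨_, ⟨hx.2, hx.1⟩, rfl⟩
  have hwinv : (w0 : GL (Fin 2) F)⁻¹ = w0 := inv_eq_of_mul_eq_one_left w0_sq
  have hnorm : zpowers (w0 : GL (Fin 2) F) ≤ normalizer (E : Set (GL (Fin 2) F)) := by
    rw [zpowers_le, mem_normalizer_iff]
    intro x
    refine ⟨hcon x, fun h => ?_⟩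
    have h1 := hcon _ h
    rw [hwinv] at h1
    have h2 : (w0 : GL (Fin 2) F) * (w0 * x * w0) * w0 = x := by
      calc (w0 : GL (Fin 2) F) * (w0 * x * w0) * w0 = (w0 * w0) * x * (w0 * w0) := by group
        _ = x := by rw [w0_sq]; group
    rwa [h2] at h1
  have hwE : (w0 : GL (Fin 2) F) ∉ E := by
    rintro ⟨x, _, hx⟩
    have h1 := congrArg (fun g : GL (Fin 2) F => (g : M2 F) 0 1) hx
    simp only [dHom_val, w0_val] at h1
    simp at h1
  have hdis : E ⊓ zpowers (w0 : GL (Fin 2) F) = ⊥ := by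
    rw [eq_bot_iff]
    rintro x ⟨hxE, hxT⟩
    obtain ⟨k, rfl⟩ := mem_zpowers_iff.1 hxT
    rw [mem_bot]
    rcases Int.even_or_odd k with ⟨j, hj⟩ | ⟨j, hj⟩
    · rw [hj]
      exact w0_zpow_even j
    · exfalso
      apply hwE
      have h1 : (w0 : GL (Fin 2) F) ^ k = w0 := by
        rw [hj, two_mul, _root_.zpow_add_one, w0_zpow_even, one_mul]
      rwa [h1] at hxE
  obtain ⟨D, hD⟩ := exists_sylow (p := 2) E (zpowers (w0 : GL (Fin 2) F)) hnorm hdis (by
    rw [hcE, hcT, ValQ.pow_fact (val_gl2 hF), ValQ.val_sq hq1, ValQ.val_add_one hq, ← pow_succ]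
    congr 1
    ring)
  exact ⟨D, S, hD⟩

theorem exists_D_one (hq : Fintype.card F % 4 = 1) :
    ∃ D : Sylow 2 (GL (Fin 2) F), Gd 2 ((D : Subgroup (GL (Fin 2) F)).map kap) := by
  obtain ⟨D, S, hD⟩ := exists_D_sup hq
  refine ⟨D, ?_⟩
  have huD : ∀ a ∈ S, uu a ∈ (D : Subgroup (GL (Fin 2) F)) := by
    intro a ha
    rw [hD, uu]
    exact mul_mem (mem_sup_left ⟨_, ⟨ha, one_mem _⟩, rfl⟩) (mem_sup_right (mem_zpowers _))
  have hwD : (w0 : GL (Fin 2) F) ∈ (D : Subgroup (GL (Fin 2) F)) := by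
    rw [hD]; exact mem_sup_right (mem_zpowers _)
  refine gd_of_elem ({kap w0} ∪ {x | ∃ a ∈ S, x = kap (uu a)}) ?_ ?_ ?_
  · rintro s (hs | ⟨a, ha, rfl⟩)
    · rw [Set.mem_singleton_iff.1 hs]; exact ⟨_, hwD, rfl⟩
    · exact ⟨_, huD a ha, rfl⟩
  · have hw : kap (w0 : GL (Fin 2) F) ∈ closure ({kap w0} ∪ {x | ∃ a ∈ S, x = kap (uu a)}) :=
      subset_closure (Or.inl rfl)
    have hu : ∀ a ∈ S, kap (uu a) ∈ closure ({kap w0} ∪ {x | ∃ a ∈ S, x = kap (uu a)}) :=
      fun a ha => subset_closure (Or.inr ⟨a, ha, rfl⟩)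
    rw [hD, map_le_iff_le_comap]
    refine sup_le ?_ ?_
    · rintro _ ⟨⟨a, b⟩, ⟨ha, hb⟩, rfl⟩
      rw [mem_comap, kap_dHom]
      exact mul_mem (mul_mem (hu a ha) (inv_mem hw)) (mul_mem (inv_mem hw) (hu b hb))
    · rw [zpowers_le]; exact hw
  · rintro s (hs | ⟨a, ha, rfl⟩)
    · rw [Set.mem_singleton_iff.1 hs, ← map_pow, pow_two, w0_sq, map_one]
    · exact kap_uu a

theorem exists_D (hF : Odd (Fintype.card F)) :
    ∃ D : Sylow 2 (GL (Fin 2) F), Gd 2 ((D : Subgroup (GL (Fin 2) F)).map kap) := by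
  have hmod : Fintype.card F % 4 = 1 ∨ Fintype.card F % 4 = 3 := by
    have := Nat.odd_iff.1 hF; omega
  rcases hmod with h | h
  · exact exists_D_one h
  · obtain ⟨D, hD⟩ := exists_D_three h
    exact ⟨D, gd_map kap hD⟩

end H79.G2Main
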