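import Cfsg.Agent.Lib.H79.G2Cent
import Cfsg.Agent.Lib.H14.PBasic

/-! Sylow 2-subgroups of `G₂(q)`, `q` odd. -/

set_option autoImplicit false
set_option linter.unusedSectionVars false
set_option linter.style.haveILetI false

namespace H79.G2Syl

open Subgroup Matrix H79.G2CD H79.G2Iso H79.G2Cent H79.SylElem H79.WrSyl
open scoped MatrixGroups commutatorElement

section syl

variable {G : Type*} [Group G] [Finite G] {p : ℕ} [hp : Fact p.Prime]

/-- a `p`-subgroup with a characteristic central element, Sylow in its centralizer, is Sylow -/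
theorem sylow_of_center (P C : Subgroup G) (t : G) (hPC : P ≤ C)
    (hcard : Nat.card P = p ^ (Nat.card C).factorization p) (htP : t ∈ P) (ht1 : t ≠ 1)
    (htc : ∀ x ∈ P, x * t = t * x)
    (hz : ∀ z ∈ P, (∀ x ∈ P, x * z = z * x) → z = 1 ∨ z = t) (hC : ∀ g, g * t = t * g → g ∈ C) :
    Nat.card P = p ^ (Nat.card G).factorization p := by
  have hPp : IsPGroup p P := IsPGroup.of_card hcard
  obtain ⟨S, hS⟩ := hPp.exists_le_sylow
  have hPS : P = S := by
    by_contra hne
    have hlt : P < (S : Subgroup G) := lt_of_le_of_ne hS hne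
    have hN := H14.PBasic.lt_normalizer_inf S.2 hlt
    set N := Subgroup.normalizer (P : Set G) ⊓ (S : Subgroup G) with hNdef
    have hNC : N ≤ C := by
      intro g hg
      apply hC
      have hg1 := (mem_normalizer_iff.1 hg.1)
      have h1 : g * t * g⁻¹ ∈ P := (hg1 t).1 htP
      have h2 : ∀ x ∈ P, x * (g * t * g⁻¹) = (g * t * g⁻¹) * x := by
        intro x hx
        have h3 : g⁻¹ * x * g ∈ P := (hg1 (g⁻¹ * x * g)).2 (by
          have : g * (g⁻¹ * x * g) * g⁻¹ = x := by group
          rw [this]; exact hx)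
        have h4 := htc _ h3
        calc x * (g * t * g⁻¹) = g * ((g⁻¹ * x * g) * t) * g⁻¹ := by group
          _ = g * (t * (g⁻¹ * x * g)) * g⁻¹ := by rw [h4]
          _ = (g * t * g⁻¹) * x := by group
      rcases hz _ h1 h2 with h3 | h3
      · exfalso
        apply ht1
        have : t = g⁻¹ * (g * t * g⁻¹) * g := by group
        rw [this, h3]; group
      · exact mul_inv_eq_iff_eq_mul.1 h3
    have hNp : IsPGroup p N := S.2.to_le inf_le_right
    obtain ⟨n, hn⟩ := IsPGroup.iff_card.1 hNp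
    have h1 : Nat.card N ∣ Nat.card C := Subgroup.card_dvd_of_le hNC
    have h2 : Nat.card P ∣ Nat.card N := Subgroup.card_dvd_of_le hN.le
    rw [hn] at h1
    have h3 := (Nat.Prime.pow_dvd_iff_le_factorization hp.out Nat.card_pos.ne').1 h1
    have h4 : Nat.card N ≤ Nat.card P := by
      rw [hn, hcard]
      exact Nat.pow_le_pow_right hp.out.pos h3
    have h5 : P = N := Subgroup.eq_of_le_of_card_ge hN.le h4
    exact absurd h5 hN.ne
  rw [show Nat.card P = Nat.card (S : Subgroup G) from by rw [hPS]]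
  exact S.card_eq_multiplicity

end syl

section comm

variable {F : Type*} [Field F]

/-- commuting matrices with a common non-scalar partner commute -/
theorem comm_of_nonscalar {m a b : M2 F} (hm : ¬ (m 0 1 = 0 ∧ m 1 0 = 0 ∧ m 0 0 = m 1 1))
    (ha : m * a = a * m) (hb : m * b = b * m) : a * b = b * a := by
  have e : ∀ x : M2 F, m * x = x * m → x 0 1 * m 1 0 = m 0 1 * x 1 0 ∧
      m 0 1 * (x 0 0 - x 1 1) = x 0 1 * (m 0 0 - m 1 1) ∧ x 1 0 * (m 0 0 - m 1 1) = m 1 0 * (x 0 0 - x 1 1) := by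
    intro x hx
    have h00 := congrFun (congrFun hx 0) 0
    have h01 := congrFun (congrFun hx 0) 1
    have h10 := congrFun (congrFun hx 1) 0
    simp only [Matrix.mul_apply, Fin.sum_univ_two] at h00 h01 h10
    refine ⟨?_, ?_, ?_⟩
    · linear_combination -h00
    · linear_combination -h01
    · linear_combination -h10
  obtain ⟨a1, a2, a3⟩ := e a ha
  obtain ⟨b1, b2, b3⟩ := e b hb
  -- the three relations
  have hrel : a 0 1 * b 1 0 = b 0 1 * a 1 0 ∧ b 0 1 * (a 0 0 - a 1 1) = a 0 1 * (b 0 0 - b 1 1) ∧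
      a 1 0 * (b 0 0 - b 1 1) = b 1 0 * (a 0 0 - a 1 1) := by
    by_cases hm1 : m 0 1 = 0
    · by_cases hm2 : m 1 0 = 0
      · have hm3 : m 0 0 - m 1 1 ≠ 0 := fun h => hm ⟨hm1, hm2, sub_eq_zero.1 h⟩
        rw [hm1, zero_mul] at a2 b2
        rw [hm2, zero_mul] at a3 b3
        have a01 : a 0 1 = 0 := (mul_eq_zero.1 a2.symm).resolve_right hm3
        have b01 : b 0 1 = 0 := (mul_eq_zero.1 b2.symm).resolve_right hm3
        have a10 : a 1 0 = 0 := (mul_eq_zero.1 a3).resolve_right hm3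
        have b10 : b 1 0 = 0 := (mul_eq_zero.1 b3).resolve_right hm3
        rw [a01, b01, a10, b10]
        simp
      · rw [hm1, zero_mul] at a1 b1
        have a01 : a 0 1 = 0 := (mul_eq_zero.1 a1).resolve_right hm2
        have b01 : b 0 1 = 0 := (mul_eq_zero.1 b1).resolve_right hm2
        rw [a01, b01]
        refine ⟨by ring, by ring, ?_⟩
        apply mul_left_cancel₀ hm2
        linear_combination b 1 0 * a3 - a 1 0 * b3
    · have r2 : b 0 1 * (a 0 0 - a 1 1) = a 0 1 * (b 0 0 - b 1 1) := by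
        apply mul_left_cancel₀ hm1
        linear_combination b 0 1 * a2 - a 0 1 * b2
      have r1 : a 0 1 * b 1 0 = b 0 1 * a 1 0 := by
        apply mul_left_cancel₀ hm1
        linear_combination b 0 1 * a1 - a 0 1 * b1
      refine ⟨r1, r2, ?_⟩
      apply mul_left_cancel₀ hm1
      linear_combination (a 0 0 - a 1 1) * b1 - (b 0 0 - b 1 1) * a1 - m 1 0 * r2
  obtain ⟨r1, r2, r3⟩ := hrel
  ext i j
  fin_cases i <;> fin_cases j
  · simp only [Matrix.mul_apply, Fin.sum_univ_two, Fin.zero_eta]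
    linear_combination r1
  · simp only [Matrix.mul_apply, Fin.sum_univ_two, Fin.zero_eta, Fin.mk_one]
    linear_combination r2
  · simp only [Matrix.mul_apply, Fin.sum_univ_two, Fin.zero_eta, Fin.mk_one]
    linear_combination r3
  · simp only [Matrix.mul_apply, Fin.sum_univ_two, Fin.mk_one]
    linear_combination -r1

theorem comm_all_of_scalar {m : M2 F} (hm : m 0 1 = 0 ∧ m 1 0 = 0 ∧ m 0 0 = m 1 1) (X : M2 F) :
    m * X = X * m := by
  obtain ⟨h1, h2, h3⟩ := hm
  ext i j
  fin_cases i <;> fin_cases j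
  · simp only [Matrix.mul_apply, Fin.sum_univ_two, Fin.zero_eta, h1, h2]; ring
  · simp only [Matrix.mul_apply, Fin.sum_univ_two, Fin.zero_eta, Fin.mk_one, h1, h3]; ring
  · simp only [Matrix.mul_apply, Fin.sum_univ_two, Fin.zero_eta, Fin.mk_one, h2, h3]; ring
  · simp only [Matrix.mul_apply, Fin.sum_univ_two, Fin.mk_one, h1, h2]; ring

/-- quaternion Sylow subgroups are not commutative -/
theorem exists_noncomm [Fintype F] (hF : Odd (Fintype.card F)) (Q : Sylow 2 (SL(2, F))) :
    ∃ a ∈ (Q : Subgroup (SL(2, F))), ∃ b ∈ (Q : Subgroup (SL(2, F))), a * b ≠ b * a := by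
  obtain ⟨k, hk, ⟨e⟩⟩ := H6.SL2Tor.sl2_quaternion_sylow (H6.SL2Tor.two_ne_zero_of_odd hF) Q
  refine ⟨e.symm (QuaternionGroup.a 1), (e.symm (QuaternionGroup.a 1)).2,
    e.symm (QuaternionGroup.xa 0), (e.symm (QuaternionGroup.xa 0)).2, fun h => ?_⟩
  have h1 : e.symm (QuaternionGroup.a 1) * e.symm (QuaternionGroup.xa 0) =
      e.symm (QuaternionGroup.xa 0) * e.symm (QuaternionGroup.a 1) := Subtype.ext h
  rw [← map_mul, ← map_mul] at h1
  have h2 := e.symm.injective h1
  rw [QuaternionGroup.a_mul_xa, QuaternionGroup.xa_mul_a] at h2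
  have h3 : (0 : ZMod (2 * 2 ^ k)) - 1 = 0 + 1 := QuaternionGroup.xa.inj h2
  have h4 : ((2 : ℕ) : ZMod (2 * 2 ^ k)) = 0 := by
    push_cast
    linear_combination -h3
  rw [ZMod.natCast_eq_zero_iff] at h4
  have h5 := Nat.le_of_dvd (by norm_num) h4
  have h6 : 2 ^ 1 ≤ 2 ^ k := Nat.pow_le_pow_right (by norm_num) hk
  omega

end comm

end H79.G2Syl
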