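import Mathlib
import Cfsg.Agent.Lib.H79.K0Bd
import Cfsg.Agent.S4571

/-! The number of `p'`-degree characters of the principal block: the end of the proof. -/

set_option autoImplicit false
set_option linter.unusedSectionVars false
set_option linter.unusedVariables false
set_option linter.style.haveILetI false
open Cfsg

namespace H79.K0Main

open H20.Loc H20.GA H20.Blk H20.NormQ H20.Orth H20.NPC H18.CharBasic H18.CharOrtho H78.BlkCount
open H78.Contr H20.Height H20.Defect H79.K0Bd
open scoped ComplexConjugate

universe u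

variable {p : ℕ} {M : Ideal AlgInt} {G : Type u} [Group G] [Finite G]

theorem of_rank_one (hM : IsPModular p M) {x : G} (hup : ∃ k : ℕ, orderOf x = p ^ k)
    (hC : (Nat.card (Subgroup.centralizer ({x} : Set G))).factorization p ≤ 2)
    (h1 : blockRank p (principalBlock M (Subgroup.centralizer ({x} : Set G))) = 1) :
    Nat.card {χ : IrrCharacter G // χ ∈ principalBlock M G ∧
      blockHeight p (principalBlock M G) (χ : G → ℂ) = 0} ≤ p ^ 2 := by
  classical
  letI := Fintype.ofFinite G
  have hp := pm_prime hM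
  set H := Subgroup.centralizer ({x} : Set G) with hH
  letI := Fintype.ofFinite H
  letI := Fintype.ofFinite (IrrCharacter H)
  letI := Fintype.ofFinite (IrrCharacter G)
  have hind := H79.KLTwo.principal_induced hM hup
  obtain ⟨i, ζ, e, S⟩ := exists_sit hM hH.symm hup hind
  have h2 := H79.FormBd.card_le S
  rw [h1, mul_one, defect_principal hM] at h2
  exact h2.trans (Nat.pow_le_pow_right hp.pos hC)

theorem npc_two {K : Type u} [Group K] [Finite K] (h : (Nat.card K).factorization 2 = 1) :
    HasNormalPComplement 2 K := by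
  classical
  haveI : Fact (Nat.Prime 2) := ⟨Nat.prime_two⟩
  obtain ⟨P⟩ : Nonempty (Sylow 2 K) := inferInstance
  have hPc : Nat.card P = 2 := by rw [P.card_eq_multiplicity, h, pow_one]
  have hcyc : IsCyclic (P : Subgroup K) := isCyclic_of_prime_card hPc
  have hmin : (Nat.card K).minFac = 2 := by
    rw [Nat.minFac_eq_two_iff]
    exact Nat.dvd_of_factorization_pos (by rw [h]; exact one_ne_zero)
  exact ⟨P, _, inferInstance, IsCyclic.isComplement' hmin hcyc⟩

theorem main_nt (hM : IsPModular p M) {x : G} (hx1 : x ≠ 1) (hup : ∃ k : ℕ, orderOf x = p ^ k)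
    (hC : (Nat.card (Subgroup.centralizer ({x} : Set G))).factorization p ≤ 2) :
    Nat.card {χ : IrrCharacter G // χ ∈ principalBlock M G ∧
      blockHeight p (principalBlock M G) (χ : G → ℂ) = 0} ≤ p ^ 2 := by
  classical
  letI := Fintype.ofFinite G
  haveI : Fact p.Prime := ⟨pm_prime hM⟩
  have hp := pm_prime hM
  obtain ⟨k, hk⟩ := hup
  have hk0 : k ≠ 0 := by
    rintro rfl
    rw [pow_zero, orderOf_eq_one_iff] at hk
    exact hx1 hk
  set H := Subgroup.centralizer ({x} : Set G) with hH
  letI := Fintype.ofFinite H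
  have hxH : x ∈ H := Subgroup.mem_centralizer_singleton_iff.2 rfl
  set Q : Subgroup H := Subgroup.zpowers ⟨x, hxH⟩ with hQ
  have hQc : Q ≤ Subgroup.center H := by
    rw [hQ, Subgroup.zpowers_le, Subgroup.mem_center_iff]
    intro c
    apply Subtype.ext
    exact Subgroup.mem_centralizer_singleton_iff.1 c.2
  haveI hQn : Q.Normal := ⟨fun n hn g => by
    rw [Subgroup.mem_center_iff.1 (hQc hn) g, mul_inv_cancel_right]; exact hn⟩
  have hQcard : Nat.card Q = p ^ k := by rw [hQ, Nat.card_zpowers, Subgroup.orderOf_mk, hk]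
  have hQp : IsPGroup p Q := IsPGroup.of_card hQcard
  have hsup : Q ⊔ Subgroup.centralizer (Q : Set H) = ⊤ := by
    rw [eq_top_iff]
    intro h _
    apply (le_sup_right : _ ≤ Q ⊔ Subgroup.centralizer (Q : Set H))
    rw [Subgroup.mem_centralizer_iff]
    intro z hz
    exact (Subgroup.mem_center_iff.1 (hQc hz) h).symm
  have hrk := Cfsg.Agent.S4571.result p M hM Q hQp hsup
  have hfac : (Nat.card H).factorization p = (Nat.card (H ⧸ Q)).factorization p + k := by
    rw [Subgroup.card_eq_card_quotient_mul_card_subgroup Q,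
      Nat.factorization_mul Nat.card_pos.ne' Nat.card_pos.ne', Finsupp.add_apply, hQcard,
      hp.factorization_pow, Finsupp.single_eq_same]
  by_cases h0 : p ∣ Nat.card (H ⧸ Q)
  · have h1 : 0 < (Nat.card (H ⧸ Q)).factorization p :=
      hp.factorization_pos_of_dvd Nat.card_pos.ne' h0
    have h2 : (Nat.card (H ⧸ Q)).factorization p = 1 := by omega
    have h3 : k = 1 := by omega
    by_cases hp2 : p = 2
    · subst hp2
      refine of_rank_one hM ⟨k, hk⟩ hC ?_
      rw [hrk]
      exact rank_of_npc hM (npc_two h2)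
    · refine main_case hM hp2 (x := x) (by rw [hk, h3, pow_one]) ?_
      rw [← hH, hfac, h2, h3]
  · refine of_rank_one hM ⟨k, hk⟩ hC ?_
    rw [hrk]
    exact rank_of_not_dvd hM h0

theorem main (hM : IsPModular p M)
    (hx : ∃ x : G, (∃ k : ℕ, orderOf x = p ^ k) ∧
      (Nat.card (Subgroup.centralizer ({x} : Set G))).factorization p ≤ 2) :
    Nat.card {χ : IrrCharacter G // χ ∈ principalBlock M G ∧ ¬ p ∣ charDegree (χ : G → ℂ)} ≤
      p ^ 2 := by
  classical
  letI := Fintype.ofFinite G
  haveI : Fact p.Prime := ⟨pm_prime hM⟩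
  have hp := pm_prime hM
  have hp2 : 1 ≤ p ^ 2 := Nat.one_le_iff_ne_zero.2 (pow_ne_zero _ hp.ne_zero)
  have key : Nat.card {χ : IrrCharacter G // χ ∈ principalBlock M G ∧
      blockHeight p (principalBlock M G) (χ : G → ℂ) = 0} ≤ p ^ 2 := by
    by_cases hG : p ∣ Nat.card G
    · obtain ⟨x, hup, hC⟩ := hx
      by_cases hx1 : x = 1
      · subst hx1
        obtain ⟨y, hy⟩ := exists_prime_orderOf_dvd_card' p hG
        have hy1 : y ≠ 1 := by
          rintro rfl
          rw [orderOf_one] at hy
          exact hp.one_lt.ne hy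
        refine main_nt hM hy1 ⟨1, by rw [hy, pow_one]⟩ (le_trans ?_ hC)
        have h1 : Subgroup.centralizer ({(1 : G)} : Set G) = ⊤ := by
          rw [eq_top_iff]
          intro g _
          rw [Subgroup.mem_centralizer_singleton_iff, mul_one, one_mul]
        rw [h1, Subgroup.card_top]
        exact (Nat.factorization_le_iff_dvd Nat.card_pos.ne' Nat.card_pos.ne').2
          (Subgroup.card_subgroup_dvd_card _) p
      · exact main_nt hM hx1 hup hC
    · rw [principal_of_not_dvd hM hG]
      refine le_trans ?_ hp2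
      rw [Finite.card_le_one_iff_subsingleton]
      constructor
      rintro ⟨a, ha, _⟩ ⟨b, hb, _⟩
      apply Subtype.ext
      rw [Set.mem_singleton_iff] at ha hb
      exact ha.trans hb.symm
  refine le_trans ?_ key
  apply Nat.card_le_card_of_injective
    (fun χ : {χ : IrrCharacter G // χ ∈ principalBlock M G ∧ ¬ p ∣ charDegree (χ : G → ℂ)} =>
      (⟨χ.1, χ.2.1, by
        rw [blockHeight, Nat.factorization_eq_zero_of_not_dvd χ.2.2, Nat.zero_sub]⟩ :
        {χ : IrrCharacter G // χ ∈ principalBlock M G ∧
          blockHeight p (principalBlock M G) (χ : G → ℂ) = 0}))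
  intro a b hab
  apply Subtype.ext
  exact congrArg (fun z => z.1) hab

end H79.K0Main
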