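import Mathlib
import Cfsg.Agent.S4687
import Cfsg.Agent.S4690
import Cfsg.Agent.Lib.H80.SU4
import Cfsg.Agent.Lib.H81.RankCard
import Cfsg.Agent.Lib.H20.Cor6

/-!
# Nilpotent blocks with abelian defect group: counting; blocks with defect group of order two
-/

set_option autoImplicit false
set_option linter.unusedSectionVars false
set_option linter.unusedVariables false
set_option linter.style.haveILetI false

open Cfsg

namespace H79.NilCount

universe u

variable {M : Ideal AlgInt} {G : Type u} [Group G] [Finite G] {p : ℕ} {B : Set (IrrCharacter G)}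

theorem rank_pos (hM : IsPModular p M) (hB : IsPBlock M B) : 0 < blockRank p B := by
  haveI := H20.Loc.pm_isPrime hM
  obtain ⟨χ, hχ⟩ := H20.Blk.isPBlock_nonempty hB
  rw [H81.RankCard.rank_eq]
  have h5 : H20.Orth.reg p (χ : G → ℂ) ≠ 0 := by
    intro hc
    have := congrFun hc 1
    rw [H20.Orth.reg_of] at this
    · exact H18.CharBasic.irr_one_ne_zero χ.2 this
    · rw [orderOf_one]; exact (H20.Loc.pm_prime hM).one_lt.ne' ∘ Nat.dvd_one.1
  rw [Set.finrank, Module.finrank_pos_iff]
  refine ⟨⟨⟨H20.Orth.reg p (χ : G → ℂ), Submodule.subset_span ⟨⟨χ, hχ⟩, rfl⟩⟩, 0, ?_⟩⟩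
  intro hc
  exact h5 (congrArg Subtype.val hc)

/-- an abelian defect group whose normalizer is its centralizer belongs to a nilpotent block -/
theorem nilpotent_of_normalizer (hM : IsPModular p M) (hB : IsPBlock M B) {D : Subgroup G}
    (hD : IsDefectGroup p M B D) (hab : ∀ x ∈ D, ∀ y ∈ D, x * y = y * x)
    (hN : ∀ x : G, x ∈ Subgroup.normalizer (D : Set G) → x ∈ Subgroup.centralizer (D : Set G)) :
    IsNilpotentBlock p M B := by
  haveI : Fact p.Prime := ⟨hM.1⟩
  have : M.IsMaximal := hM.2.1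
  have : CharP (H20.Loc.ResF M) p := H20.Loc.charP_resF hM
  let _ : Algebra (ZMod p) (H20.Loc.ResF M) := ZMod.algebra (H20.Loc.ResF M) p
  have : Algebra.IsAlgebraic (ZMod p) (H20.Loc.ResF M) := H80.BR1.isAlgebraic_resF hM
  have : IsAlgClosed (H20.Loc.ResF M) := H20.Loc.isAlgClosed_resF
  letI := Fintype.ofFinite G
  obtain ⟨c, hc, hmax⟩ := H80.SU4.exists_max hM hB hD
  have h1 : IsMaximalBrauerPair p M B D c := H80.BR3.maximal_iff.2 ⟨hB, hc.1, hmax⟩
  rw [Cfsg.Agent.S4687.result p M hM B D c h1 hab]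
  intro x hx _
  exact hN x hx

/-- number of characters of a nilpotent block with abelian defect group -/
theorem card_of_nilpotent (hM : IsPModular p M) (hnil : IsNilpotentBlock p M B) {D : Subgroup G}
    (hD : IsDefectGroup p M B D) (hab : ∀ x ∈ D, ∀ y ∈ D, x * y = y * x) :
    Nat.card B = Nat.card D := by
  haveI : Fact p.Prime := ⟨hM.1⟩
  letI := Fintype.ofFinite G
  obtain ⟨Φ, -⟩ := Cfsg.Agent.S4690.result p M hM B hnil D hD
  rw [Nat.card_congr Φ, H18.CharOrtho.card_irr_eq_card_conjClasses]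
  letI : CommGroup D := { (inferInstance : Group D) with mul_comm := fun a b => Subtype.ext (hab a a.2 b b.2) }
  exact Nat.card_congr ConjClasses.mkEquiv.symm

end H79.NilCount
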