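import Cfsg.Agent.Lib.H79.Ovr
import Cfsg.Agent.Lib.H20.Loc
import Cfsg.Agent.Lib.H78.Cong
import Cfsg.Agent.Lib.H19.PSum
import Cfsg.Agent.Lib.H28.RelSyl
import Cfsg.Agent.Lib.H1.Cores

/-!
# Kernels of odd degree characters, normalizers of Sylow subgroups in quotients
-/

set_option autoImplicit false
open Cfsg
open scoped ComplexConjugate
open H18.CharBasic H18.CharOrtho H18.CharInd H18.CharQuot H31.Clifford H20.Loc

namespace H79.OddKer

universe u

section ker

variable {G : Type u} [Group G] [Finite G]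

/-- If the sum of an irreducible character over a normal subgroup is not zero, the subgroup is in the
kernel. -/
theorem ker_of_sum {K : Subgroup G} [hKn : K.Normal] [Fintype K] {χ : G → ℂ} (hχ : IsIrrCharacter G χ)
    (h : ∑ k : K, χ k ≠ 0) : ∀ k ∈ K, χ k = χ 1 := by
  classical
  letI := Fintype.ofFinite G
  have h1 : classInner (fun k : K => χ k) (fun _ => 1) ≠ 0 := by
    unfold classInner
    simp only [map_one, mul_one]
    exact mul_ne_zero (inv_ne_zero card_ne_zero') h
  have h2 := restrict_eq K hχ isIrrCharacter_one h1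
  have h3 : orb K (fun _ : K => (1 : ℂ)) = {fun _ => 1} := by
    ext φ
    rw [mem_orb, Finset.mem_singleton]
    constructor
    · rintro ⟨g, rfl⟩; rfl
    · rintro rfl; exact ⟨1, rfl⟩
  rw [h3, Finset.sum_singleton] at h2
  intro k hk
  have h4 := congrFun h2 ⟨k, hk⟩
  have h5 := congrFun h2 1
  simp only [Pi.smul_apply, OneMemClass.coe_one] at h4 h5
  rw [h4, h5]

/-- a normal subgroup of odd order is in the kernel of every real character of odd degree -/
theorem ker_real {K : Subgroup G} [hKn : K.Normal] (hK : (Nat.card K).Coprime 2) {χ : G → ℂ}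
    (hχ : IsIrrCharacter G χ) {d : ℕ} (hd : Odd d) (hχd : χ 1 = d) (hreal : ∀ g, conj (χ g) = χ g) :
    ∀ k ∈ K, χ k = χ 1 := by
  classical
  letI := Fintype.ofFinite K
  apply ker_of_sum hχ
  obtain ⟨M, hM⟩ := H78.Cong.exists_isPModular Nat.prime_two
  haveI := pm_isPrime hM
  haveI := hM.2.1
  haveI := charP_resF hM
  have hχc := isCharacter_of_isIrr hχ
  have hR : ∀ g, MemLocalRing M (χ g) := fun g => isIntegral_mem (char_isIntegral hχc g)
  intro h0
  have h1 : redFun M (∑ k : K, χ k) = redFun M (χ 1) := by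
    rw [redFun_sum (f := fun k : K => χ k) (fun k _ => hR k), ← Finset.add_sum_erase _ _ (Finset.mem_univ (1 : K)),
      OneMemClass.coe_one, add_eq_left]
    refine Finset.sum_involution (fun k _ => k⁻¹) ?_ ?_ ?_ ?_
    · intro k _
      have : χ ((k⁻¹ : K) : G) = χ k := by
        rw [Subgroup.coe_inv, char_inv hχc, hreal]
      rw [this]
      exact CharTwo.add_self_eq_zero _
    · intro k hk _ heq
      have hk1 : k ≠ 1 := Finset.ne_of_mem_erase hk
      apply hk1
      have h2 : k ^ 2 = 1 := by
        rw [pow_two]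
        nth_rewrite 1 [← heq]
        exact inv_mul_cancel k
      have h3 : orderOf k ∣ 2 := orderOf_dvd_of_pow_eq_one h2
      have h4 : orderOf k ∣ Nat.card K := orderOf_dvd_natCard k
      have h5 := Nat.eq_one_of_dvd_coprimes hK h4 h3
      exact orderOf_eq_one_iff.mp h5
    · intro k hk
      rw [Finset.mem_erase] at hk ⊢
      exact ⟨fun h => hk.1 (inv_eq_one.mp h), Finset.mem_univ _⟩
    · intro k _
      exact inv_inv k
  rw [h0, redFun_zero, hχd, redFun_natCast] at h1
  have h2 := (CharP.cast_eq_zero_iff (ResF M) 2 d).mp h1.symm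
  exact (Nat.not_even_iff_odd.mpr hd) (even_iff_two_dvd.mpr h2)

/-- a normal `p'`-subgroup with no fixed points under a `p`-group is in the kernel of every
irreducible character of degree prime to `p`. -/
theorem ker_fixed {p : ℕ} [hp : Fact p.Prime] {K : Subgroup G} [hKn : K.Normal] {Q : Type u} [Group Q]
    [Finite Q] (hQ : IsPGroup p Q) (i : Q →* G)
    (hfix : ∀ k ∈ K, (∀ x : Q, i x * k * (i x)⁻¹ = k) → k = 1) {χ : G → ℂ}
    (hχ : IsIrrCharacter G χ) {d : ℕ} (hd : ¬ p ∣ d) (hχd : χ 1 = d) :
    ∀ k ∈ K, χ k = χ 1 := by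
  classical
  letI := Fintype.ofFinite K
  apply ker_of_sum hχ
  obtain ⟨M, hM⟩ := H78.Cong.exists_isPModular hp.out
  haveI := pm_isPrime hM
  haveI := hM.2.1
  haveI := charP_resF hM
  have hχc := isCharacter_of_isIrr hχ
  have hR : ∀ g, MemLocalRing M (χ g) := fun g => isIntegral_mem (char_isIntegral hχc g)
  intro h0
  have h1 : redFun M (∑ k : K, χ k) = redFun M (χ 1) := by
    rw [redFun_sum (f := fun k : K => χ k) (fun k _ => hR k)]
    let act : MulAction Q K := MulAction.compHom K
      ((MulAut.conjNormal : G →* MulAut K).comp i)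
    have hact : ∀ (a : Q) (y : K), ((act.smul a y : K) : G) = i a * y * (i a)⁻¹ :=
      fun _ _ => rfl
    have hp0 : ∀ m : ResF M, p • m = 0 := by
      intro m
      rw [nsmul_eq_mul, CharP.cast_eq_zero, zero_mul]
    have key := @H19.PSum.sum_eq_sum_fixed p _ Q K (ResF M) _ _ hQ act _ _ hp0
      (fun k => redFun M (χ k)) (fun a y => by
        show redFun M (χ (i a * y * (i a)⁻¹)) = redFun M (χ y)
        rw [isClassFunction_of_isCharacter hχc])
    rw [key, ← Finset.add_sum_erase _ _ (Finset.mem_univ (1 : K))]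
    have h2 : ∀ k : K, (∀ a : Q, act.smul a k = k) ↔ k = 1 := by
      intro k
      constructor
      · intro h
        have := hfix k k.2 (fun x => by
          have := congrArg Subtype.val (h x)
          exact this)
        exact Subtype.ext this
      · rintro rfl a
        apply Subtype.ext
        rw [hact]; simp
    rw [Finset.sum_eq_zero, add_zero]
    · exact if_pos ((h2 1).mpr rfl)
    · intro k hk
      exact if_neg (fun h => Finset.ne_of_mem_erase hk ((h2 k).mp h))
  rw [h0, redFun_zero, hχd, redFun_natCast] at h1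
  exact hd ((CharP.cast_eq_zero_iff (ResF M) p d).mp h1.symm)

end ker

section sylow

open Subgroup H28.RelSyl H28.Cj

/-- Elements normalizing the image of a Sylow subgroup lift to elements normalizing it. -/
theorem lift_normalizer {G G' : Type*} [Group G] [Finite G] [Group G'] {p : ℕ} [hp : Fact p.Prime]
    (f : G →* G') (hf : Function.Surjective f) {P : Subgroup G} (hP : IsPGroup p P)
    (hPi : ¬ p ∣ P.index) {n' : G'} (hn : n' ∈ normalizer (P.map f : Set G')) :
    ∃ n ∈ normalizer (P : Set G), f n = n' := by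
  obtain ⟨g, rfl⟩ := hf n'
  have hS : IsSyl p P ⊤ := ⟨le_top, hP, by rwa [relIndex_top_right]⟩
  set H : Subgroup G := (P.map f).comap f with hH
  have hPH : P ≤ H := le_comap_map f P
  have hgPH : cj g P ≤ H := by
    intro x hx
    rw [mem_cj] at hx
    rw [hH, mem_comap]
    have h1 : f (g⁻¹ * x * g) ∈ P.map f := ⟨_, hx, rfl⟩
    have h2 := (mem_normalizer_iff.mp hn _).mp h1
    have h3 : f g * f (g⁻¹ * x * g) * (f g)⁻¹ = f x := by
      rw [← map_inv, ← map_mul, ← map_mul]; congr 1; group
    rwa [h3] at h2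
  have hS1 : IsSyl p P H := hS.of_le_of_le hPH le_top
  have hS2 : IsSyl p (cj g P) H := by
    have := hS.cj g
    rw [cj_top] at this
    exact this.of_le_of_le hgPH le_top
  obtain ⟨h, hh, hPh⟩ := hS2.exists_conj_eq hS1
  obtain ⟨q, hq, hqh⟩ := (mem_comap.mp hh : f h ∈ P.map f)
  refine ⟨q⁻¹ * h * g, ?_, ?_⟩
  · rw [mem_normalizer_iff_cj]
    have h1 : cj (q⁻¹ * h * g) P = cj q⁻¹ (cj h (cj g P)) := by
      rw [cj_cj, cj_cj]
    rw [h1, ← hPh]
    exact cj_eq_self_of_mem (P.inv_mem hq)
  · rw [map_mul, map_mul, map_inv, hqh, inv_mul_cancel, one_mul]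

end sylow

end H79.OddKer
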