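import Cfsg.Agent.Lib.H79.OrMain
import Cfsg.Agent.Lib.H7.MinusOrd
import Cfsg.Agent.Lib.H7.HypOrd

/-! Isometries with the standard forms. -/

set_option autoImplicit false
set_option linter.unusedSectionVars false
set_option linter.style.haveILetI false

namespace H79.OrIso

open H79.SylElem H79.OrWr H79.OrMain QuadraticMap H17.OrthAbs
  H17.OrthTheta H17.OrthOmega H48.QuadStd H48.QuadSplit

variable {F : Type*} [Field F] {V V' V'' : Type*} [AddCommGroup V] [Module F V] [AddCommGroup V']
  [Module F V'] [AddCommGroup V''] [Module F V'']

/-- the zero-dimensional form -/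
abbrev Q0 (F : Type*) [Field F] : QuadraticForm F PUnit.{1} := 0

theorem nd_Q0 : ND (Q0 F) := fun _ _ => Subsingleton.elim _ _

theorem prod_triv [Subsingleton V'] (Q : QuadraticForm F V) (Q' : QuadraticForm F V') :
    (Q.prod Q').Equivalent Q := by
  refine ⟨⟨{ toFun := fun x => x.1
             map_add' := fun x y => rfl
             map_smul' := fun c x => rfl
             invFun := fun x => (x, 0)
             left_inv := fun x => Prod.ext rfl (Subsingleton.elim _ _)
             right_inv := fun x => rfl }, fun x => ?_⟩⟩
  show Q x.1 = (Q.prod Q') x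
  rw [QuadraticMap.prod_apply, Subsingleton.elim x.2 0, QuadraticMap.map_zero, add_zero]

theorem QQ_zero (q : QuadraticForm F V) (QW : QuadraticForm F V') : (QQ q QW 0).Equivalent QW := by
  refine ⟨⟨{ toFun := fun x => x.2
             map_add' := fun x y => rfl
             map_smul' := fun c x => rfl
             invFun := fun x => (0, x)
             left_inv := fun x => Prod.ext (Subsingleton.elim _ _) rfl
             right_inv := fun x => rfl }, fun x => ?_⟩⟩
  show QW x.2 = (QQ q QW 0) x
  rw [QQ_apply]
  simp

theorem QQ_succ (q : QuadraticForm F V) (QW : QuadraticForm F V') (k : ℕ) :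
    (QQ q QW (k + 1)).Equivalent (q.prod (QQ q QW k)) := by
  refine ⟨⟨{ toFun := fun x => (x.1 0, (fun i => x.1 i.succ, x.2))
             map_add' := fun x y => rfl
             map_smul' := fun c x => rfl
             invFun := fun x => (Fin.cons x.1 x.2.1, x.2.2)
             left_inv := fun x => by
               refine Prod.ext ?_ rfl
               exact Fin.cons_self_tail x.1
             right_inv := fun x => rfl }, fun x => ?_⟩⟩
  show (q.prod (QQ q QW k)) (x.1 0, (fun i => x.1 i.succ, x.2)) = (QQ q QW (k + 1)) x
  rw [QuadraticMap.prod_apply, QQ_apply, QQ_apply, Fin.sum_univ_succ]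
  ring

theorem assoc_comm (Q : QuadraticForm F V) (Q' : QuadraticForm F V') (Q'' : QuadraticForm F V'') :
    (Q.prod (Q'.prod Q'')).Equivalent (Q'.prod (Q.prod Q'')) :=
  (prod_assoc_equiv _ _ _).symm.trans (((prod_comm_equiv _ _).prod (Equivalent.refl _)).trans
    (prod_assoc_equiv _ _ _))

/-- `qPlus` with another form -/
theorem plus_zero (QW : QuadraticForm F V') : ((qPlus 0 F).prod QW).Equivalent QW :=
  (prod_comm_equiv _ _).trans (prod_triv _ _)

theorem plus_succ (QW : QuadraticForm F V') (m : ℕ) :
    ((qPlus (m + 1) F).prod QW).Equivalent ((hyp F).prod ((qPlus m F).prod QW)) :=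
  ((qPlus_succ m).prod (Equivalent.refl _)).trans (prod_assoc_equiv _ _ _)

/-- if `xy ≅ x² + y²` -/
theorem plus_one (h : (hyp F).Equivalent (q2 F)) (QW : QuadraticForm F V') (m : ℕ) :
    ((qPlus m F).prod QW).Equivalent (QQ (q2 F) QW m) := by
  induction m with
  | zero => exact (plus_zero QW).trans (QQ_zero _ _).symm
  | succ m ih => exact (plus_succ QW m).trans ((h.prod ih).trans (QQ_succ _ _ m).symm)

/-- if `2 xy ≅ 2 (x² + y²)` -/
theorem plus_two (h : ((hyp F).prod (hyp F)).Equivalent ((q2 F).prod (q2 F)))
    (QW : QuadraticForm F V') (j : ℕ) :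
    ((qPlus (2 * j) F).prod QW).Equivalent (QQ (q2 F) QW (2 * j)) := by
  induction j with
  | zero => exact (plus_zero QW).trans (QQ_zero _ _).symm
  | succ j ih =>
    have e : 2 * (j + 1) = 2 * j + 1 + 1 := by ring
    rw [e]
    refine (plus_succ QW (2 * j + 1)).trans ?_
    refine ((Equivalent.refl (hyp F)).prod (plus_succ QW (2 * j))).trans ?_
    refine (prod_assoc_equiv _ _ _).symm.trans ?_
    refine (h.prod ih).trans ?_
    refine (prod_assoc_equiv _ _ _).trans ?_
    exact ((Equivalent.refl (q2 F)).prod (QQ_succ _ _ (2 * j)).symm).trans (QQ_succ _ _ (2 * j + 1)).symm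

/-- `xy ≅ x² - y²` -/
theorem hyp_equiv (h2 : (2 : F) ≠ 0) : (hyp F).Equivalent (qBin 0 (-1) : QuadraticForm F (F × F)) := by
  refine ⟨⟨{ toFun := fun x => ((x.1 + x.2) / 2, (x.1 - x.2) / 2)
             map_add' := fun x y => by
               simp only [Prod.fst_add, Prod.snd_add]
               refine Prod.ext ?_ ?_
               · show (x.1 + y.1 + (x.2 + y.2)) / 2 = (x.1 + x.2) / 2 + (y.1 + y.2) / 2
                 ring
               · show (x.1 + y.1 - (x.2 + y.2)) / 2 = (x.1 - x.2) / 2 + (y.1 - y.2) / 2
                 ring
             map_smul' := fun c x => by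
               refine Prod.ext ?_ ?_
               · show (c * x.1 + c * x.2) / 2 = c * ((x.1 + x.2) / 2)
                 ring
               · show (c * x.1 - c * x.2) / 2 = c * ((x.1 - x.2) / 2)
                 ring
             invFun := fun x => (x.1 + x.2, x.1 - x.2)
             left_inv := fun x => by
               refine Prod.ext ?_ ?_
               · show (x.1 + x.2) / 2 + (x.1 - x.2) / 2 = x.1
                 field_simp; ring
               · show (x.1 + x.2) / 2 - (x.1 - x.2) / 2 = x.2
                 field_simp; ring
             right_inv := fun x => by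
               refine Prod.ext ?_ ?_
               · show (x.1 + x.2 + (x.1 - x.2)) / 2 = x.1
                 field_simp; ring
               · show (x.1 + x.2 - (x.1 - x.2)) / 2 = x.2
                 field_simp; ring }, fun x => ?_⟩⟩
  show qBin 0 (-1) ((x.1 + x.2) / 2, (x.1 - x.2) / 2) = hyp F x
  rw [qBin_apply, hyp_apply]
  field_simp
  ring

/-- `xy ≅ x² + y²` if `-1` is a square -/
theorem hyp_equiv_sq (h2 : (2 : F) ≠ 0) {i : F} (hi : i * i = -1) : (hyp F).Equivalent (q2 F) := by
  have hi0 : i ≠ 0 := by
    rintro rfl
    rw [mul_zero] at hi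
    have : (1 : F) = 0 := by linear_combination hi
    exact one_ne_zero this
  refine (hyp_equiv h2).trans ?_
  refine ⟨⟨{ toFun := fun x => (x.1, i * x.2)
             map_add' := fun x y => by
               refine Prod.ext rfl ?_
               show i * (x.2 + y.2) = i * x.2 + i * y.2
               ring
             map_smul' := fun c x => by
               refine Prod.ext rfl ?_
               show i * (c * x.2) = c * (i * x.2)
               ring
             invFun := fun x => (x.1, i⁻¹ * x.2)
             left_inv := fun x => by
               refine Prod.ext rfl ?_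
               show i⁻¹ * (i * x.2) = x.2
               rw [← mul_assoc, inv_mul_cancel₀ hi0, one_mul]
             right_inv := fun x => by
               refine Prod.ext rfl ?_
               show i * (i⁻¹ * x.2) = x.2
               rw [← mul_assoc, mul_inv_cancel₀ hi0, one_mul] }, fun x => ?_⟩⟩
  show q2 F (x.1, i * x.2) = qBin 0 (-1) x
  rw [q2_apply, qBin_apply]
  linear_combination x.2 ^ 2 * hi

/-- `x² + y² ≅ -x² - y²` if `-1` is a sum of two squares -/
theorem neg_equiv {a b : F} (hab : a ^ 2 + b ^ 2 = -1) :
    ((hyp F).prod (hyp F)).Equivalent ((qBin 0 (-1) : QuadraticForm F (F × F)).prod (qBin 0 (-1))) →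
    ((hyp F).prod (hyp F)).Equivalent ((q2 F).prod (q2 F)) := by
  intro h
  refine h.trans ?_
  -- (x² - y²) + (z² - w²), with (y, w) ↦ (a y + b w, b y - a w)
  refine ⟨⟨{ toFun := fun x => ((x.1.1, x.2.1), (a * x.1.2 + b * x.2.2, b * x.1.2 - a * x.2.2))
             map_add' := fun x y => by
               refine Prod.ext rfl (Prod.ext ?_ ?_)
               · show a * (x.1.2 + y.1.2) + b * (x.2.2 + y.2.2) = (a * x.1.2 + b * x.2.2) + (a * y.1.2 + b * y.2.2)
                 ring
               · show b * (x.1.2 + y.1.2) - a * (x.2.2 + y.2.2) = (b * x.1.2 - a * x.2.2) + (b * y.1.2 - a * y.2.2)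
                 ring
             map_smul' := fun c x => by
               refine Prod.ext rfl (Prod.ext ?_ ?_)
               · show a * (c * x.1.2) + b * (c * x.2.2) = c * (a * x.1.2 + b * x.2.2)
                 ring
               · show b * (c * x.1.2) - a * (c * x.2.2) = c * (b * x.1.2 - a * x.2.2)
                 ring
             invFun := fun x => ((x.1.1, -(a * x.2.1 + b * x.2.2)), (x.1.2, -(b * x.2.1 - a * x.2.2)))
             left_inv := fun x => by
               refine Prod.ext (Prod.ext rfl ?_) (Prod.ext rfl ?_)
               · show -(a * (a * x.1.2 + b * x.2.2) + b * (b * x.1.2 - a * x.2.2)) = x.1.2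
                 linear_combination -x.1.2 * hab
               · show -(b * (a * x.1.2 + b * x.2.2) - a * (b * x.1.2 - a * x.2.2)) = x.2.2
                 linear_combination -x.2.2 * hab
             right_inv := fun x => by
               refine Prod.ext rfl (Prod.ext ?_ ?_)
               · show a * -(a * x.2.1 + b * x.2.2) + b * -(b * x.2.1 - a * x.2.2) = x.2.1
                 linear_combination -x.2.1 * hab
               · show b * -(a * x.2.1 + b * x.2.2) - a * -(b * x.2.1 - a * x.2.2) = x.2.2
                 linear_combination -x.2.2 * hab }, fun x => ?_⟩⟩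
  show ((q2 F).prod (q2 F)) ((x.1.1, x.2.1), (a * x.1.2 + b * x.2.2, b * x.1.2 - a * x.2.2)) = _
  rw [QuadraticMap.prod_apply, QuadraticMap.prod_apply, q2_apply, q2_apply, qBin_apply, qBin_apply]
  linear_combination (x.1.2 ^ 2 + x.2.2 ^ 2) * hab

/-- `x² + a x y + b y² ≅ x² + (b - a²/4) y²` -/
theorem bin_equiv (h2 : (2 : F) ≠ 0) (a b : F) :
    (qBin a b : QuadraticForm F (F × F)).Equivalent (qBin 0 (b - a ^ 2 / 4)) := by
  have h4 : (4 : F) ≠ 0 := by
    have : (4 : F) = 2 * 2 := by norm_num
    rw [this]; exact mul_ne_zero h2 h2
  refine ⟨⟨{ toFun := fun x => (x.1 + a / 2 * x.2, x.2)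
             map_add' := fun x y => by
               refine Prod.ext ?_ rfl
               show x.1 + y.1 + a / 2 * (x.2 + y.2) = (x.1 + a / 2 * x.2) + (y.1 + a / 2 * y.2)
               ring
             map_smul' := fun c x => by
               refine Prod.ext ?_ rfl
               show c * x.1 + a / 2 * (c * x.2) = c * (x.1 + a / 2 * x.2)
               ring
             invFun := fun x => (x.1 - a / 2 * x.2, x.2)
             left_inv := fun x => by
               refine Prod.ext ?_ rfl
               show x.1 + a / 2 * x.2 - a / 2 * x.2 = x.1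
               ring
             right_inv := fun x => by
               refine Prod.ext ?_ rfl
               show x.1 - a / 2 * x.2 + a / 2 * x.2 = x.1
               ring }, fun x => ?_⟩⟩
  show qBin 0 (b - a ^ 2 / 4) (x.1 + a / 2 * x.2, x.2) = qBin a b x
  rw [qBin_apply, qBin_apply]
  field_simp
  ring

/-- `x² + c² y² ≅ x² + y²` -/
theorem bin_sq_equiv {c : F} (hc : c ≠ 0) : (qBin 0 (c * c) : QuadraticForm F (F × F)).Equivalent (q2 F) := by
  refine ⟨⟨{ toFun := fun x => (x.1, c * x.2)
             map_add' := fun x y => by
               refine Prod.ext rfl ?_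
               show c * (x.2 + y.2) = c * x.2 + c * y.2
               ring
             map_smul' := fun d x => by
               refine Prod.ext rfl ?_
               show c * (d * x.2) = d * (c * x.2)
               ring
             invFun := fun x => (x.1, c⁻¹ * x.2)
             left_inv := fun x => by
               refine Prod.ext rfl ?_
               show c⁻¹ * (c * x.2) = x.2
               rw [← mul_assoc, inv_mul_cancel₀ hc, one_mul]
             right_inv := fun x => by
               refine Prod.ext rfl ?_
               show c * (c⁻¹ * x.2) = x.2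
               rw [← mul_assoc, mul_inv_cancel₀ hc, one_mul] }, fun x => ?_⟩⟩
  show q2 F (x.1, c * x.2) = qBin 0 (c * c) x
  rw [q2_apply, qBin_apply]
  ring

/-- `xy + z² ≅ (x² + z²) - y²` -/
theorem hyp_un (h2 : (2 : F) ≠ 0) :
    ((hyp F).prod (qUn (1 : F))).Equivalent ((q2 F).prod (qUn (-1 : F))) := by
  refine ((hyp_equiv h2).prod (Equivalent.refl _)).trans ?_
  refine ⟨⟨{ toFun := fun x => ((x.1.1, x.2), x.1.2)
             map_add' := fun x y => rfl
             map_smul' := fun c x => rfl
             invFun := fun x => ((x.1.1, x.2), x.1.2)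
             left_inv := fun x => rfl
             right_inv := fun x => rfl }, fun x => ?_⟩⟩
  show ((q2 F).prod (qUn (-1 : F))) ((x.1.1, x.2), x.1.2) = _
  rw [QuadraticMap.prod_apply, QuadraticMap.prod_apply, q2_apply, qBin_apply, qUn_apply, qUn_apply]
  ring

end H79.OrIso
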