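import Cfsg.Agent.Lib.H79.WrSyl
import Cfsg.Agent.Lib.H79.ValQ
import Cfsg.Agent.Lib.H79.DihTwo
import Cfsg.Agent.Lib.H17.OrthTrans2

/-! Orthogonal groups of `k` copies of `x² + y²` plus a small form: wreath product structure. -/

set_option autoImplicit false
set_option linter.unusedSectionVars false
set_option linter.style.haveILetI false

namespace H79.OrWr

open Subgroup H79.SylElem H79.WrGd H79.WrSyl Equiv QuadraticMap H17.OrthAbs H17.OrthTheta
  H17.OrthOmega H48.QuadStd H48.QuadSplit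

section basic

variable {F : Type*} [Field F] {B W : Type*} [AddCommGroup B] [Module F B] [AddCommGroup W]
  [Module F W] {k : ℕ} (q : QuadraticForm F B) (QW : QuadraticForm F W)

/-- the orthogonal sum of `k` copies of `q` and `QW` -/
def QQ (k : ℕ) : QuadraticForm F ((Fin k → B) × W) := (QuadraticMap.pi fun _ : Fin k => q).prod QW

theorem QQ_apply (x : (Fin k → B) × W) : QQ q QW k x = (∑ i, q (x.1 i)) + QW x.2 := by
  rw [QQ, QuadraticMap.prod_apply, QuadraticMap.pi_apply]

theorem polar_QQ (x y : (Fin k → B) × W) :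
    polar (QQ q QW k) x y = (∑ i, polar q (x.1 i) (y.1 i)) + polar QW x.2 y.2 := by
  simp only [polar, QQ_apply, Prod.fst_add, Prod.snd_add, Pi.add_apply, Finset.sum_sub_distrib]
  ring

theorem nd_QQ (hq : ND q) (hW : ND QW) : ND (QQ q QW k) := by
  intro x hx
  refine Prod.ext (funext fun i => ?_) ?_
  · refine hq _ fun y => ?_
    have h := hx (Pi.single i y, 0)
    rw [polar_QQ] at h
    rw [← h, Finset.sum_eq_single i]
    · simp [polar_zero_right]
    · intro j _ hj
      simp [Pi.single_eq_of_ne hj, polar_zero_right]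
    · simp
  · refine hW _ fun y => ?_
    have h := hx (0, y)
    rw [polar_QQ] at h
    rw [← h]
    simp [polar_zero_right]

/-- block embedding -/
def eHom : (Fin k → O q) × O QW →* O (QQ q QW k) where
  toFun f := ⟨(LinearEquiv.piCongrRight fun i => ((f.1 i : O q) : B ≃ₗ[F] B)).prodCongr (f.2 : W ≃ₗ[F] W), by
    intro x
    rw [QQ_apply, QQ_apply]
    congr 1
    · refine Finset.sum_congr rfl fun i _ => ?_
      exact (f.1 i).2 (x.1 i)
    · exact f.2.2 x.2⟩
  map_one' := by
    apply Subtype.ext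
    apply LinearEquiv.ext
    intro x
    rfl
  map_mul' f g := by
    apply Subtype.ext
    apply LinearEquiv.ext
    intro x
    rfl

theorem eHom_apply (f : (Fin k → O q) × O QW) (x : (Fin k → B) × W) :
    (eHom q QW f : ((Fin k → B) × W) ≃ₗ[F] ((Fin k → B) × W)) x =
      (fun i => ((f.1 i : O q) : B ≃ₗ[F] B) (x.1 i), (f.2 : W ≃ₗ[F] W) x.2) := rfl

theorem eHom_injective : Function.Injective (eHom (k := k) q QW) := by
  intro f g h
  have h1 : ∀ x, (eHom q QW f : ((Fin k → B) × W) ≃ₗ[F] ((Fin k → B) × W)) x =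
      (eHom q QW g : ((Fin k → B) × W) ≃ₗ[F] ((Fin k → B) × W)) x := fun x => by rw [h]
  refine Prod.ext (funext fun i => Subtype.ext (LinearEquiv.ext fun v => ?_))
    (Subtype.ext (LinearEquiv.ext fun w => ?_))
  · have h2 := h1 (fun _ => v, 0)
    rw [eHom_apply, eHom_apply] at h2
    exact congrFun (Prod.mk.inj h2).1 i
  · have h2 := h1 (0, w)
    rw [eHom_apply, eHom_apply] at h2
    exact (Prod.mk.inj h2).2

/-- permutation of the blocks -/
def pHom : Perm (Fin k) →* O (QQ q QW k) where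
  toFun σ := ⟨(LinearEquiv.funCongrLeft F B (σ⁻¹ : Perm (Fin k))).prodCongr (LinearEquiv.refl F W), by
    intro x
    rw [QQ_apply, QQ_apply]
    congr 1
    exact Equiv.sum_comp (σ⁻¹ : Perm (Fin k)) (fun i => q (x.1 i))⟩
  map_one' := by
    apply Subtype.ext
    apply LinearEquiv.ext
    intro x
    rfl
  map_mul' σ τ := by
    apply Subtype.ext
    apply LinearEquiv.ext
    intro x
    refine Prod.ext (funext fun i => ?_) rfl
    show x.1 ((σ * τ)⁻¹ i) = x.1 (τ⁻¹ (σ⁻¹ i))
    rw [mul_inv_rev]; rfl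

theorem pHom_apply (σ : Perm (Fin k)) (x : (Fin k → B) × W) :
    (pHom q QW σ : ((Fin k → B) × W) ≃ₗ[F] ((Fin k → B) × W)) x = (fun i => x.1 (σ⁻¹ i), x.2) := rfl

theorem conj_rel (σ : Perm (Fin k)) (f : Fin k → O q) (x : O QW) :
    pHom q QW σ * eHom q QW (f, x) * (pHom q QW σ)⁻¹ = eHom q QW (fun i => f (σ⁻¹ i), x) := by
  rw [mul_inv_eq_iff_eq_mul]
  apply Subtype.ext
  apply LinearEquiv.ext
  intro y
  rfl

theorem pHom_injective [Nontrivial B] : Function.Injective (pHom (k := k) q QW) := by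
  obtain ⟨b, hb⟩ := exists_ne (0 : B)
  rw [injective_iff_map_eq_one]
  intro σ hσ
  apply Equiv.ext
  intro i
  have h1 : (pHom q QW σ : ((Fin k → B) × W) ≃ₗ[F] ((Fin k → B) × W)) (Pi.single i b, 0) = (Pi.single i b, 0) := by
    rw [hσ]; rfl
  rw [pHom_apply] at h1
  have h2 := congrFun (Prod.mk.inj h1).1 (σ i)
  have hσi : σ⁻¹ (σ i) = i := by simp
  simp only [hσi, Pi.single_eq_same] at h2
  by_contra hne
  rw [Pi.single_eq_of_ne (show σ i ≠ i from hne)] at h2
  exact hb h2

theorem meet [Nontrivial B] (f : (Fin k → O q) × O QW) (σ : Perm (Fin k))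
    (h : eHom q QW f = pHom q QW σ) : σ = 1 := by
  obtain ⟨b, hb⟩ := exists_ne (0 : B)
  apply Equiv.ext
  intro i
  have h1 : (pHom q QW σ : ((Fin k → B) × W) ≃ₗ[F] ((Fin k → B) × W)) (Pi.single i b, 0) =
      (eHom q QW f : ((Fin k → B) × W) ≃ₗ[F] ((Fin k → B) × W)) (Pi.single i b, 0) := by
    rw [h]
  rw [pHom_apply, eHom_apply] at h1
  have h2 := congrFun (Prod.mk.inj h1).1 (σ i)
  have hσi : σ⁻¹ (σ i) = i := by simp
  simp only [hσi, Pi.single_eq_same] at h2
  by_contra hne
  rw [Pi.single_eq_of_ne (show σ i ≠ i from hne), map_zero] at h2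
  exact hb h2

end basic

section theta

variable {F : Type*} [Field F] [Finite F]

theorem card_ne_two (h2 : (2 : F) ≠ 0) [Fintype F] : Fintype.card F ≠ 2 := by
  intro h
  apply h2
  have : (Fintype.card F : F) = 0 := Nat.cast_card_eq_zero F
  rw [h] at this
  exact_mod_cast this

variable {V V' : Type*} [AddCommGroup V] [Module F V] [Finite V] [AddCommGroup V'] [Module F V'] [Finite V']

/-- the two signs -/
noncomputable def Th (R : Reps F) (Q : QuadraticForm F V) : O Q →* ℤˣ × ℤˣ :=
  (theta Q R.c₁).prod (theta Q R.c₂)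

theorem Th_apply (R : Reps F) (Q : QuadraticForm F V) (g : O Q) :
    Th R Q g = (theta Q R.c₁ g, theta Q R.c₂ g) := rfl

theorem theta_rf_eq (h2 : (2 : F) ≠ 0) {c : F} (hc : c ≠ 0) (Q : QuadraticForm F V)
    (Q' : QuadraticForm F V') (u : V) (v : V') (hu : Q u ≠ 0) (hv : Q' v ≠ 0) (huv : Q u = Q' v) :
    theta Q c (rf Q u hu) = theta Q' c (rf Q' v hv) := by
  classical
  rw [theta_refl h2 Q c hc, theta_refl h2 Q' c hc, huv]

theorem Th_rf_eq (h2 : (2 : F) ≠ 0) (R : Reps F) (Q : QuadraticForm F V)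
    (Q' : QuadraticForm F V') (u : V) (v : V') (hu : Q u ≠ 0) (hv : Q' v ≠ 0) (huv : Q u = Q' v) :
    Th R Q (rf Q u hu) = Th R Q' (rf Q' v hv) := by
  rw [Th_apply, Th_apply, theta_rf_eq h2 R.h₁ Q Q' u v hu hv huv, theta_rf_eq h2 R.h₂ Q Q' u v hu hv huv]

/-- homomorphisms compatible with reflections preserve `Th` -/
theorem Th_hom [FiniteDimensional F V] (h2 : (2 : F) ≠ 0) (R : Reps F) (Q : QuadraticForm F V)
    (Q' : QuadraticForm F V') (hQ : ND Q) (E : O Q →* O Q')
    (hE : ∀ (v : V) (hv : Q v ≠ 0), ∃ (v' : V') (hv' : Q' v' ≠ 0), Q v = Q' v' ∧ E (rf Q v hv) = rf Q' v' hv')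
    (g : O Q) : Th R Q' (E g) = Th R Q g := by
  classical
  have := Fintype.ofFinite F
  have h1 := closure_rf (Or.inl (card_ne_two h2)) Q (nd_iff.1 hQ)
  have h3 : g ∈ Subgroup.closure {g : ↥(O Q) | ∃ (v : V) (hv : Q v ≠ 0), g = rf Q v hv} := by
    rw [h1]; trivial
  induction h3 using Subgroup.closure_induction with
  | mem x hx =>
    obtain ⟨v, hv, rfl⟩ := hx
    obtain ⟨v', hv', h4, h5⟩ := hE v hv
    rw [h5]
    exact (Th_rf_eq h2 R Q Q' v v' hv hv' h4).symm
  | one => rw [map_one, map_one, map_one]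
  | mul x y _ _ hx hy => rw [map_mul, map_mul, map_mul, hx, hy]
  | inv x _ hx => rw [map_inv, map_inv, map_inv, hx]

variable {B W : Type*} [AddCommGroup B] [Module F B] [Finite B] [AddCommGroup W]
  [Module F W] [Finite W] {k : ℕ} (q : QuadraticForm F B) (QW : QuadraticForm F W)

theorem Th_eHom [FiniteDimensional F B] [FiniteDimensional F W] (h2 : (2 : F) ≠ 0) (R : Reps F)
    (hq : ND q) (hW : ND QW) (f : (Fin k → O q) × O QW) :
    Th R (QQ q QW k) (eHom q QW f) = chi (Th R q) (Th R QW) f := by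
  -- single factors
  have hs : ∀ i : Fin k, ∀ g : O q, Th R (QQ q QW k) (eHom q QW (Pi.mulSingle i g, 1)) = Th R q g := by
    intro i g
    let E : O q →* O (QQ q QW k) := (eHom q QW).comp ((MonoidHom.inl (Fin k → O q) (O QW)).comp
      (MonoidHom.mulSingle (fun _ : Fin k => O q) i))
    have hE : ∀ g, E g = eHom q QW (Pi.mulSingle i g, 1) := fun g => rfl
    rw [← hE]
    refine Th_hom h2 R q (QQ q QW k) hq E (fun v hv => ?_) g
    have hv' : QQ q QW k (Pi.single i v, 0) = q v := by
      rw [QQ_apply, QuadraticMap.map_zero, add_zero, Finset.sum_eq_single i]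
      · simp
      · intro j _ hj
        simp [Pi.single_eq_of_ne hj]
      · simp
    refine ⟨(Pi.single i v, 0), by rw [hv']; exact hv, hv'.symm, ?_⟩
    rw [hE]
    apply Subtype.ext
    apply LinearEquiv.ext
    intro x
    show _ = H17.OrthAbs.refl (QQ q QW k) (Pi.single i v, 0) (by rw [hv']; exact hv) x
    rw [eHom_apply, H17.OrthAbs.refl_apply, hv', polar_QQ]
    have hp : (∑ j, polar q ((Pi.single i v : Fin k → B) j) (x.1 j)) = polar q v (x.1 i) := by
      rw [Finset.sum_eq_single i]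
      · simp
      · intro j _ hj
        simp [Pi.single_eq_of_ne hj, polar_zero_left]
      · simp
    rw [hp, polar_zero_left, add_zero]
    refine Prod.ext (funext fun j => ?_) ?_
    · rcases eq_or_ne j i with rfl | hj
      · simp only [Pi.mulSingle_eq_same, Prod.fst_sub, Prod.smul_fst, Pi.sub_apply, Pi.smul_apply,
          Pi.single_eq_same]
        exact H17.OrthAbs.refl_apply q v hv (x.1 j)
      · simp only [Pi.mulSingle_eq_of_ne hj, Prod.fst_sub, Prod.smul_fst, Pi.sub_apply, Pi.smul_apply,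
          Pi.single_eq_of_ne hj, smul_zero, sub_zero]
        rfl
    · simp only [Prod.snd_sub, Prod.smul_snd, smul_zero, sub_zero]
      rfl
  have hw : ∀ g : O QW, Th R (QQ q QW k) (eHom q QW (1, g)) = Th R QW g := by
    intro g
    let E : O QW →* O (QQ q QW k) := (eHom q QW).comp (MonoidHom.inr (Fin k → O q) (O QW))
    have hE : ∀ g, E g = eHom q QW (1, g) := fun g => rfl
    rw [← hE]
    refine Th_hom h2 R QW (QQ q QW k) hW E (fun v hv => ?_) g
    have hv' : QQ q QW k (0, v) = QW v := by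
      rw [QQ_apply]; simp
    refine ⟨(0, v), by rw [hv']; exact hv, hv'.symm, ?_⟩
    rw [hE]
    apply Subtype.ext
    apply LinearEquiv.ext
    intro x
    show _ = H17.OrthAbs.refl (QQ q QW k) (0, v) (by rw [hv']; exact hv) x
    rw [eHom_apply, H17.OrthAbs.refl_apply, hv', polar_QQ]
    have hp : (∑ j, polar q ((0 : Fin k → B) j) (x.1 j)) = 0 := by
      simp [polar_zero_left]
    rw [hp, zero_add]
    refine Prod.ext (funext fun j => ?_) ?_
    · simp only [Prod.fst_sub, Prod.smul_fst, Pi.sub_apply, Pi.smul_apply, Pi.zero_apply, smul_zero, sub_zero]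
      rfl
    · simp only [Prod.snd_sub, Prod.smul_snd]
      exact H17.OrthAbs.refl_apply QW v hv x.2
  -- all
  let M : Subgroup ((Fin k → O q) × O QW) :=
    { carrier := {f | Th R (QQ q QW k) (eHom q QW f) = chi (Th R q) (Th R QW) f}
      mul_mem' := by
        intro a b ha hb
        show Th R (QQ q QW k) (eHom q QW (a * b)) = chi (Th R q) (Th R QW) (a * b)
        rw [map_mul, map_mul, map_mul, show _ = _ from ha, show _ = _ from hb]
      one_mem' := by
        show Th R (QQ q QW k) (eHom q QW 1) = chi (Th R q) (Th R QW) 1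
        rw [map_one, map_one, map_one]
      inv_mem' := by
        intro a ha
        show Th R (QQ q QW k) (eHom q QW a⁻¹) = chi (Th R q) (Th R QW) a⁻¹
        rw [map_inv, map_inv, map_inv, show _ = _ from ha] }
  have hM1 : ∀ f : Fin k → O q, ((f, 1) : (Fin k → O q) × O QW) ∈ M := by
    have h3 : Subgroup.pi Set.univ (fun _ : Fin k => (⊤ : Subgroup (O q))) ≤
        M.comap (MonoidHom.inl (Fin k → O q) (O QW)) := by
      rw [Subgroup.pi_le_iff]
      rintro i _ ⟨g, _, rfl⟩
      show Th R (QQ q QW k) (eHom q QW (Pi.mulSingle i g, 1)) = chi (Th R q) (Th R QW) (Pi.mulSingle i g, 1)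
      rw [hs, chi_single, map_one, mul_one]
    intro f
    exact h3 (Subgroup.mem_pi _ |>.2 fun i _ => mem_top _)
  have hM2 : ∀ g : O QW, ((1, g) : (Fin k → O q) × O QW) ∈ M := by
    intro g
    show Th R (QQ q QW k) (eHom q QW (1, g)) = chi (Th R q) (Th R QW) (1, g)
    rw [hw, chi_apply]
    simp
  have h4 : f = (f.1, 1) * (1, f.2) := by
    refine Prod.ext ?_ ?_ <;> simp
  have h5 : f ∈ M := by
    rw [h4]
    exact mul_mem (hM1 _) (hM2 _)
  exact h5

end theta

section plane

variable {F : Type*} [Field F] [Finite F] {W : Type*} [AddCommGroup W] [Module F W] [Finite W] {k : ℕ}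
  (QW : QuadraticForm F W)

/-- the plane `x² + y²` -/
abbrev q2 (F : Type*) [Field F] : QuadraticForm F (F × F) := qBin 0 1

omit [Finite F] in
theorem q2_apply (x : F × F) : q2 F x = x.1 ^ 2 + x.2 ^ 2 := by
  rw [qBin_apply]; ring

omit [Finite F] in
theorem nd_q2 (h2 : (2 : F) ≠ 0) : ND (q2 F) := by
  apply nd_qBin
  have : (4 : F) = 2 * 2 := by norm_num
  rw [this]
  simpa using h2

/-- permutation of the first coordinates -/
def P1 (σ : Perm (Fin k)) : O (QQ (q2 F) QW k) :=
  ⟨{ toFun := fun x => (fun i => ((x.1 (σ⁻¹ i)).1, (x.1 i).2), x.2)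
     map_add' := fun x y => rfl
     map_smul' := fun c x => rfl
     invFun := fun x => (fun i => ((x.1 (σ i)).1, (x.1 i).2), x.2)
     left_inv := fun x => by
       refine Prod.ext (funext fun i => ?_) rfl
       simp
     right_inv := fun x => by
       refine Prod.ext (funext fun i => ?_) rfl
       simp }, by
    intro x
    rw [QQ_apply, QQ_apply]
    congr 1
    show ∑ i, q2 F ((x.1 (σ⁻¹ i)).1, (x.1 i).2) = ∑ i, q2 F (x.1 i)
    simp only [q2_apply, Finset.sum_add_distrib]
    congr 1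
    exact Equiv.sum_comp (σ⁻¹ : Perm (Fin k)) (fun i => (x.1 i).1 ^ 2)⟩

/-- exchange of the two coordinates in all the planes -/
def Sw : O (QQ (q2 F) QW k) :=
  ⟨{ toFun := fun x => (fun i => ((x.1 i).2, (x.1 i).1), x.2)
     map_add' := fun x y => rfl
     map_smul' := fun c x => rfl
     invFun := fun x => (fun i => ((x.1 i).2, (x.1 i).1), x.2)
     left_inv := fun x => rfl
     right_inv := fun x => rfl }, by
    intro x
    rw [QQ_apply, QQ_apply]
    congr 1
    refine Finset.sum_congr rfl fun i _ => ?_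
    show q2 F ((x.1 i).2, (x.1 i).1) = _
    rw [q2_apply, q2_apply]
    ring⟩

theorem pHom_eq (σ : Perm (Fin k)) :
    pHom (q2 F) QW σ = P1 QW σ * (Sw QW * P1 QW σ * (Sw QW)⁻¹) := by
  apply Subtype.ext
  apply LinearEquiv.ext
  intro x
  rfl

theorem Th_pHom (R : Reps F) (σ : Perm (Fin k)) : Th R (QQ (q2 F) QW k) (pHom (q2 F) QW σ) = 1 := by
  rw [pHom_eq, map_mul, map_mul, map_mul, map_inv, mul_comm (Th R _ (Sw QW)), mul_inv_cancel_right]
  refine Prod.ext ?_ ?_
  · exact Int.units_mul_self _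
  · exact Int.units_mul_self _

end plane

end H79.OrWr
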