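import Cfsg.Agent.Lib.H31.Clifford

/-!
# Linear constituents of the pull-back of a character along a homomorphism
-/

set_option autoImplicit false
open Cfsg
open scoped ComplexConjugate
open H18.CharBasic H18.CharOrtho H18.CharInd H18.CharQuot H31.Clifford

namespace H79.Ovr

universe u

section basic

variable {A B C : Type u} [Group A] [Group B] [Group C] [Fintype A] [Fintype B] [Fintype C]

/-- A character over a constituent lies over what lies under the constituent. -/
theorem over_mono {X β : A → ℂ} (hX : IsCharacter A X) (hβ : IsIrrCharacter A β)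
    (h : classInner X β ≠ 0) (j : B →* A) {ζ : B → ℂ} (hζ : IsCharacter B ζ)
    (h2 : classInner (fun b => β (j b)) ζ ≠ 0) : classInner (fun b => X (j b)) ζ ≠ 0 := by
  have hY := isCharacter_sub_constituent hX hβ h
  have hYj := isCharacter_comp j hY
  have hβj := isCharacter_comp j (isCharacter_of_isIrr hβ)
  obtain ⟨n, hn⟩ := inner_char_natCast hYj hζ
  obtain ⟨m, hm⟩ := inner_char_natCast hβj hζ
  have h3 : (fun b => X (j b)) = (fun b => (X - β) (j b)) + fun b => β (j b) := by
    funext b; simp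
  rw [h3, H18.CharOrtho.inner_add_left]
  have hn' : classInner (fun b => (X - β) (j b)) ζ = n := hn
  have hm' : classInner (fun b => β (j b)) ζ = m := hm
  rw [hn', hm']
  rw [hm'] at h2
  have h4 : m ≠ 0 := by
    rintro rfl
    exact h2 (by simp)
  exact_mod_cast (by omega : n + m ≠ 0)

theorem inner_comp_surj {π : B →* C} (hπ : Function.Surjective π) (F F' : C → ℂ) :
    classInner (fun b => F (π b)) (fun b => F' (π b)) = classInner F F' := by
  classical
  have hcard : ∀ c : C, (Finset.univ.filter (fun b : B => π b = c)).card =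
      (Finset.univ.filter (fun b : B => π b = 1)).card := by
    intro c
    exact MonoidHom.card_fiber_eq_of_mem_range π (hπ c) (hπ 1)
  have h1 : ∀ H : C → ℂ, ∑ b : B, H (π b) =
      ((Finset.univ.filter (fun b : B => π b = 1)).card : ℂ) * ∑ c : C, H c := by
    intro H
    rw [← Finset.sum_fiberwise_of_maps_to (s := Finset.univ) (t := Finset.univ) (g := π)
      (fun b _ => Finset.mem_univ _), Finset.mul_sum]
    refine Finset.sum_congr rfl fun c _ => ?_
    rw [Finset.sum_congr rfl (g := fun _ => H c) (fun b hb => by rw [(Finset.mem_filter.1 hb).2]),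
      Finset.sum_const, hcard c, nsmul_eq_mul]
  have h2 : (Nat.card B : ℂ) = ((Finset.univ.filter (fun b : B => π b = 1)).card : ℂ) * Nat.card C := by
    have := h1 (fun _ => 1)
    simpa [Nat.card_eq_fintype_card] using this
  have h3 : ((Finset.univ.filter (fun b : B => π b = 1)).card : ℂ) ≠ 0 := by
    intro h
    rw [h, zero_mul] at h2
    exact card_ne_zero' h2
  unfold classInner
  rw [h1 (fun c => F c * conj (F' c)), h2, mul_inv]
  field_simp

end basic

section ovr

variable {G Q : Type u} [Group G] [Group Q] [Fintype Q]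

/-- The linear character `l` of `Q` is a constituent of `χ ∘ i`. -/
def Ovr (i : Q →* G) (χ : G → ℂ) (l : Q →* ℂˣ) : Prop :=
  classInner (fun x => χ (i x)) (fun x => (l x : ℂ)) ≠ 0

theorem ovr_ker {i : Q →* G} {χ : G → ℂ} {l : Q →* ℂˣ} (h : Ovr i χ l) {k : Q} (hk : i k = 1) :
    l k = 1 := by
  have h1 : classInner (fun x => χ (i x)) (fun x => (l x : ℂ)) =
      conj (l k : ℂ) * classInner (fun x => χ (i x)) (fun x => (l x : ℂ)) := by
    have h2 : ∑ x : Q, χ (i x) * conj (l x : ℂ) =
        ∑ x : Q, conj (l k : ℂ) * (χ (i x) * conj (l x : ℂ)) := by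
      refine Fintype.sum_equiv (Equiv.mulRight k⁻¹) _ _ fun x => ?_
      simp only [Equiv.coe_mulRight, map_mul, map_inv, hk, inv_one, mul_one, Units.val_mul]
      have h3 : conj (l k : ℂ) * conj (((l k)⁻¹ : ℂˣ) : ℂ) = 1 := by
        rw [← map_mul]; simp
      calc χ (i x) * conj (l x : ℂ) = χ (i x) * conj (l x : ℂ) * (conj (l k : ℂ) * conj (((l k)⁻¹ : ℂˣ) : ℂ)) := by
            rw [h3, mul_one]
        _ = _ := by ring
    unfold classInner
    conv_lhs => rw [h2, ← Finset.mul_sum]
    ring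
  have h4 : conj (l k : ℂ) = 1 := by
    have := mul_right_cancel₀ h ((one_mul _).trans h1)
    exact this.symm
  have h5 : (l k : ℂ) = 1 := by
    have := congrArg conj h4
    simpa using this
  exact Units.ext h5

theorem ovr_push {i : Q →* G} {X : G → ℂ} (hX : IsCharacter G X) {l : Q →* ℂˣ} (h : Ovr i X l)
    {D : Type u} [Group D] [Fintype D] (ι : D →* G) (E : Subgroup Q) (π : E →* D)
    (hπ : Function.Surjective π) (h1 : ∀ e : E, ι (π e) = i e) (θ : D →* ℂˣ)
    (h2 : ∀ e : E, θ (π e) = l e) : Ovr ι X θ := by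
  letI := Fintype.ofFinite E
  have h3 := over_mono (isCharacter_comp i hX) (isIrrCharacter_of_hom l) h E.subtype
    (ζ := fun e : E => ((l e : ℂˣ) : ℂ)) (isCharacter_of_isIrr (isIrrCharacter_of_hom (l.comp E.subtype)))
    (by
      have := inner_irr_self (isIrrCharacter_of_hom (l.comp E.subtype))
      simp only [MonoidHom.comp_apply] at this
      simp only [Subgroup.coe_subtype] at this ⊢
      rw [this]; exact one_ne_zero)
  unfold Ovr
  rw [← inner_comp_surj hπ]
  simp only [h1, h2]
  exact h3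

theorem ovr_theta {i : Q →* G} {X : G → ℂ} (hX : IsCharacter G X) {l : Q →* ℂˣ} (h : Ovr i X l)
    (L : Subgroup G) [Fintype L] (hL : L ≤ i.range) (θ : L →* ℂˣ)
    (hθ : ∀ (x : Q) (hx : i x ∈ L), θ ⟨i x, hx⟩ = l x) :
    classInner (fun y : L => X y) (fun y => (θ y : ℂ)) ≠ 0 := by
  refine ovr_push hX h L.subtype (L.comap i) (i.subgroupComap L) ?_ (fun e => rfl) θ
    (fun e => hθ e e.2)
  intro y
  obtain ⟨x, hx⟩ := hL y.2
  refine ⟨⟨x, by rw [Subgroup.mem_comap, hx]; exact y.2⟩, ?_⟩
  apply Subtype.ext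
  exact hx

theorem exists_theta {i : Q →* G} {X : G → ℂ} {l : Q →* ℂˣ} (h : Ovr i X l)
    (L : Subgroup G) (hL : L ≤ i.range) :
    ∃ θ : L →* ℂˣ, ∀ (x : Q) (hx : i x ∈ L), θ ⟨i x, hx⟩ = l x := by
  have h1 : ∀ y : L, ∃ x : Q, i x = y := fun y => hL y.2
  choose c hc using h1
  have key : ∀ x y : Q, i x = i y → l x = l y := by
    intro x y hxy
    have := ovr_ker h (k := x * y⁻¹) (by rw [map_mul, map_inv, hxy, mul_inv_cancel])
    rw [map_mul, map_inv, mul_inv_eq_one] at this
    exact this
  refine ⟨{ toFun := fun y => l (c y), map_one' := ?_, map_mul' := ?_ }, ?_⟩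
  · rw [key (c 1) 1 (by rw [hc]; simp), map_one]
  · intro a b
    rw [← map_mul]
    apply key
    rw [hc, map_mul, hc, hc]; rfl
  · intro x hx
    show l (c ⟨i x, hx⟩) = l x
    apply key
    rw [hc]

end ovr

section cliff

variable {G : Type u} [Group G] [Fintype G]

/-- The Clifford correspondent and linear constituents. -/
theorem cliff (L : Subgroup G) [L.Normal] [Fintype L] {χ : G → ℂ} (hχ : IsIrrCharacter G χ)
    (θ : L →* ℂˣ) (hθ : classInner (fun y : L => χ y) (fun y => (θ y : ℂ)) ≠ 0)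
    (T : Subgroup G) (hT : ∀ g : G, g ∈ T ↔ conjFunN L g (fun y => (θ y : ℂ)) = fun y => (θ y : ℂ))
    (hLT : L ≤ T) :
    ∃ ψ : T → ℂ, IsIrrCharacter T ψ ∧ indFun T ψ = χ ∧
      classInner (resH hLT ψ) (fun y => (θ y : ℂ)) ≠ 0 ∧
      ∀ {Q : Type u} [Group Q] [Fintype Q] (i : Q →* G) (hi : ∀ x, i x ∈ T) (l : Q →* ℂˣ),
        L ≤ i.range → (∀ (x : Q) (hx : i x ∈ L), θ ⟨i x, hx⟩ = l x) → Ovr i χ l →
        Ovr (i.codRestrict T hi) ψ l := by
  classical
  letI := Fintype.ofFinite T
  have hχc := isCharacter_of_isIrr hχ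
  have hTc := isCharacter_restrict T hχc
  have hθi : IsIrrCharacter L (fun y => (θ y : ℂ)) := isIrrCharacter_of_hom θ
  -- find ψ
  have hex : ∃ ψ : T → ℂ, IsIrrCharacter T ψ ∧ classInner (fun t : T => χ t) ψ ≠ 0 ∧
      classInner (resH hLT ψ) (fun y => (θ y : ℂ)) ≠ 0 := by
    by_contra hcon
    push Not at hcon
    have h1 : ∀ X : T → ℂ, IsCharacter T X →
        (∀ ψ : T → ℂ, IsIrrCharacter T ψ → classInner X ψ ≠ 0 →
          classInner (resH hLT ψ) (fun y => (θ y : ℂ)) = 0) →
        classInner (resH hLT X) (fun y => (θ y : ℂ)) = 0 := by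
      intro X hX h2
      letI := Fintype.ofFinite (IrrCharacter T)
      have h3 := mem_classFun_expand (isClassFunction_of_isCharacter hX)
      have h4 : resH hLT X = ∑ η : IrrCharacter T, classInner X (η : T → ℂ) • resH hLT (η : T → ℂ) := by
        funext y
        rw [resH_apply]
        conv_lhs => rw [h3]
        simp [Finset.sum_apply, resH_apply]
      rw [h4, inner_sum_left]
      refine Finset.sum_eq_zero fun η _ => ?_
      rw [H18.CharOrtho.inner_smul_left]
      by_cases h5 : classInner X (η : T → ℂ) = 0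
      · rw [h5, zero_mul]
      · rw [h2 η η.2 h5, mul_zero]
    exact hθ (h1 _ hTc hcon)
  obtain ⟨ψ, hψ, h1, h2⟩ := hex
  obtain ⟨h3, h4⟩ := corr_core L T hLT hθi hT hψ h2 hχ h1
  refine ⟨ψ, hψ, h3, h2, ?_⟩
  intro Q _ _ i hi l hLi hl hov
  by_contra hcon
  have hY := isCharacter_sub_constituent hTc hψ h1
  -- Y lies over l
  have h5 : Ovr (i.codRestrict T hi) ((fun t : T => χ t) - ψ) l := by
    unfold Ovr at hcon hov ⊢
    push Not at hcon
    have h6 : (fun x => ((fun t : T => χ t) - ψ) ((i.codRestrict T hi) x)) =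
        (fun x => χ (i x)) - fun x => ψ ((i.codRestrict T hi) x) := by
      funext x; simp
    rw [h6, H18.CharOrtho.inner_sub_left, hcon, sub_zero]
    exact hov
  have h7 : Ovr (Subgroup.inclusion hLT) ((fun t : T => χ t) - ψ) θ := by
    refine ovr_push hY h5 (Subgroup.inclusion hLT) (L.comap i) (i.subgroupComap L) ?_
      (fun e => rfl) θ (fun e => hl e e.2)
    intro y
    obtain ⟨x, hx⟩ := hLi y.2
    refine ⟨⟨x, by rw [Subgroup.mem_comap, hx]; exact y.2⟩, ?_⟩
    apply Subtype.ext
    exact hx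
  apply h7
  have h8 : (fun x => ((fun t : T => χ t) - ψ) ((Subgroup.inclusion hLT) x)) =
      (fun y : L => χ y) - resH hLT ψ := by
    funext y; rfl
  rw [h8, H18.CharOrtho.inner_sub_left, h4, sub_self]

end cliff

end H79.Ovr
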