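import Cfsg.Agent.Lib.H79.OddKer
import Cfsg.Agent.Lib.H79.Deg

/-!
# Characters of degree prime to p
-/

set_option autoImplicit false
open Cfsg
open scoped ComplexConjugate
open H18.CharBasic H18.CharOrtho H18.CharInd H18.CharQuot H79.Ovr H79.OddKer

namespace H79.PPrime

universe u

/-- A character of degree prime to `p` has an irreducible constituent of degree prime to `p`. -/
theorem exists_const {p : ℕ} (hp : p.Prime) {A : Type u} [Group A] [Fintype A] {X : A → ℂ}
    (hX : IsCharacter A X) {n : ℕ} (hn : ¬ p ∣ n) (hXn : X 1 = n) :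
    ∃ η : A → ℂ, IsIrrCharacter A η ∧ (∃ d : ℕ, ¬ p ∣ d ∧ η 1 = d) ∧ classInner X η ≠ 0 := by
  classical
  letI := Fintype.ofFinite (IrrCharacter A)
  by_contra hcon
  push Not at hcon
  have hm : ∀ η : IrrCharacter A, ∃ m : ℕ, classInner X (η : A → ℂ) = m := fun η =>
    inner_char_natCast hX (isCharacter_of_isIrr η.2)
  have hd : ∀ η : IrrCharacter A, ∃ d : ℕ, (η : A → ℂ) 1 = d := fun η =>
    exists_degree (isCharacter_of_isIrr η.2)
  choose m hm using hm
  choose d hd using hd
  have hsum : ∑ η : IrrCharacter A, m η * d η = n := by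
    have h1 := congrFun (mem_classFun_expand (isClassFunction_of_isCharacter hX)) 1
    simp only [Finset.sum_apply, Pi.smul_apply, smul_eq_mul, hm, hd] at h1
    rw [hXn] at h1
    exact_mod_cast h1.symm
  apply hn
  rw [← hsum]
  apply Finset.dvd_sum
  intro η _
  by_cases h : p ∣ d η
  · exact Dvd.dvd.mul_left h _
  · have h2 := hcon η η.2 ⟨d η, h, hd η⟩
    rw [hm η] at h2
    have h3 : m η = 0 := by exact_mod_cast h2
    rw [h3, zero_mul]
    exact dvd_zero p

/-- Over an irreducible character of `p'`-degree of a subgroup of index prime to `p` there is one of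
`p'`-degree. -/
theorem exists_over_pprime {p : ℕ} (hp : p.Prime) {G : Type u} [Group G] [Fintype G] (H : Subgroup G)
    [Fintype H] (hH : ¬ p ∣ H.index) {β : H → ℂ} (hβ : IsIrrCharacter H β) {e : ℕ} (he : ¬ p ∣ e)
    (hβe : β 1 = e) :
    ∃ χ : G → ℂ, IsIrrCharacter G χ ∧ (∃ d : ℕ, ¬ p ∣ d ∧ χ 1 = d) ∧
      classInner (fun x : H => χ x) β ≠ 0 := by
  obtain ⟨χ, hχ, hd, hne⟩ := exists_const hp (isCharacter_ind H (isCharacter_of_isIrr hβ))
    (n := H.index * e) (fun h => (hp.dvd_mul.mp h).elim hH he)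
    (by rw [indFun_one, hβe]; push_cast; ring)
  rw [H18.CharInd.frobenius _ _ (isClassFunction_of_isIrr hχ), classInner_ne_zero_symm] at hne
  exact ⟨χ, hχ, hd, hne⟩

/-- The kernel of a constituent contains the kernel of the character. -/
theorem ker_constituent {A : Type u} [Group A] [Fintype A] {X β : A → ℂ} (hX : IsCharacter A X)
    (hβ : IsIrrCharacter A β) (h : classInner X β ≠ 0) {a : A} (ha : X a = X 1) : β a = β 1 := by
  have hY := isCharacter_sub_constituent hX hβ h
  have hβc := isCharacter_of_isIrr hβ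
  obtain ⟨n, hn⟩ := exists_degree hβc
  obtain ⟨m, hm⟩ := exists_degree hY
  have h1 := char_norm_le hβc a
  have h2 := char_norm_le hY a
  have h3 : X a = β a + (X - β) a := by simp
  have h4 : X 1 = β 1 + (X - β) 1 := by simp
  rw [hn] at h1
  rw [hm] at h2
  have h5 : β a + (X - β) a = (n : ℂ) + m := by rw [← h3, ha, h4, hn, hm]
  have h6 : (β a).re ≤ ‖β a‖ := Complex.re_le_norm _
  have h7 : ((X - β) a).re ≤ ‖(X - β) a‖ := Complex.re_le_norm _
  have h8 := congrArg Complex.re h5
  simp only [Complex.add_re, Complex.natCast_re] at h8 h1 h2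
  have h9 : (β a).re = n := by linarith
  have h10 : ‖β a‖ = (β a).re := le_antisymm (by rw [h9]; exact h1) h6
  have h11 : (β a).im = 0 := by
    have h12 : ‖β a‖ ^ 2 = (β a).re ^ 2 + (β a).im ^ 2 := by
      rw [← Complex.normSq_eq_norm_sq, Complex.normSq_apply]; ring
    rw [h10] at h12
    have : (β a).im ^ 2 = 0 := by linarith
    exact pow_eq_zero_iff (by norm_num) |>.mp this
  rw [hn]
  apply Complex.ext
  · rw [h9]; simp
  · rw [h11]; simp

/-- The restriction of an irreducible character of `p'`-degree to a `p`-group has a linear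
constituent. -/
theorem exists_lin {p : ℕ} [hp : Fact p.Prime] {G Q : Type u} [Group G] [Group Q] [Fintype Q]
    (hQ : IsPGroup p Q) (i : Q →* G) {χ : G → ℂ} (hχ : IsCharacter G χ) {d : ℕ} (hd : ¬ p ∣ d)
    (hχd : χ 1 = d) : ∃ l : Q →* ℂˣ, Ovr i χ l := by
  obtain ⟨η, hη, ⟨e, he, hηe⟩, hne⟩ := exists_const hp.out (isCharacter_comp i hχ) hd
    (by show χ (i 1) = d; rw [map_one]; exact hχd)
  have h1 : η 1 = 1 := by
    have h2 := H79.Deg.charDegree_dvd_card hη
    have h3 : Cfsg.charDegree η = e := H79.Deg.charDegree_of_natCast hηe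
    rw [h3] at h2
    obtain ⟨k, hk⟩ := IsPGroup.iff_card.mp hQ
    rw [hk, Nat.dvd_prime_pow hp.out] at h2
    obtain ⟨j, _, hj⟩ := h2
    cases j with
    | zero => rw [hηe, hj]; simp
    | succ j =>
      exfalso
      apply he
      rw [hj, pow_succ]
      exact Dvd.intro_left _ rfl
  obtain ⟨l, hl⟩ := exists_hom_of_degree_one (isCharacter_of_isIrr hη) h1
  subst hl
  exact ⟨l, hne⟩

/-- An element of a Sylow `p`-subgroup in the kernel of all characters of `p'`-degree is in the
derived subgroup. -/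
theorem mem_commutator_of_ker {p : ℕ} [hp : Fact p.Prime] {G : Type u} [Group G] [Finite G]
    (P : Sylow p G) (x : (P : Subgroup G))
    (hx : ∀ χ : G → ℂ, IsIrrCharacter G χ → (∃ d : ℕ, ¬ p ∣ d ∧ χ 1 = d) → χ x = χ 1) :
    x ∈ commutator (P : Subgroup G) := by
  classical
  letI := Fintype.ofFinite G
  letI := Fintype.ofFinite (P : Subgroup G)
  by_contra h
  obtain ⟨l, hl⟩ := exists_hom_ne_one h
  obtain ⟨χ, hχ, hd, hne⟩ := exists_over_pprime hp.out (P : Subgroup G) P.not_dvd_index
    (isIrrCharacter_of_hom l) (e := 1) (fun h => hp.out.one_lt.ne' (Nat.dvd_one.mp h)) (by simp)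
  have h1 := ker_constituent (isCharacter_restrict (P : Subgroup G) (isCharacter_of_isIrr hχ))
    (isIrrCharacter_of_hom l) hne (a := x) (hx χ hχ hd)
  apply hl
  apply Units.ext
  rw [h1]; simp

/-- A nontrivial `p'`-element centralizing a Sylow `p`-subgroup is not in the kernel of all
characters of `p'`-degree. -/
theorem eq_one_of_ker {p : ℕ} [hp : Fact p.Prime] {G : Type u} [Group G] [Finite G]
    (P : Sylow p G) {c : G} (hc : c ∈ Subgroup.centralizer ((P : Subgroup G) : Set G))
    (hcp : (orderOf c).Coprime p)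
    (hx : ∀ χ : G → ℂ, IsIrrCharacter G χ → (∃ d : ℕ, ¬ p ∣ d ∧ χ 1 = d) → χ c = χ 1) :
    c = 1 := by
  classical
  letI := Fintype.ofFinite G
  by_contra hc1
  set H : Subgroup G := (P : Subgroup G) ⊔ Subgroup.zpowers c with hH
  letI := Fintype.ofFinite H
  have hPH : (P : Subgroup G) ≤ H := le_sup_left
  have hcH : c ∈ H := (le_sup_right : Subgroup.zpowers c ≤ H) (Subgroup.mem_zpowers c)
  have hcN : Subgroup.zpowers c ≤ Subgroup.normalizer ((P : Subgroup G) : Set G) := by
    rw [Subgroup.zpowers_le]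
    exact Subgroup.centralizer_le_normalizer _ hc
  have hHN : H ≤ Subgroup.normalizer ((P : Subgroup G) : Set G) :=
    sup_le Subgroup.le_normalizer hcN
  haveI hPn : ((P : Subgroup G).subgroupOf H).Normal :=
    (Subgroup.normal_subgroupOf_iff_le_normalizer hPH).mpr hHN
  set R := (P : Subgroup G).subgroupOf H with hR
  have hcP : c ∉ (P : Subgroup G) := by
    intro h
    obtain ⟨k, hk⟩ := P.2 ⟨c, h⟩
    have h1 : orderOf c ∣ p ^ k := by
      apply orderOf_dvd_of_pow_eq_one
      exact congrArg Subtype.val hk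
    have h2 := Nat.Coprime.eq_one_of_dvd (Nat.Coprime.pow_right k hcp) h1
    exact hc1 (orderOf_eq_one_iff.mp h2)
  have hg1 : (QuotientGroup.mk' R ⟨c, hcH⟩) ≠ 1 := by
    intro h
    rw [QuotientGroup.mk'_apply, QuotientGroup.eq_one_iff, Subgroup.mem_subgroupOf] at h
    exact hcP h
  have hex : ∃ β : H ⧸ R → ℂ, IsIrrCharacter (H ⧸ R) β ∧ β (QuotientGroup.mk' R ⟨c, hcH⟩) ≠ β 1 := by
    by_contra hcon
    push Not at hcon
    exact hg1 (eq_one_of_forall_irr hcon)
  obtain ⟨β₀, hβ₀, hβne⟩ := hex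
  let β : H → ℂ := fun t => β₀ (QuotientGroup.mk' R t)
  have hβ : IsIrrCharacter H β :=
    isIrrCharacter_comp (QuotientGroup.mk' R) (QuotientGroup.mk'_surjective R) hβ₀
  obtain ⟨e, he⟩ := exists_degree (isCharacter_of_isIrr hβ)
  have he0 : β₀ 1 = e := by
    rw [← he]; show _ = β₀ _; rw [map_one]
  have hRi : ¬ p ∣ R.index := fun h =>
    P.not_dvd_index (h.trans (Subgroup.relIndex_dvd_index_of_le hPH))
  have hep : ¬ p ∣ e := by
    have h2 := H79.Deg.charDegree_dvd_card hβ₀
    rw [H79.Deg.charDegree_of_natCast he0] at h2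
    intro h
    exact hRi (h.trans h2)
  have hHi : ¬ p ∣ H.index := fun h => P.not_dvd_index (h.trans (Subgroup.index_dvd_of_le hPH))
  obtain ⟨χ, hχ, hd, hne⟩ := exists_over_pprime hp.out H hHi hβ hep he
  have h1 := ker_constituent (isCharacter_restrict H (isCharacter_of_isIrr hχ)) hβ hne
    (a := ⟨c, hcH⟩) (hx χ hχ hd)
  apply hβne
  have h2 : β 1 = β₀ 1 := by rw [he, he0]
  rw [← h2]
  exact h1

end H79.PPrime
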