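import Cfsg.Agent.Lib.H18.CharInd
import Cfsg.Agent.Lib.H4.Monomial

/-! Irreducible characters of a finite power `ι → A`: products of irreducible characters. -/

set_option autoImplicit false
set_option linter.unusedSectionVars false
set_option linter.style.haveILetI false

namespace H79.PiChar

open Cfsg H18.CharBasic H18.CharOrtho H18.CharInd
open scoped ComplexConjugate

universe u v

variable {ι : Type v} [Fintype ι] {A : Type u} [Group A]

/-- product function -/
def pf (φ : ι → A → ℂ) : (ι → A) → ℂ := fun x => ∏ i, φ i (x i)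

theorem pf_apply (φ : ι → A → ℂ) (x : ι → A) : pf φ x = ∏ i, φ i (x i) := rfl

theorem inner_pf [DecidableEq ι] [Fintype A] (φ ψ : ι → A → ℂ) :
    classInner (pf φ) (pf ψ) = ∏ i, classInner (φ i) (ψ i) := by
  simp only [classInner, pf]
  rw [Finset.prod_mul_distrib, Finset.prod_const, Finset.prod_univ_sum, Finset.card_univ,
    Fintype.piFinset_univ, Nat.card_fun, ← Nat.card_eq_fintype_card]
  push_cast
  rw [inv_pow]
  congr 1
  refine Finset.sum_congr rfl fun x _ => ?_
  rw [map_prod, ← Finset.prod_mul_distrib]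

theorem isCharacter_pf {φ : ι → A → ℂ} (h : ∀ i, IsCharacter A (φ i)) :
    IsCharacter (ι → A) (pf φ) := by
  classical
  have : ∀ s : Finset ι, IsCharacter (ι → A) (fun x => ∏ i ∈ s, φ i (x i)) := by
    intro s
    induction s using Finset.induction_on with
    | empty => simpa using isCharacter_one
    | insert i s hi ih =>
      simp only [Finset.prod_insert hi]
      exact isCharacter_mul (isCharacter_comp (Pi.evalMonoidHom (fun _ => A) i) (h i)) ih
  exact this Finset.univ

theorem irr_pf [Finite A] {φ : ι → A → ℂ} (h : ∀ i, IsIrrCharacter A (φ i)) :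
    IsIrrCharacter (ι → A) (pf φ) := by
  classical
  letI := Fintype.ofFinite A
  refine isIrr_of_norm_one (isCharacter_pf fun i => isCharacter_of_isIrr (h i)) ?_
  rw [inner_pf]
  exact Finset.prod_eq_one fun i _ => inner_irr_self (h i)

theorem exists_pf [Finite A] {θ : (ι → A) → ℂ} (hθ : IsIrrCharacter (ι → A) θ) :
    ∃ φ : ι → A → ℂ, (∀ i, IsIrrCharacter A (φ i)) ∧ θ = pf φ := by
  classical
  letI := Fintype.ofFinite A
  letI : Fintype (IrrCharacter A) := Fintype.ofFinite _
  letI : Fintype (IrrCharacter (ι → A)) := Fintype.ofFinite _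
  let Φ : (ι → IrrCharacter A) → IrrCharacter (ι → A) := fun f =>
    ⟨pf (fun i => (f i : A → ℂ)), irr_pf fun i => (f i).2⟩
  have hinj : Function.Injective Φ := by
    intro f g hfg
    have h1 : pf (fun i => (f i : A → ℂ)) = pf (fun i => (g i : A → ℂ)) := congrArg Subtype.val hfg
    have h2 : classInner (pf (fun i => (f i : A → ℂ))) (pf (fun i => (g i : A → ℂ))) = 1 := by
      rw [h1]
      exact inner_irr_self (irr_pf fun i => (g i).2)
    rw [inner_pf] at h2
    funext i
    by_contra hne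
    rw [Finset.prod_eq_zero (Finset.mem_univ i)
      (inner_irr_ne (f i).2 (g i).2 (fun h => hne (Subtype.ext h)))] at h2
    exact zero_ne_one h2
  by_contra hcon
  push Not at hcon
  have h1 := sum_degree_sq (G := ι → A)
  have h2 : ∑ f, (Φ f : (ι → A) → ℂ) 1 ^ 2 = (Nat.card (ι → A) : ℂ) := by
    rw [Nat.card_fun, Nat.cast_pow, ← sum_degree_sq (G := A), Nat.card_eq_fintype_card,
      ← Finset.card_univ, ← Finset.prod_const, Finset.prod_univ_sum, Fintype.piFinset_univ]
    refine Finset.sum_congr rfl fun f _ => ?_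
    show (∏ i, (f i : A → ℂ) 1) ^ 2 = _
    rw [Finset.prod_pow]
  choose d hd using fun χ : IrrCharacter (ι → A) => exists_degree_pos χ.2
  have h3 : ∑ χ ∈ Finset.univ.image Φ, (χ : (ι → A) → ℂ) 1 ^ 2 = (Nat.card (ι → A) : ℂ) := by
    rw [Finset.sum_image fun a _ b _ h => hinj h, h2]
  have h4 : ∑ χ ∈ (Finset.univ.image Φ)ᶜ, (χ : (ι → A) → ℂ) 1 ^ 2 = 0 := by
    have := Finset.sum_add_sum_compl (Finset.univ.image Φ)
      (fun χ : IrrCharacter (ι → A) => (χ : (ι → A) → ℂ) 1 ^ 2)
    rw [h1, h3] at this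
    exact add_eq_left.1 this
  have h5 : ∑ χ ∈ (Finset.univ.image Φ)ᶜ, d χ ^ 2 = 0 := by
    have h6 : (∑ χ ∈ (Finset.univ.image Φ)ᶜ, d χ ^ 2 : ℂ) = 0 := by
      rw [← h4]
      exact Finset.sum_congr rfl fun χ _ => by rw [(hd χ).2]
    exact_mod_cast h6
  have h7 : (⟨θ, hθ⟩ : IrrCharacter (ι → A)) ∈ (Finset.univ.image Φ)ᶜ := by
    rw [Finset.mem_compl, Finset.mem_image]
    rintro ⟨f, _, hf⟩
    exact hcon (fun i => (f i : A → ℂ)) (fun i => (f i).2) (congrArg Subtype.val hf).symm
  have h8 := (Finset.sum_eq_zero_iff.1 h5) _ h7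
  have h9 := (hd ⟨θ, hθ⟩).1
  rw [pow_eq_zero_iff two_ne_zero] at h8
  omega

/-- projection of a product subgroup -/
def projH (H : ι → Subgroup A) (i : ι) : Subgroup.pi Set.univ H →* H i :=
  ((Pi.evalMonoidHom (fun _ : ι => A) i).comp (Subgroup.pi Set.univ H).subtype).codRestrict (H i)
    (fun x => x.2 i trivial)

theorem coe_projH (H : ι → Subgroup A) (i : ι) (x : Subgroup.pi Set.univ H) :
    (projH H i x : A) = (x : ι → A) i := rfl

/-- product of linear characters -/
noncomputable def prodLam (H : ι → Subgroup A) (lam : ∀ i, H i →* ℂˣ) :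
    Subgroup.pi Set.univ H →* ℂˣ := ∏ i, (lam i).comp (projH H i)

theorem prodLam_apply (H : ι → Subgroup A) (lam : ∀ i, H i →* ℂˣ) (x : Subgroup.pi Set.univ H) :
    (prodLam H lam x : ℂ) = ∏ i, (lam i (projH H i x) : ℂ) := by
  unfold prodLam
  rw [MonoidHom.finsetProd_apply, Units.coe_prod]
  rfl

theorem card_pi (H : ι → Subgroup A) [Finite A] :
    Nat.card (Subgroup.pi Set.univ H) = ∏ i, Nat.card (H i) := by
  rw [← Nat.card_pi]
  refine Nat.card_congr
    { toFun := fun x i => projH H i x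
      invFun := fun y => ⟨fun i => y i, fun i _ => (y i).2⟩
      left_inv := fun x => rfl
      right_inv := fun y => rfl }

theorem ext_pi (H : ι → Subgroup A) (lam : ∀ i, H i →* ℂˣ) (x : ι → A) :
    extendByZero (Subgroup.pi Set.univ H) (fun h => (prodLam H lam h : ℂ)) x =
      ∏ i, extendByZero (H i) (fun h => (lam i h : ℂ)) (x i) := by
  by_cases hx : x ∈ Subgroup.pi Set.univ H
  · rw [ext_mem _ _ hx, prodLam_apply]
    refine Finset.prod_congr rfl fun i _ => ?_
    rw [ext_mem _ _ (hx i trivial)]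
    rfl
  · rw [ext_notMem _ _ hx]
    have : ∃ i, x i ∉ H i := by
      by_contra hcon
      push Not at hcon
      exact hx fun i _ => hcon i
    obtain ⟨i, hi⟩ := this
    exact (Finset.prod_eq_zero (Finset.mem_univ i)
      (ext_notMem (H i) (fun h => (lam i h : ℂ)) hi)).symm

theorem pf_ind [DecidableEq ι] [Fintype A] (H : ι → Subgroup A) (lam : ∀ i, H i →* ℂˣ) :
    pf (fun i => indFun (H i) (fun h => (lam i h : ℂ))) =
      indFun (Subgroup.pi Set.univ H) (fun h => (prodLam H lam h : ℂ)) := by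
  funext x
  rw [pf_apply, indFun_apply, card_pi]
  simp only [indFun_apply]
  rw [Finset.prod_mul_distrib, Finset.prod_univ_sum, Fintype.piFinset_univ]
  push_cast
  rw [Finset.prod_inv_distrib]
  congr 1
  refine Finset.sum_congr rfl fun y _ => ?_
  rw [ext_pi]
  rfl

theorem isMon_pi [DecidableEq ι] [Fintype A] (hA : ∀ χ : A → ℂ, IsIrrCharacter A χ → H4.Monomial.IsMon χ)
    {θ : (ι → A) → ℂ} (hθ : IsIrrCharacter (ι → A) θ) : H4.Monomial.IsMon θ := by
  obtain ⟨φ, hφ, rfl⟩ := exists_pf hθ
  choose H lam h using fun i => hA (φ i) (hφ i)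
  refine ⟨Subgroup.pi Set.univ H, prodLam H lam, ?_⟩
  rw [← pf_ind]
  congr 1
  funext i
  exact h i

end H79.PiChar
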